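import Mathlib
import Cfsg.Agent.H469.NBr

/-!
# `p`-subgroups of `GL_n(q)` are cyclic when `n < 2 ord_p(q)`
-/

set_option autoImplicit false

namespace Cfsg.Agent.H877.GLCyc

open Module

section Step

variable {F W : Type*} [Field F] [Finite F] [AddCommGroup W] [Module F W] [FiniteDimensional F W]

/-- the number of moved vectors is divisible by `p` -/
theorem dvd_of_pow_eq_one {p : ℕ} [hp : Fact p.Prime] (hpF : ¬ p ∣ Nat.card F) (g : W →ₗ[F] W) (hg : g ^ p = 1)
    (hg1 : g ≠ 1) : ∃ k, 0 < k ∧ finrank F (LinearMap.ker (g - 1)) + k = finrank F W ∧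
      p ∣ Nat.card F ^ k - 1 := by
  classical
  have hfin : Finite W := Module.finite_of_finite F
  have := Fintype.ofFinite W
  let f : Function.End W := (g : W → W)
  have hf : f ^ p ^ 1 = 1 := by
    rw [pow_one]
    funext w
    have h1 : ∀ n : ℕ, (f ^ n) w = (g ^ n) w := by
      intro n
      induction n with
      | zero => rfl
      | succ n ih =>
        rw [pow_succ', pow_succ']
        change f ((f ^ n) w) = g ((g ^ n) w)
        rw [ih]
    rw [h1, hg]
    rfl
  have h1 : Nat.card W ≡ Nat.card (Function.fixedPoints f) [MOD p] := by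
    rw [Nat.card_eq_fintype_card, Nat.card_eq_fintype_card]
    exact Equiv.Perm.card_fixedPoints_modEq (f := f) (p := p) (n := 1) hf
  set K := LinearMap.ker (g - 1) with hK
  have hmem : ∀ w, w ∈ Function.fixedPoints f ↔ w ∈ K := by
    intro w
    rw [hK, LinearMap.mem_ker, LinearMap.sub_apply, sub_eq_zero]
    rfl
  have h2 : Nat.card (Function.fixedPoints f) = Nat.card K :=
    Nat.card_congr (Equiv.subtypeEquivRight hmem)
  have hlt : K < ⊤ := by
    rw [lt_top_iff_ne_top]
    intro h
    apply hg1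
    have : g - 1 = 0 := LinearMap.ker_eq_top.mp h
    exact sub_eq_zero.mp this
  have h3 : finrank F K < finrank F W := Submodule.finrank_lt hlt.ne
  refine ⟨finrank F W - finrank F K, by omega, by omega, ?_⟩
  rw [h2, Module.natCard_eq_pow_finrank (K := F), Module.natCard_eq_pow_finrank (K := F) (V := K)] at h1
  have h4 : p ∣ Nat.card F ^ finrank F W - Nat.card F ^ finrank F K :=
    (Nat.modEq_iff_dvd' (Nat.pow_le_pow_right Nat.card_pos h3.le)).mp h1.symm
  have h5 : Nat.card F ^ finrank F W - Nat.card F ^ finrank F K =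
      Nat.card F ^ finrank F K * (Nat.card F ^ (finrank F W - finrank F K) - 1) := by
    rw [Nat.mul_sub, ← pow_add, mul_one, Nat.add_sub_cancel' h3.le]
  rw [h5] at h4
  rcases (Nat.Prime.dvd_mul hp.out).mp h4 with h6 | h6
  · exact absurd (hp.out.dvd_of_dvd_pow h6) hpF
  · exact h6

end Step

variable {F V : Type*} [Field F] [Finite F] [AddCommGroup V] [Module F V] [FiniteDimensional F V]

/-- **`p`-subgroups of `GL_n(q)`, `n < 2 ord_p(q)`, are cyclic.** -/
theorem isCyclic_of_lt {p : ℕ} [hp : Fact p.Prime] (hp2 : p ≠ 2) (hpF : ¬ p ∣ Nat.card F) {d : ℕ}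
    (hd : ∀ k, 0 < k → k < d → ¬ p ∣ Nat.card F ^ k - 1) (hn : finrank F V < 2 * d) {P : Type*} [Group P]
    [Finite P] (hP : IsPGroup p P) (f : P →* (V →ₗ[F] V)) (hf : Function.Injective f) : IsCyclic P := by
  classical
  by_contra hnc
  have hfinV : Finite V := Module.finite_of_finite F
  have hPt : IsPGroup p (⊤ : Subgroup P) := hP.to_subgroup ⊤
  have hnt : ¬ IsCyclic (⊤ : Subgroup P) := by
    intro h
    exact hnc (isCyclic_of_surjective (Subgroup.topEquiv : (⊤ : Subgroup P) ≃* P) Subgroup.topEquiv.surjective)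
  obtain ⟨A, -, hA, hcomm, hexp⟩ := Cfsg.Agent.H469.exists_sq hp2 hPt hnt
  let φ : A →* AddMonoid.End V :=
    { toFun := fun a => (f a).toAddMonoidHom
      map_one' := by
        apply AddMonoidHom.ext; intro v
        change (f ((1 : A) : P)) v = v
        rw [Subgroup.coe_one, map_one]; rfl
      map_mul' := fun a b => by
        apply AddMonoidHom.ext; intro v
        change (f ((a * b : A) : P)) v = f a (f b v)
        rw [Subgroup.coe_mul, map_mul]; rfl }
  have hφ : ∀ a v, φ a v = f a v := fun _ _ => rfl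
  obtain ⟨r, hrc⟩ := CharP.exists F
  have hr : r.Prime := (CharP.char_is_prime_or_zero F r).resolve_right (CharP.char_ne_zero_of_finite F r)
  have : Fact r.Prime := ⟨hr⟩
  have hrp : r ≠ p := by
    rintro rfl
    apply hpF
    have := Fintype.ofFinite F
    obtain ⟨k, -, hk⟩ := FiniteField.card F r
    rw [Nat.card_eq_fintype_card, hk]
    exact dvd_pow_self r k.ne_zero
  have hpV : ∀ v : V, p • v = 0 → v = 0 := by
    intro v hv
    have h6 : (p : F) • v = 0 := by rw [← hv, Nat.cast_smul_eq_nsmul]
    have h7 : (p : F) ≠ 0 := by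
      intro h0
      rw [CharP.cast_eq_zero_iff F r] at h0
      exact hrp ((Nat.prime_dvd_prime_iff_eq hr hp.out).mp h0)
    exact (smul_eq_zero.mp h6).resolve_left h7
  obtain ⟨a, v, b, ha, hav, hbv⟩ := Cfsg.Agent.H469.exists_fix (A := A)
    (fun a b => Subtype.ext (hcomm a a.2 b b.2))
    (Cfsg.Agent.H469.not_isCyclic_of_sq hp.out hA hexp) φ (p := p) (fun a => Subtype.ext (hexp a a.2)) hpV (by
      have hnt : Nontrivial A := by
        rw [← Finite.one_lt_card_iff_nontrivial, hA]
        exact Nat.one_lt_pow two_ne_zero hp.out.one_lt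
      obtain ⟨a, ha⟩ := exists_ne (1 : A)
      by_contra hcon
      push Not at hcon
      apply ha
      apply Subtype.ext
      apply hf
      rw [Subgroup.coe_one, map_one]
      ext v
      exact hcon a v)
  -- the linear maps
  have hcab : f (a : P) * f (b : P) = f (b : P) * f (a : P) := by
    rw [← map_mul, ← map_mul, hcomm a a.2 b b.2]
  have hap : (f (a : P)) ^ p = 1 := by rw [← map_pow, hexp a a.2, map_one]
  have hbp : (f (b : P)) ^ p = 1 := by rw [← map_pow, hexp b b.2, map_one]
  have ha1 : f (a : P) ≠ 1 := by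
    intro h
    apply ha
    apply Subtype.ext
    apply hf
    rw [h, Subgroup.coe_one, map_one]
  obtain ⟨k, hk0, hk, hkd⟩ := dvd_of_pow_eq_one hpF (f (a : P)) hap ha1
  set W := LinearMap.ker (f (a : P) - 1) with hW
  have hWmem : ∀ w, w ∈ W ↔ f (a : P) w = w := by
    intro w
    rw [hW, LinearMap.mem_ker, LinearMap.sub_apply, sub_eq_zero]
    rfl
  have hWb : ∀ w ∈ W, f (b : P) w ∈ W := by
    intro w hw
    rw [hWmem] at hw ⊢
    change (f (a : P) * f (b : P)) w = _
    rw [hcab]
    change f (b : P) (f (a : P) w) = _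
    rw [hw]
  let g : W →ₗ[F] W := (f (b : P)).restrict hWb
  have hgn : ∀ (n : ℕ) (w : W), (((g ^ n) w : W) : V) = (f (b : P) ^ n) w := by
    intro n w
    induction n with
    | zero => rfl
    | succ n ih =>
      rw [pow_succ', pow_succ']
      change f (b : P) (((g ^ n) w : W) : V) = f (b : P) ((f (b : P) ^ n) w)
      rw [ih]
  have hgp : g ^ p = 1 := by
    apply LinearMap.ext
    intro w
    apply Subtype.ext
    rw [hgn, hbp]
    rfl
  have hg1 : g ≠ 1 := by
    intro h
    apply hbv
    rw [hφ] at hav ⊢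
    have h1 := congrArg Subtype.val (LinearMap.congr_fun h (⟨v, (hWmem v).2 hav⟩ : W))
    exact h1
  obtain ⟨l, hl0, hl, hld⟩ := dvd_of_pow_eq_one hpF g hgp hg1
  have h1 : d ≤ k := by
    by_contra hlt
    exact hd k hk0 (by omega) hkd
  have h2 : d ≤ l := by
    by_contra hlt
    exact hd l hl0 (by omega) hld
  omega

end Cfsg.Agent.H877.GLCyc
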