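import Mathlib
import Cfsg.Agent.H459.Iface
import Cfsg.Agent.BpLin.PSL
import Cfsg.Agent.H469.RowPSL
import Cfsg.Agent.H469.IrrCyc
import Cfsg.Agent.H517.Alt
import Cfsg.Agent.H877.GLCyc

/-!
# Radical automorphisms of `PSL_n(q)`: tools

* `FixR.of_conj`, ... : invariance under conjugation in `Aut K`;
* `fixR_fld` : field automorphisms;
* `fixR_of_invariant` : a reducible element normalises an `r`-subgroup;
* `mon` : the monomial case.
-/

set_option autoImplicit false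
set_option linter.unusedSectionVars false

namespace Cfsg.Agent.H877.RadPSL

open Subgroup Cfsg Matrix Cfsg.Agent.H459.Rad Cfsg.Agent.H459.Iface
open Cfsg.Agent.ClassicalGeometry.AutPSL.Root Cfsg.Agent.ClassicalGeometry.AutPSL.Auto
  Cfsg.Agent.ClassicalGeometry.AutPSL.Main Cfsg.Agent.Schreier.ClassPSL
open Cfsg.Agent.H469.RowPSL (mt tv tv_pow tv_zero tv_congr)

section Conj

variable {K : Type*} [Group K]

theorem tr_eq_conj (e x : MulAut K) : Cfsg.Agent.H459.Rad.tr e x = e * x * e⁻¹ := rfl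

end Conj

section Fld

variable {F : Type*} [Field F] {n : ℕ}

theorem coe_tv (v f : Fin n → F) (h : f ⬝ᵥ v = 0) : mt (tv v f h) = 1 + vecMulVec v f := rfl

theorem pr_tv_ne_one {v f : Fin n → F} (h : f ⬝ᵥ v = 0) (hv : v ≠ 0) (hf : f ≠ 0) : pr (tv v f h) ≠ 1 := by
  intro h1
  have h2 : pr (1 : Matrix.SpecialLinearGroup (Fin n) F) = pr (tv v f h) := by rw [h1, map_one]
  obtain ⟨c, hc⟩ := exists_smul_of_pr_eq h2
  have hc' : (1 + vecMulVec v f : Matrix (Fin n) (Fin n) F) = c • 1 := hc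
  have h3 : v = c • v := by
    have := congrArg (fun M => M *ᵥ v) hc'
    simpa [add_mulVec, vecMulVec_mulVec, h, smul_mulVec] using this
  have hc1 : c = 1 := by
    have h4 : (1 - c) • v = 0 := by rw [sub_smul, one_smul, ← h3, sub_self]
    rcases smul_eq_zero.mp h4 with h5 | h5
    · exact (sub_eq_zero.mp h5).symm
    · exact absurd h5 hv
  rw [hc1, one_smul] at hc'
  have h5 : vecMulVec v f = 0 := by simpa using hc'
  obtain ⟨i, hi⟩ := Function.ne_iff.mp hv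
  obtain ⟨j, hj⟩ := Function.ne_iff.mp hf
  have h6 := congrFun (congrFun h5 i) j
  rw [vecMulVec_apply] at h6
  exact (mul_ne_zero hi hj) h6

theorem pr_tv_pow {r : ℕ} [CharP F r] {v f : Fin n → F} (h : f ⬝ᵥ v = 0) : pr (tv v f h) ^ r = 1 := by
  rw [← map_pow, tv_pow, ← map_one pr, ← tv_zero v]
  congr 1
  exact tv_congr (by rw [CharP.cast_eq_zero, zero_smul])

/-- a conjugate of a field automorphism fixes a transvection -/
theorem fixR_fld {r : ℕ} [Fact r.Prime] [CharP F r] (hn : 2 ≤ n) (B : GL (Fin n) F) (σ : F ≃+* F) :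
    FixR r (Cfsg.Agent.ClassicalGeometry.AutPSL.Auto.lift (cj B * fld σ * (cj B)⁻¹)) := by
  have h01 : (⟨0, by omega⟩ : Fin n) ≠ ⟨1, by omega⟩ := by
    intro h
    simpa using congrArg Fin.val h
  set t : Matrix.SpecialLinearGroup (Fin n) F := Matrix.SpecialLinearGroup.transvection h01 1 with ht
  have htv : ∃ v f : Fin n → F, ∃ h : f ⬝ᵥ v = 0, v ≠ 0 ∧ f ≠ 0 ∧ t = tv v f h := by
    refine ⟨Pi.single ⟨0, by omega⟩ 1, Pi.single ⟨1, by omega⟩ 1, ?_, ?_, ?_, ?_⟩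
    · rw [single_one_dotProduct, Pi.single_apply, if_neg h01.symm]
    · exact (Pi.single_ne_zero_iff).2 one_ne_zero
    · exact (Pi.single_ne_zero_iff).2 one_ne_zero
    · apply Subtype.ext
      change (1 : Matrix (Fin n) (Fin n) F) + single _ _ 1 = 1 + vecMulVec _ _
      congr 1
      ext i j
      simp only [single_apply, vecMulVec_apply, Pi.single_apply]
      by_cases h1 : i = (⟨0, by omega⟩ : Fin n)
      · by_cases h2 : j = (⟨1, by omega⟩ : Fin n)
        · simp [h1, h2]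
        · simp [h1, h2, Ne.symm h2]
      · simp [h1, Ne.symm h1]
  obtain ⟨v, f, h, hv, hf, htv⟩ := htv
  have hne : pr t ≠ 1 := by rw [htv]; exact pr_tv_ne_one h hv hf
  refine FixR.of_mem (v := pr (cj B t)) ?_ ?_ ⟨1, ?_⟩
  · intro h1
    apply hne
    have h2 : Cfsg.Agent.ClassicalGeometry.AutPSL.Auto.lift (cj B) (pr t) = 1 := h1
    exact (map_eq_one_iff _ (MulEquiv.injective _)).mp h2
  · rw [lift_pr]
    change pr (cj B (fld σ ((cj B)⁻¹ (cj B t)))) = _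
    rw [MulAut.inv_apply_self, ht, fld_transvection, map_one σ]
  · rw [pow_one]
    have h2 : pr (cj B t) = Cfsg.Agent.ClassicalGeometry.AutPSL.Auto.lift (cj B) (pr t) := rfl
    rw [h2, ← map_pow, htv, pr_tv_pow, map_one]

end Fld

section Inv

variable {F : Type*} [Field F] {n : ℕ}

/-- the unipotent group of `0 < U < V` -/
def uni (U : Submodule F (Fin n → F)) : Subgroup (Matrix.SpecialLinearGroup (Fin n) F) where
  carrier := {g | (∀ v, mt g *ᵥ v - v ∈ U) ∧ ∀ u ∈ U, mt g *ᵥ u = u}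
  mul_mem' := by
    rintro a b ⟨ha, ha'⟩ ⟨hb, hb'⟩
    refine ⟨fun v => ?_, fun u hu => ?_⟩
    · have h1 : mt (a * b) *ᵥ v - v = (mt a *ᵥ (mt b *ᵥ v) - mt b *ᵥ v) + (mt b *ᵥ v - v) := by
        rw [mulVec_mulVec]
        change (mt a * mt b) *ᵥ v - v = _
        abel
      rw [h1]
      exact U.add_mem (ha _) (hb _)
    · change (mt a * mt b) *ᵥ u = u
      rw [← mulVec_mulVec, hb' u hu, ha' u hu]
  one_mem' := by
    refine ⟨fun v => ?_, fun u _ => ?_⟩
    · change (1 : Matrix (Fin n) (Fin n) F) *ᵥ v - v ∈ U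
      rw [one_mulVec, sub_self]
      exact U.zero_mem
    · exact one_mulVec u
  inv_mem' := by
    rintro a ⟨ha, ha'⟩
    have h0 : ∀ v, mt a⁻¹ *ᵥ (mt a *ᵥ v) = v := by
      intro v
      rw [mulVec_mulVec, Cfsg.Agent.H469.RowPSL.mt_inv_mul, one_mulVec]
    have hu : ∀ u ∈ U, mt a⁻¹ *ᵥ u = u := by
      intro u hu
      conv_lhs => rw [← ha' u hu]
      exact h0 u
    refine ⟨fun v => ?_, hu⟩
    have h1 : mt a *ᵥ (mt a⁻¹ *ᵥ v) = v := by
      rw [mulVec_mulVec, Cfsg.Agent.H469.RowPSL.mt_mul_inv, one_mulVec]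
    have h2 := ha (mt a⁻¹ *ᵥ v)
    rw [h1] at h2
    rw [← neg_sub]
    exact U.neg_mem h2

theorem mem_uni {U : Submodule F (Fin n → F)} {g : Matrix.SpecialLinearGroup (Fin n) F} :
    g ∈ uni U ↔ (∀ v, mt g *ᵥ v - v ∈ U) ∧ ∀ u ∈ U, mt g *ᵥ u = u := Iff.rfl

theorem isPGroup_uni {r : ℕ} [CharP F r] (U : Submodule F (Fin n → F)) : IsPGroup r (uni U) := by
  rintro ⟨g, hg, hg'⟩
  refine ⟨1, Subtype.ext ?_⟩
  change g ^ r ^ 1 = 1
  rw [pow_one]
  have h1 : ∀ (k : ℕ) (v : Fin n → F), mt (g ^ k) *ᵥ v = v + (k : F) • (mt g *ᵥ v - v) := by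
    intro k v
    induction k with
    | zero =>
      rw [pow_zero, Cfsg.Agent.H469.RowPSL.mt_one, one_mulVec, Nat.cast_zero, zero_smul, add_zero]
    | succ k ih =>
      rw [pow_succ', Cfsg.Agent.H469.RowPSL.mt_mul, ← mulVec_mulVec, ih, mulVec_add, mulVec_smul, hg' _ (hg v),
        Nat.cast_succ, add_smul, one_smul]
      abel
  apply Cfsg.Agent.H469.RowPSL.mt_inj
  rw [Cfsg.Agent.H469.RowPSL.mt_one]
  refine ext_of_mulVec_single fun j => ?_
  rw [h1, CharP.cast_eq_zero, zero_smul, add_zero, one_mulVec]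

theorem exists_perp (U : Submodule F (Fin n → F)) (hU : U ≠ ⊤) : ∃ f : Fin n → F, f ≠ 0 ∧ ∀ u ∈ U, f ⬝ᵥ u = 0 := by
  obtain ⟨φ, hφ0, hφ⟩ := Submodule.exists_le_ker_of_lt_top _ (lt_top_iff_ne_top.mpr hU)
  refine ⟨fun i => φ (Pi.single i 1), ?_, ?_⟩
  · intro h
    apply hφ0
    apply LinearMap.pi_ext'
    intro i
    apply LinearMap.ext_ring
    exact congrFun h i
  · intro u hu
    have h1 : φ u = 0 := LinearMap.mem_ker.mp (hφ hu)
    rw [dotProduct, ← h1]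
    conv_rhs => rw [pi_eq_sum_univ' u, map_sum]
    refine Finset.sum_congr rfl fun i _ => ?_
    rw [map_smul, smul_eq_mul, mul_comm]

/-- **a reducible element of finite order modulo scalars normalises an `r`-subgroup** -/
theorem fixR_of_invariant {r : ℕ} [Fact r.Prime] [CharP F r] {A : GL (Fin n) F} {m : ℕ} {c : F} (hc0 : c ≠ 0)
    (hc : (A : Matrix (Fin n) (Fin n) F) ^ (m + 1) = c • 1) {U : Submodule F (Fin n → F)} (hU0 : U ≠ ⊥)
    (hU1 : U ≠ ⊤) (hA : ∀ u ∈ U, (A : Matrix (Fin n) (Fin n) F) *ᵥ u ∈ U) :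
    FixR r (Cfsg.Agent.ClassicalGeometry.AutPSL.Auto.lift (cj A)) := by
  obtain ⟨u, hu, hu0⟩ := (Submodule.ne_bot_iff U).mp hU0
  obtain ⟨f, hf0, hf⟩ := exists_perp U hU1
  have hfu := hf u hu
  have hAk : ∀ (k : ℕ), ∀ u ∈ U, ((A : Matrix (Fin n) (Fin n) F) ^ k) *ᵥ u ∈ U := by
    intro k
    induction k with
    | zero => intro u hu; rwa [pow_zero, one_mulVec]
    | succ k ih =>
      intro u hu
      rw [pow_succ', ← mulVec_mulVec]
      exact hA _ (ih u hu)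
  have hinv : ((A⁻¹ : GL (Fin n) F) : Matrix (Fin n) (Fin n) F) = c⁻¹ • (A : Matrix (Fin n) (Fin n) F) ^ m := by
    have h1 : (A : Matrix (Fin n) (Fin n) F) * (c⁻¹ • (A : Matrix (Fin n) (Fin n) F) ^ m) = 1 := by
      rw [Matrix.mul_smul, ← pow_succ', hc, smul_smul, inv_mul_cancel₀ hc0, one_smul]
    calc ((A⁻¹ : GL (Fin n) F) : Matrix (Fin n) (Fin n) F)
        = ((A⁻¹ : GL (Fin n) F) : Matrix (Fin n) (Fin n) F) *
          ((A : Matrix (Fin n) (Fin n) F) * (c⁻¹ • (A : Matrix (Fin n) (Fin n) F) ^ m)) := by rw [h1, mul_one]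
      _ = _ := by rw [← mul_assoc, A.inv_mul, one_mul]
  have hA' : ∀ u ∈ U, ((A⁻¹ : GL (Fin n) F) : Matrix (Fin n) (Fin n) F) *ᵥ u ∈ U := by
    intro u hu
    rw [hinv, smul_mulVec]
    exact U.smul_mem _ (hAk m u hu)
  refine ⟨(uni U).map pr, ?_, (isPGroup_uni U).map _, ?_⟩
  · intro h
    have h1 : tv u f hfu ∈ uni U := by
      refine ⟨fun v => ?_, fun w hw => ?_⟩
      · rw [coe_tv, add_mulVec, one_mulVec, add_sub_cancel_left, vecMulVec_mulVec, op_smul_eq_smul]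
        exact U.smul_mem _ hu
      · rw [coe_tv, add_mulVec, one_mulVec, vecMulVec_mulVec, hf w hw]
        simp
    have h2 : pr (tv u f hfu) ∈ (uni U).map pr := ⟨_, h1, rfl⟩
    rw [h, mem_bot] at h2
    exact pr_tv_ne_one hfu hu0 hf0 h2
  · rintro _ ⟨g, ⟨hg, hg'⟩, rfl⟩
    refine ⟨cj A g, ⟨fun v => ?_, fun u hu => ?_⟩, rfl⟩
    · have h1 : mt (cj A g) *ᵥ v - v = (A : Matrix (Fin n) (Fin n) F) *ᵥ
          (mt g *ᵥ (((A⁻¹ : GL (Fin n) F) : Matrix (Fin n) (Fin n) F) *ᵥ v) -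
            ((A⁻¹ : GL (Fin n) F) : Matrix (Fin n) (Fin n) F) *ᵥ v) := by
        rw [mulVec_sub, mulVec_mulVec, mulVec_mulVec, mulVec_mulVec, A.mul_inv, one_mulVec]
        rfl
      rw [h1]
      exact hA _ (hg _)
    · change ((A : Matrix (Fin n) (Fin n) F) * mt g * ((A⁻¹ : GL (Fin n) F) : Matrix (Fin n) (Fin n) F)) *ᵥ u = u
      rw [← mulVec_mulVec, ← mulVec_mulVec, hg' _ (hA' u hu), mulVec_mulVec, A.mul_inv, one_mulVec]

end Inv

end Cfsg.Agent.H877.RadPSL
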