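import Mathlib
import Cfsg.Agent.H877.RadPSLa

/-!
# Radical automorphisms of `PSL_n(q)`: the monomial case

`mon_false` : conjugation by a monomial matrix over an `n`-cycle, `n ≥ 5`, is not radical.
-/

set_option autoImplicit false
set_option linter.unusedSectionVars false

namespace Cfsg.Agent.H877.RadPSL

open Subgroup Cfsg Matrix Cfsg.Agent.H459.Rad Cfsg.Agent.H459.Iface
open Cfsg.Agent.ClassicalGeometry.AutPSL.Root Cfsg.Agent.ClassicalGeometry.AutPSL.Auto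
  Cfsg.Agent.ClassicalGeometry.AutPSL.Main Cfsg.Agent.Schreier.ClassPSL
open Cfsg.Agent.H469.RowPSL (mt mt_mul mt_one mt_mul_inv mt_inv_mul mt_inj)

variable {F : Type*} [Field F] {n : ℕ}

/-- a monomial matrix with underlying permutation `σ` -/
def Mon (M : Matrix (Fin n) (Fin n) F) (σ : Equiv.Perm (Fin n)) : Prop := ∀ i j, M i j ≠ 0 → i = σ j

theorem Mon.mul {M N : Matrix (Fin n) (Fin n) F} {σ τ : Equiv.Perm (Fin n)} (hM : Mon M σ) (hN : Mon N τ) :
    Mon (M * N) (σ * τ) := by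
  intro i j h
  rw [Matrix.mul_apply] at h
  obtain ⟨k, -, hk⟩ := Finset.exists_ne_zero_of_sum_ne_zero h
  have h1 := hN k j (right_ne_zero_of_mul hk)
  have h2 := hM i k (left_ne_zero_of_mul hk)
  rw [h2, h1]
  rfl

theorem Mon.one : Mon (1 : Matrix (Fin n) (Fin n) F) 1 := by
  intro i j h
  by_contra hij
  exact h (Matrix.one_apply_ne hij)

theorem Mon.ne_zero {M N : Matrix (Fin n) (Fin n) F} (hNM : N * M = 1) {σ : Equiv.Perm (Fin n)} (hM : Mon M σ)
    (j : Fin n) : M (σ j) j ≠ 0 := by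
  intro h
  have h1 : (N * M) j j = 0 := by
    rw [Matrix.mul_apply]
    refine Finset.sum_eq_zero fun k _ => ?_
    by_cases hk : M k j = 0
    · rw [hk, mul_zero]
    · rw [hM k j hk, h, mul_zero]
  rw [hNM, Matrix.one_apply_eq] at h1
  exact one_ne_zero h1

theorem Mon.inv {M N : Matrix (Fin n) (Fin n) F} (hNM : N * M = 1) (hMN : M * N = 1) {σ : Equiv.Perm (Fin n)}
    (hM : Mon M σ) : Mon N σ⁻¹ := by
  intro i j h
  have h0 := Mon.ne_zero hNM hM i
  have h1 : (M * N) (σ i) j = M (σ i) i * N i j := by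
    rw [Matrix.mul_apply]
    refine Finset.sum_eq_single i (fun k _ hk => ?_) (fun h => absurd (Finset.mem_univ i) h)
    by_cases h2 : M (σ i) k = 0
    · rw [h2, zero_mul]
    · exact absurd (σ.injective (hM _ _ h2)).symm hk
  have h2 : (M * N) (σ i) j ≠ 0 := by
    rw [h1]
    exact mul_ne_zero h0 h
  rw [hMN] at h2
  have h3 : σ i = j := by
    by_contra h4
    exact h2 (Matrix.one_apply_ne h4)
  rw [← h3]
  simp

theorem Mon.smul {M : Matrix (Fin n) (Fin n) F} {σ : Equiv.Perm (Fin n)} (hM : Mon M σ) (c : F) : Mon (c • M) σ :=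
  fun i j h => hM i j fun h0 => h (by rw [Matrix.smul_apply, h0, smul_zero])

theorem Mon.unique {M N : Matrix (Fin n) (Fin n) F} (hNM : N * M = 1) {σ τ : Equiv.Perm (Fin n)} (hM : Mon M σ)
    (hM' : Mon M τ) : σ = τ := by
  ext j
  rw [hM' _ _ (Mon.ne_zero hNM hM j)]

/-- an element of `PSL_n` represented by a monomial matrix -/
def Rel (m : Matrix.ProjectiveSpecialLinearGroup (Fin n) F) (σ : Equiv.Perm (Fin n)) : Prop :=
  ∃ g : Matrix.SpecialLinearGroup (Fin n) F, pr g = m ∧ Mon (mt g) σ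

theorem Rel.mul {a b : Matrix.ProjectiveSpecialLinearGroup (Fin n) F} {σ τ : Equiv.Perm (Fin n)} (ha : Rel a σ)
    (hb : Rel b τ) : Rel (a * b) (σ * τ) := by
  obtain ⟨g, rfl, hg⟩ := ha
  obtain ⟨h, rfl, hh⟩ := hb
  exact ⟨g * h, map_mul _ _ _, hg.mul hh⟩

theorem Rel.one : Rel (1 : Matrix.ProjectiveSpecialLinearGroup (Fin n) F) 1 := ⟨1, map_one _, Mon.one⟩

theorem Rel.inv {a : Matrix.ProjectiveSpecialLinearGroup (Fin n) F} {σ : Equiv.Perm (Fin n)} (ha : Rel a σ) :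
    Rel a⁻¹ σ⁻¹ := by
  obtain ⟨g, rfl, hg⟩ := ha
  exact ⟨g⁻¹, map_inv _ _, Mon.inv (mt_inv_mul g) (mt_mul_inv g) hg⟩

theorem Rel.unique {a : Matrix.ProjectiveSpecialLinearGroup (Fin n) F} {σ τ : Equiv.Perm (Fin n)} (ha : Rel a σ)
    (ha' : Rel a τ) : σ = τ := by
  obtain ⟨g, rfl, hg⟩ := ha
  obtain ⟨h, hh, hh'⟩ := ha'
  obtain ⟨c, hc⟩ := exists_smul_of_pr_eq hh
  have h1 : Mon (mt g) τ := by
    have h2 : mt g = c • mt h := hc
    rw [h2]
    exact hh'.smul c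
  exact Mon.unique (mt_inv_mul g) hg h1

/-- the monomial group over the alternating group -/
def MA (n : ℕ) (F : Type*) [Field F] : Subgroup (Matrix.ProjectiveSpecialLinearGroup (Fin n) F) where
  carrier := {m | ∃ σ : Equiv.Perm (Fin n), σ ∈ alternatingGroup (Fin n) ∧ Rel m σ}
  mul_mem' := by
    rintro a b ⟨σ, hσ, ha⟩ ⟨τ, hτ, hb⟩
    exact ⟨σ * τ, mul_mem hσ hτ, ha.mul hb⟩
  one_mem' := ⟨1, one_mem _, Rel.one⟩
  inv_mem' := by
    rintro a ⟨σ, hσ, ha⟩
    exact ⟨σ⁻¹, inv_mem hσ, ha.inv⟩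

theorem mem_MA {m : Matrix.ProjectiveSpecialLinearGroup (Fin n) F} :
    m ∈ MA n F ↔ ∃ σ : Equiv.Perm (Fin n), σ ∈ alternatingGroup (Fin n) ∧ Rel m σ := Iff.rfl

/-- the permutation -/
noncomputable def prm : MA n F →* alternatingGroup (Fin n) where
  toFun m := ⟨m.2.choose, m.2.choose_spec.1⟩
  map_one' := by
    apply Subtype.ext
    exact Rel.unique (1 : MA n F).2.choose_spec.2 Rel.one
  map_mul' a b := by
    apply Subtype.ext
    exact Rel.unique (a * b).2.choose_spec.2 (Rel.mul a.2.choose_spec.2 b.2.choose_spec.2)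

theorem prm_eq {m : MA n F} {σ : Equiv.Perm (Fin n)} (h : Rel (m : Matrix.ProjectiveSpecialLinearGroup (Fin n) F) σ) :
    (prm m : Equiv.Perm (Fin n)) = σ := Rel.unique m.2.choose_spec.2 h

theorem exists_rel {σ : Equiv.Perm (Fin n)} (hσ : σ ∈ alternatingGroup (Fin n)) :
    ∃ m : Matrix.ProjectiveSpecialLinearGroup (Fin n) F, Rel m σ := by
  have hdet : ((σ⁻¹).permMatrix F).det = 1 := by
    rw [det_permutation, Equiv.Perm.sign_inv, Equiv.Perm.mem_alternatingGroup.mp hσ]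
    simp
  refine ⟨pr ⟨(σ⁻¹).permMatrix F, hdet⟩, ⟨(σ⁻¹).permMatrix F, hdet⟩, rfl, ?_⟩
  intro i j h
  change (σ⁻¹).permMatrix F i j ≠ 0 at h
  by_contra hij
  apply h
  rw [Equiv.Perm.permMatrix, PEquiv.toMatrix_apply, Equiv.toPEquiv_apply, if_neg]
  simp only [Option.mem_def, Option.some.injEq]
  rintro rfl
  exact hij (by simp)

theorem prm_surjective : Function.Surjective (prm : MA n F →* alternatingGroup (Fin n)) := by
  intro σ
  obtain ⟨m, hm⟩ := exists_rel (F := F) σ.2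
  exact ⟨⟨m, σ, σ.2, hm⟩, Subtype.ext (prm_eq hm)⟩

theorem MA_ne_top (hn : 2 ≤ n) : MA n F ≠ ⊤ := by
  intro h
  have h01 : (⟨0, by omega⟩ : Fin n) ≠ ⟨1, by omega⟩ := by
    intro h
    simpa using congrArg Fin.val h
  set t : Matrix.SpecialLinearGroup (Fin n) F := Matrix.SpecialLinearGroup.transvection h01 1 with ht
  have h1 : pr t ∈ MA n F := by rw [h]; exact mem_top _
  obtain ⟨σ, -, g, hg, hg'⟩ := h1
  obtain ⟨c, hc⟩ := exists_smul_of_pr_eq hg
  have h2 : Mon (mt t) σ := by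
    have h3 : mt t = c • mt g := hc
    rw [h3]
    exact hg'.smul c
  have hmt : mt t = 1 + single (⟨0, by omega⟩ : Fin n) (⟨1, by omega⟩ : Fin n) (1 : F) := rfl
  have h3 := h2 ⟨0, by omega⟩ ⟨1, by omega⟩ (by
    rw [hmt, Matrix.add_apply, one_apply_ne h01, single_apply_same, zero_add]
    exact one_ne_zero)
  have h4 := h2 ⟨1, by omega⟩ ⟨1, by omega⟩ (by
    rw [hmt, Matrix.add_apply, one_apply_eq, single_apply_of_row_ne h01, add_zero]
    exact one_ne_zero)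
  exact h01 (h3.trans h4.symm)

/-- **a monomial matrix over an `n`-cycle does not induce a radical automorphism** -/
theorem mon_false [Finite F] (hn : 5 ≤ n) {C : GL (Fin n) F} {π : Equiv.Perm (Fin n)}
    (hC : Mon (C : Matrix (Fin n) (Fin n) F) π) (hπ : ∃ a b c : Fin n, a ≠ b ∧ b ≠ c ∧ a ≠ c ∧ π⁻¹ a ≠ a ∧ π⁻¹ a ≠ b ∧
      π⁻¹ a ≠ c) (hR : RC (Cfsg.Agent.ClassicalGeometry.AutPSL.Auto.lift (cj C))) : False := by
  set x := Cfsg.Agent.ClassicalGeometry.AutPSL.Auto.lift (cj C) with hx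
  have hC' : Mon ((C⁻¹ : GL (Fin n) F) : Matrix (Fin n) (Fin n) F) π⁻¹ := Mon.inv C.inv_mul C.mul_inv hC
  have key : ∀ {m : Matrix.ProjectiveSpecialLinearGroup (Fin n) F} {σ : Equiv.Perm (Fin n)}, Rel m σ →
      Rel (x m) (π * σ * π⁻¹) := by
    rintro _ σ ⟨g, rfl, hg⟩
    exact ⟨cj C g, rfl, (hC.mul hg).mul hC'⟩
  have hinv : ∀ m ∈ MA n F, x m ∈ MA n F := by
    rintro m ⟨σ, hσ, hm⟩
    refine ⟨π * σ * π⁻¹, ?_, key hm⟩
    rw [Equiv.Perm.mem_alternatingGroup] at hσ ⊢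
    rw [map_mul, map_mul, hσ, mul_one, ← map_mul, mul_inv_cancel, map_one]
  have hsimple : IsSimpleGroup (alternatingGroup (Fin n)) :=
    alternatingGroup.isSimpleGroup (by rw [Nat.card_fin]; exact hn)
  have hrad : solvableRadical (alternatingGroup (Fin n)) = ⊥ :=
    rad_eq_bot_of_simple (Cfsg.Agent.H517.Alt.not_isSolvable hn)
  have h1 := hR.map_eq (MA_ne_top (by omega)) hinv prm prm_surjective hrad
  obtain ⟨a, b, c, hab, hbc, hac, h2, h3, h4⟩ := hπ
  have hσ : Equiv.swap a b * Equiv.swap a c ∈ alternatingGroup (Fin n) := by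
    rw [Equiv.Perm.mem_alternatingGroup, map_mul, Equiv.Perm.sign_swap hab, Equiv.Perm.sign_swap hac]
    simp
  obtain ⟨m, hm⟩ := exists_rel (F := F) hσ
  have h5 := h1 ⟨m, _, hσ, hm⟩
  have h6 := congrArg (fun s : alternatingGroup (Fin n) => (s : Equiv.Perm (Fin n))) h5
  simp only at h6
  rw [prm_eq (key hm), prm_eq hm] at h6
  have h7 := congrArg (fun s : Equiv.Perm (Fin n) => s a) h6
  simp only [Equiv.Perm.mul_apply] at h7
  rw [Equiv.swap_apply_of_ne_of_ne h2 h4, Equiv.swap_apply_of_ne_of_ne h2 h3, Equiv.swap_apply_left,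
    Equiv.swap_apply_of_ne_of_ne hac.symm hbc.symm] at h7
  have h8 : π (π⁻¹ a) = a := by simp
  rw [h8] at h7
  exact hac h7

end Cfsg.Agent.H877.RadPSL
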