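import Mathlib
import Cfsg.Agent.H877.RadPSLb

/-!
# The row `PSL_n(q)`, `n ≥ 3`, of `S3829`
-/

set_option autoImplicit false
set_option linter.unusedSectionVars false

namespace Cfsg.Agent.H877.RadPSL

open Subgroup Cfsg Matrix Cfsg.Agent.H459.Rad Cfsg.Agent.H459.Iface
open Cfsg.Agent.ClassicalGeometry.AutPSL.Root Cfsg.Agent.ClassicalGeometry.AutPSL.Auto
  Cfsg.Agent.ClassicalGeometry.AutPSL.Main Cfsg.Agent.Schreier.ClassPSL Cfsg.Agent.BpLin
open Cfsg.Agent.H469.RowPSL (mt mt_mul mt_one mt_mul_inv mt_inv_mul mt_inj mt_pow)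

section Cyc

variable {F : Type*} [Field F] [Fintype F] {n : ℕ}

/-- the order of `q` modulo `p` is the degree of an irreducible element of order `p` -/
theorem ord_of_irr {r p : ℕ} [hr : Fact r.Prime] [hp : Fact p.Prime] [CharP F r] (hpr : p ≠ r) {V : Type*}
    [AddCommGroup V] [Module F V] [FiniteDimensional F V] [Nontrivial V] (T : V →ₗ[F] V) (hTp : T ^ p = 1)
    (hT1 : T ≠ 1) (hs : ∀ W : Submodule F V, (∀ w ∈ W, T w ∈ W) → W = ⊥ ∨ W = ⊤) :
    (∀ k, 0 < k → k < Module.finrank F V → ¬ p ∣ Nat.card F ^ k - 1) := by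
  intro k hk0 hk hdvd
  obtain ⟨f, -, hf⟩ := FiniteField.card F r
  have hirr := Cfsg.Agent.H469.IrrCyc.minpoly_irreducible T hs
  have hcop : r.Coprime p := (Nat.coprime_primes hr.out hp.out).mpr hpr.symm
  have hdiv : minpoly F T ∣ Polynomial.cyclotomic p F := by
    have h1 : minpoly F T ∣ Polynomial.X ^ p - 1 := by
      apply minpoly.dvd
      rw [map_sub, map_pow, Polynomial.aeval_X, map_one, hTp, sub_self]
    rw [← Polynomial.cyclotomic_prime_mul_X_sub_one] at h1
    rcases hirr.prime.dvd_or_dvd h1 with h | h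
    · exact h
    · exfalso
      apply hT1
      obtain ⟨g, hg⟩ := h
      have h2 : Polynomial.aeval T (Polynomial.X - 1 : Polynomial F) = 0 := by
        rw [hg, map_mul, minpoly.aeval, zero_mul]
      rw [map_sub, Polynomial.aeval_X, map_one, sub_eq_zero] at h2
      exact h2
  have hdeg := Polynomial.natDegree_of_dvd_cyclotomic_of_irreducible (K := F) (p := r) (f := f) (n := p) hf hcop
    hdiv hirr
  rw [← Cfsg.Agent.H469.IrrCyc.finrank_eq T hs, Cfsg.Agent.H469.IrrCyc.orderOf_unitOfCoprime, ← hf] at hdeg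
  have h1 : ((Fintype.card F : ℕ) : ZMod p) ^ k = 1 := by
    have h2 : ((Fintype.card F ^ k - 1 : ℕ) : ZMod p) = 0 := by
      rw [ZMod.natCast_eq_zero_iff, ← Nat.card_eq_fintype_card]
      exact hdvd
    rw [Nat.cast_sub (Nat.one_le_pow _ _ Fintype.card_pos), Nat.cast_pow, Nat.cast_one, sub_eq_zero] at h2
    exact h2
  have h3 := orderOf_dvd_of_pow_eq_one h1
  rw [← hdeg] at h3
  exact absurd (Nat.le_of_dvd hk0 h3) (by omega)

/-- the irreducible case with `A ^ p = 1` -/
theorem cyc_of_irr {r p : ℕ} [hr : Fact r.Prime] [hp : Fact p.Prime] [CharP F r] (hp5 : 5 ≤ p) (hpr : p ≠ r)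
    (hn : 2 ≤ n) {A : GL (Fin n) F} (hA : A ^ p = 1) (hA1 : A ≠ 1)
    (hs : ∀ W : Submodule F (Fin n → F), (∀ w ∈ W, (A : Matrix (Fin n) (Fin n) F) *ᵥ w ∈ W) → W = ⊥ ∨ W = ⊤) :
    Cyc p (Cfsg.Agent.ClassicalGeometry.AutPSL.Auto.lift (cj A)) := by
  have hne : NeZero n := ⟨by omega⟩
  have hpF : ¬ p ∣ Nat.card F := by
    intro h
    obtain ⟨f, -, hf⟩ := FiniteField.card F r
    rw [Nat.card_eq_fintype_card, hf] at h
    exact hpr ((Nat.prime_dvd_prime_iff_eq hp.out hr.out).mp (hp.out.dvd_of_dvd_pow h))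
  have hord := ord_of_irr (F := F) (r := r) (p := p) hpr (toLin' (A : Matrix (Fin n) (Fin n) F))
    (by rw [← toLin'_pow, ← Units.val_pow_eq_pow_val, hA, Units.val_one, toLin'_one]; rfl)
    (by
      intro h
      apply hA1
      apply Units.ext
      apply toLin'.injective
      rw [h, Units.val_one, toLin'_one]
      rfl)
    (by
      intro W hW
      refine hs W fun w hw => ?_
      have := hW w hw
      rwa [toLin'_apply] at this)
  rw [Module.finrank_fin_fun] at hord
  -- `det A = 1`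
  have hdet : (A : Matrix (Fin n) (Fin n) F).det = 1 := by
    have h1 : (Matrix.GeneralLinearGroup.det A) ^ p = 1 := by rw [← map_pow, hA, map_one]
    by_contra h2
    have h3 : Matrix.GeneralLinearGroup.det A ≠ 1 := by
      intro h
      exact h2 (congrArg Units.val h)
    have h4 : orderOf (Matrix.GeneralLinearGroup.det A) = p := orderOf_eq_prime h1 h3
    have h5 : p ∣ Nat.card Fˣ := by rw [← h4]; exact orderOf_dvd_natCard _
    rw [Nat.card_units] at h5
    exact hord 1 one_pos (by omega) (by rw [pow_one]; exact h5)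
  let Ag : Matrix.SpecialLinearGroup (Fin n) F := ⟨(A : Matrix (Fin n) (Fin n) F), hdet⟩
  refine ⟨⟨pr Ag, ?_⟩, ?_⟩
  · apply MulEquiv.ext
    intro y
    obtain ⟨g, rfl⟩ := pr_surjective y
    rw [lift_pr, MulAut.conj_apply, ← map_mul, ← map_inv, ← map_mul]
    congr 1
    apply mt_inj
    rw [mt_mul, mt_mul]
    change (A : Matrix (Fin n) (Fin n) F) * mt g * ((A⁻¹ : GL (Fin n) F) : Matrix (Fin n) (Fin n) F) =
      (A : Matrix (Fin n) (Fin n) F) * mt g * mt Ag⁻¹
    have h1 : mt Ag⁻¹ = ((A⁻¹ : GL (Fin n) F) : Matrix (Fin n) (Fin n) F) := by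
      have h2 := mt_mul_inv Ag
      change (A : Matrix (Fin n) (Fin n) F) * _ = 1 at h2
      calc _ = ((A⁻¹ : GL (Fin n) F) : Matrix (Fin n) (Fin n) F) * ((A : Matrix (Fin n) (Fin n) F) *
          mt Ag⁻¹) := by
            rw [← mul_assoc, A.inv_mul, one_mul]
        _ = _ := by rw [h2, mul_one]
    rw [h1]
  · intro P
    obtain ⟨Q, rfl⟩ := Sylow.mapSurjective_surjective (pr_surjective (ι := Fin n) (F := F)) p P
    have hQ : IsCyclic (Q : Subgroup (Matrix.SpecialLinearGroup (Fin n) F)) := by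
      let f : (Q : Subgroup (Matrix.SpecialLinearGroup (Fin n) F)) →* ((Fin n → F) →ₗ[F] (Fin n → F)) :=
        { toFun := fun q => toLin' (mt (q : Matrix.SpecialLinearGroup (Fin n) F))
          map_one' := by
            change toLin' (mt 1) = 1
            rw [mt_one, toLin'_one]
            rfl
          map_mul' := fun a b => by
            change toLin' (mt (_ * _)) = _
            rw [mt_mul, toLin'_mul]
            rfl }
      refine GLCyc.isCyclic_of_lt (F := F) (V := Fin n → F) (p := p) (by omega) hpF (d := n) hord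
        (by rw [Module.finrank_fin_fun]; omega) Q.isPGroup' f ?_
      intro a b hab
      apply Subtype.ext
      apply mt_inj
      exact toLin'.injective hab
    exact isCyclic_of_surjective ((pr : Matrix.SpecialLinearGroup (Fin n) F →* _).subgroupMap
      (Q : Subgroup (Matrix.SpecialLinearGroup (Fin n) F))) (MonoidHom.subgroupMap_surjective _ _)

end Cyc

section Kummer

variable {F : Type*} [Field F] {n : ℕ}

/-- the irreducible case, `A ^ p = c` not a `p`-th power -/
theorem kummer_false [Finite F] {p : ℕ} [hp : Fact p.Prime] (hp5 : 5 ≤ p) (hn : 2 ≤ n) {A : GL (Fin n) F} {c : F}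
    (hc0 : c ≠ 0) (hA : (A : Matrix (Fin n) (Fin n) F) ^ p = c • 1) (hc : ∀ d : F, d ^ p ≠ c)
    (hs : ∀ W : Submodule F (Fin n → F), (∀ w ∈ W, (A : Matrix (Fin n) (Fin n) F) *ᵥ w ∈ W) → W = ⊥ ∨ W = ⊤)
    (hR : RC (Cfsg.Agent.ClassicalGeometry.AutPSL.Auto.lift (cj A))) : False := by
  have hne : NeZero n := ⟨by omega⟩
  set T := toLin' (A : Matrix (Fin n) (Fin n) F) with hT
  have hs' : ∀ W : Submodule F (Fin n → F), (∀ w ∈ W, T w ∈ W) → W = ⊥ ∨ W = ⊤ := by
    intro W hW
    refine hs W fun w hw => ?_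
    have := hW w hw
    rwa [hT, toLin'_apply] at this
  have hTp : T ^ p = algebraMap F _ c := by
    rw [hT, ← toLin'_pow, hA]
    apply LinearMap.ext
    intro v
    rw [toLin'_apply, smul_mulVec, one_mulVec]
    rfl
  have hirr := Cfsg.Agent.H469.IrrCyc.minpoly_irreducible T hs'
  have hdeg : Module.finrank F (Fin n → F) = p := by
    rw [Cfsg.Agent.H469.IrrCyc.finrank_eq T hs']
    have h1 : minpoly F T ∣ Polynomial.X ^ p - Polynomial.C c := by
      apply minpoly.dvd
      rw [map_sub, map_pow, Polynomial.aeval_X, Polynomial.aeval_C, hTp, sub_self]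
    have h2 := X_pow_sub_C_irreducible_of_prime hp.out hc
    have h3 := (hirr.dvd_irreducible_iff_associated h2).mp h1
    rw [Polynomial.natDegree_eq_of_degree_eq (Polynomial.degree_eq_degree_of_associated h3),
      Polynomial.natDegree_X_pow_sub_C]
  rw [Module.finrank_fin_fun] at hdeg
  subst hdeg
  obtain ⟨v, hv⟩ := exists_ne (0 : Fin n → F)
  let b : Fin n → Fin n → F := fun i => ((A : Matrix (Fin n) (Fin n) F) ^ (i : ℕ)) *ᵥ v
  have hstep : ∀ i : Fin n, ∃ s : F, (A : Matrix (Fin n) (Fin n) F) *ᵥ b i = s • b (i + 1) := by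
    intro i
    by_cases hi : (i : ℕ) + 1 < n
    · refine ⟨1, ?_⟩
      rw [one_smul]
      have h1 : ((i + 1 : Fin n) : ℕ) = i + 1 := Fin.val_add_one_of_lt' hi
      change (A : Matrix (Fin n) (Fin n) F) *ᵥ (((A : Matrix (Fin n) (Fin n) F) ^ (i : ℕ)) *ᵥ v) =
        ((A : Matrix (Fin n) (Fin n) F) ^ ((i + 1 : Fin n) : ℕ)) *ᵥ v
      rw [h1, mulVec_mulVec, ← pow_succ']
    · refine ⟨c, ?_⟩
      have h0 : (i : ℕ) + 1 = n := by have := i.2; omega
      have h1 : ((i + 1 : Fin n) : ℕ) = 0 := by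
        rw [Fin.val_add, Fin.val_one', Nat.add_mod_mod, h0, Nat.mod_self]
      change (A : Matrix (Fin n) (Fin n) F) *ᵥ (((A : Matrix (Fin n) (Fin n) F) ^ (i : ℕ)) *ᵥ v) =
        c • (((A : Matrix (Fin n) (Fin n) F) ^ ((i + 1 : Fin n) : ℕ)) *ᵥ v)
      rw [h1, mulVec_mulVec, ← pow_succ', h0, hA, smul_mulVec, one_mulVec, pow_zero, one_mulVec]
  choose s hs1 using hstep
  have hspan : Submodule.span F (Set.range b) = ⊤ := by
    rcases hs (Submodule.span F (Set.range b)) (by
      intro w hw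
      induction hw using Submodule.span_induction with
      | mem w hw =>
        obtain ⟨i, rfl⟩ := hw
        rw [hs1]
        exact Submodule.smul_mem _ _ (Submodule.subset_span ⟨_, rfl⟩)
      | zero => rw [mulVec_zero]; exact Submodule.zero_mem _
      | add x y _ _ hx hy => rw [mulVec_add]; exact Submodule.add_mem _ hx hy
      | smul a x _ hx => rw [mulVec_smul]; exact Submodule.smul_mem _ _ hx) with h | h
    · exfalso
      apply hv
      have h1 : b 0 ∈ Submodule.span F (Set.range b) := Submodule.subset_span ⟨0, rfl⟩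
      rw [h, Submodule.mem_bot] at h1
      have h2 : b 0 = v := by
        change ((A : Matrix (Fin n) (Fin n) F) ^ ((0 : Fin n) : ℕ)) *ᵥ v = v
        rw [Fin.val_zero, pow_zero, one_mulVec]
      rw [← h2, h1]
    · exact h
  have hli : LinearIndependent F b :=
    linearIndependent_of_top_le_span_of_card_eq_finrank (by rw [hspan]) (by simp)
  let B₀ : Matrix (Fin n) (Fin n) F := Matrix.of fun i j => b j i
  have hu : IsUnit B₀ := by
    rw [← Matrix.linearIndependent_cols_iff_isUnit]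
    exact hli
  obtain ⟨B, hB⟩ := hu
  let C₀ : Matrix (Fin n) (Fin n) F := Matrix.of fun i j => if i = j + 1 then s j else 0
  have hAB : (A : Matrix (Fin n) (Fin n) F) * (B : Matrix (Fin n) (Fin n) F) = (B : Matrix (Fin n) (Fin n) F) * C₀ := by
    rw [hB]
    ext i j
    have h1 := congrFun (hs1 j) i
    have h2 : ((A : Matrix (Fin n) (Fin n) F) * B₀) i j = ((A : Matrix (Fin n) (Fin n) F) *ᵥ b j) i := rfl
    rw [h2, h1, Matrix.mul_apply, Finset.sum_eq_single (j + 1)]
    · change s j * b (j + 1) i = b (j + 1) i * (if j + 1 = j + 1 then s j else 0)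
      rw [if_pos rfl, mul_comm]
    · intro k _ hk
      change b k i * (if k = j + 1 then s j else 0) = 0
      rw [if_neg hk, mul_zero]
    · intro h
      exact absurd (Finset.mem_univ _) h
  have hC : ((B⁻¹ * A * B : GL (Fin n) F) : Matrix (Fin n) (Fin n) F) = C₀ := by
    rw [Units.val_mul, Units.val_mul, mul_assoc, hAB, ← mul_assoc, B.inv_mul, one_mul]
  have hmon : Mon ((B⁻¹ * A * B : GL (Fin n) F) : Matrix (Fin n) (Fin n) F) (Equiv.addRight (1 : Fin n)) := by
    rw [hC]
    intro i j h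
    change (if i = j + 1 then s j else 0) ≠ 0 at h
    change i = j + 1
    by_contra hij
    rw [if_neg hij] at h
    exact h rfl
  have hR' := RC.tr (Cfsg.Agent.ClassicalGeometry.AutPSL.Auto.lift (cj B))⁻¹ hR
  rw [tr_eq_conj, inv_inv, ← map_inv, ← map_mul, ← map_mul, ← map_inv, ← map_mul, ← map_mul] at hR'
  have hval : ∀ k : Fin n, (k : ℕ) < 3 → (Equiv.addRight (1 : Fin n))⁻¹ ⟨0, by omega⟩ ≠ k := by
    intro k hk h
    have h1 : (Equiv.addRight (1 : Fin n)) k = ⟨0, by omega⟩ := by rw [← h]; simp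
    have h2 : k + 1 = ⟨0, by omega⟩ := h1
    have h3 := congrArg Fin.val h2
    rw [Fin.val_add, Fin.val_one', Nat.add_mod_mod, Nat.mod_eq_of_lt (by omega)] at h3
    simp at h3
  refine mon_false hp5 hmon ⟨⟨0, by omega⟩, ⟨1, by omega⟩, ⟨2, by omega⟩, ?_, ?_, ?_, ?_, ?_, ?_⟩ hR'
  · intro h; simpa using congrArg Fin.val h
  · intro h; simpa using congrArg Fin.val h
  · intro h; simpa using congrArg Fin.val h
  · exact hval _ (by simp)
  · exact hval _ (by simp)
  · exact hval _ (by simp)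

end Kummer

/-- **The row `PSL_n(q)`, `n ≥ 3`.** -/
theorem clAt_psl {K : Type*} [Group K] [Finite K] [IsSimpleGroup K] {F : Type} [Field F] [Fintype F] {n r p : ℕ}
    [Fact r.Prime] [Fact p.Prime] [CharP F r] (hn : 3 ≤ n)
    (e : Nonempty (K ≃* Matrix.ProjectiveSpecialLinearGroup (Fin n) F)) (hp : 5 ≤ p) (hpr : p ≠ r) :
    Cfsg.Agent.H459.Iface.ClAt r p K := by
  obtain ⟨e⟩ := e
  refine ClAt.congr e ?_
  intro x hx hR
  have hxp : x ^ p = 1 := by rw [← hx]; exact pow_orderOf_eq_one x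
  have hn0 : NeZero n := ⟨by omega⟩
  have hnt : Nontrivial (Fin n) := Fin.nontrivial_iff_two_le.2 (by omega)
  have hp' : p.Prime := Fact.out
  obtain ⟨A, σ, rfl⟩ := exists_type (n := n) (F := F) (by omega) (hp'.odd_of_ne_two (by omega)) hxp
  rw [← map_pow, pow_type] at hxp
  have h1 : Cfsg.Agent.ClassicalGeometry.AutPSL.Auto.lift (cj (NA A σ p) * fld (σ ^ p)) =
      Cfsg.Agent.ClassicalGeometry.AutPSL.Auto.lift (fld (ι := Fin n) (1 : F ≃+* F)) := by
    rw [hxp, map_one fld, map_one]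
  obtain ⟨⟨c, hc⟩, hσ⟩ := injective_aux h1
  have hc' : (NA A σ p : Matrix (Fin n) (Fin n) F) = c • 1 := by
    rw [← hc, Matrix.scalar_apply, Matrix.smul_one_eq_diagonal]
  by_cases h2 : σ = 1
  · subst h2
    rw [map_one fld, mul_one] at hR hx ⊢
    rw [NA_one] at hc'
    have hc0 : c ≠ 0 := by
      rintro rfl
      rw [zero_smul] at hc'
      have h6 : (1 : Matrix (Fin n) (Fin n) F) = 0 := by
        rw [← (A ^ p).mul_inv, hc', zero_mul]
      have h7 := congrFun (congrFun h6 0) 0
      rw [Matrix.one_apply_eq] at h7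
      exact one_ne_zero h7
    rw [Units.val_pow_eq_pow_val] at hc'
    by_cases hU : ∃ U : Submodule F (Fin n → F), U ≠ ⊥ ∧ U ≠ ⊤ ∧
        ∀ u ∈ U, (A : Matrix (Fin n) (Fin n) F) *ᵥ u ∈ U
    · obtain ⟨U, hU0, hU1, hU⟩ := hU
      left
      obtain ⟨m, rfl⟩ : ∃ m, p = m + 1 := ⟨p - 1, by omega⟩
      exact fixR_of_invariant hc0 hc' hU0 hU1 hU
    · have hs : ∀ W : Submodule F (Fin n → F), (∀ w ∈ W, (A : Matrix (Fin n) (Fin n) F) *ᵥ w ∈ W) →
          W = ⊥ ∨ W = ⊤ := by
        intro W hW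
        by_contra hcon
        push Not at hcon
        exact hU ⟨W, hcon.1, hcon.2, hW⟩
      by_cases hd : ∃ d : F, d ^ p = c
      · right
        obtain ⟨d, rfl⟩ := hd
        have hd0 : d ≠ 0 := by
          rintro rfl
          exact hc0 (zero_pow hp'.ne_zero)
        let A' : GL (Fin n) F := Matrix.GeneralLinearGroup.scalar (Fin n) (Units.mk0 d⁻¹ (inv_ne_zero hd0)) * A
        have hA' : (A' : Matrix (Fin n) (Fin n) F) = d⁻¹ • (A : Matrix (Fin n) (Fin n) F) := by
          rw [Units.val_mul]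
          change Matrix.scalar (Fin n) d⁻¹ * (A : Matrix (Fin n) (Fin n) F) = _
          rw [Matrix.scalar_apply, ← Matrix.smul_one_eq_diagonal, Matrix.smul_mul, one_mul]
        rw [← cj_smul (inv_ne_zero hd0) hA'] at hx ⊢
        refine cyc_of_irr (r := r) hp hpr (by omega) ?_ ?_ ?_
        · apply Units.ext
          rw [Units.val_pow_eq_pow_val, hA', smul_pow, hc', smul_smul, inv_pow, inv_mul_cancel₀ hc0, one_smul,
            Units.val_one]
        · intro h
          rw [h, map_one, map_one, orderOf_one] at hx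
          omega
        · intro W hW
          refine hs W fun w hw => ?_
          have h3 := W.smul_mem d (hW w hw)
          rwa [hA', smul_mulVec, smul_smul, mul_inv_cancel₀ hd0, one_smul] at h3
      · exfalso
        push Not at hd
        exact kummer_false hp (by omega) hc0 hc' hd hs hR
  · left
    obtain ⟨B, hB⟩ := exists_std hp' h2 hσ hc'
    rw [hB]
    exact fixR_fld (by omega) B σ

end Cfsg.Agent.H877.RadPSL
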