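import Cfsg.Agent.H723.Spor.JFour
import Cfsg.Agent.H724.IMTool
import Cfsg.Agent.H593.IMCount2
import Cfsg.Agent.H33.RD
import Cfsg.Agent.S5563
import Cfsg.Agent.S5569
import Cfsg.Agent.S5579
import Cfsg.Agent.H860.PartFiveSeven
import Cfsg.Agent.H695.Spor.RowA
import Cfsg.Agent.H633.ElJ4
import Cfsg.Agent.H856.AutM22
import Cfsg.Agent.H859.ClassEleven

/-!
# Ito-Michler for `J4` (helper877)
-/

set_option autoImplicit false

open Cfsg

namespace Cfsg.Agent.H877.IMJ4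

open Subgroup Cfsg.Agent.H33 Cfsg.Agent.H860.Count Cfsg.Agent.H593.IMCount
open Cfsg.Agent.H723.Spor.JFour Cfsg.Agent.H860.PartFiveSeven Cfsg.Agent.H858
open Cfsg.Agent.Characters.Core Cfsg.Agent.Blocks.Knorr Cfsg.Agent.H860.CountPrime
open Cfsg.Agent.H860.CountDirect
  Cfsg.Agent.H860.CountDirect

theorem finJ4 : Finite Spor.J4 := Cfsg.Agent.H859.SylEleven.finite_J4

attribute [local instance] finJ4

theorem simple : IsSimpleGroup Spor.J4 := Cfsg.Agent.S1703.result.1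

theorem nonab : ¬ IsMulCommutative Spor.J4 := by
  intro hm
  have hsim : IsSimpleGroup Spor.J4 := simple
  have hcen : center Spor.J4 = ⊥ := Cfsg.Agent.H478.RadTools.center_eq_bot (by
    rw [Cfsg.Agent.S1703.result.2]; norm_num)
  have h2 : (⊤ : Subgroup Spor.J4) ≤ center Spor.J4 := fun x _ => mem_center_iff.2 fun y => hm.1.1 y x
  rw [hcen, le_bot_iff] at h2
  exact absurd h2 (top_ne_bot (α := Subgroup Spor.J4))

theorem card_classes : Nat.card (ConjClasses Spor.J4) = 62 := by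
  have hsim : IsSimpleGroup Spor.J4 := simple
  exact Cfsg.Agent.S5579.result nonab
    (Cfsg.Agent.H337.isOfJankoFourType_of_isoJ4 (G := Spor.J4) ⟨MulEquiv.refl _⟩)

/-- the number of classes of `p'`-elements -/
theorem numReg_le_nc {C : Type*} [Group C] [Finite C] (p : ℕ) :
    numReg p C ≤ nc C (fun n => ¬ p ∣ n ∧ True) := by
  unfold numReg nc
  refine Nat.card_le_card_of_injective (fun A => ⟨A.1, ?_⟩) ?_
  · obtain ⟨c, hc⟩ := ConjClasses.exists_rep A.1
    exact ⟨c, hc, A.2 c hc, trivial⟩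
  · intro A B h
    exact Subtype.ext (congrArg (fun y : {c : ConjClasses C // ∃ g, ConjClasses.mk g = c ∧ (¬ p ∣ orderOf g ∧ True)} =>
      y.1) h)

theorem seven : IM 7 Spor.J4 := by
  have hp : Nat.Prime 7 := by norm_num
  have : Fact (Nat.Prime 7) := ⟨hp⟩
  have h49 : ¬ 7 * 7 ∣ Nat.card Cfsg.Spor.J4 := by rw [card_J4]; norm_num
  obtain ⟨a, ha1, ha2, ha3⟩ := exists_reps nc_seven_eq
  have h := nc_part (G := Cfsg.Spor.J4) (p := 7) (fun _ => True) a
    (fun i => ⟨0, by rw [ha1 i]; norm_num⟩) ha2 (fun g hg => by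
      obtain ⟨e, he⟩ := hg
      exact ha3 g (order_of_pow h49 he))
  have h0 : nc Cfsg.Spor.J4 (fun n => 7 ∣ n) = nc Cfsg.Spor.J4 (fun n => 7 ∣ n ∧ True) :=
    nc_congr fun g => (and_iff_left trivial).symm
  rw [← h0, nc_seven, Fin.sum_univ_two] at h
  obtain ⟨i, hi⟩ : ∃ i, nc (Subgroup.centralizer ({a i} : Set Cfsg.Spor.J4)) (fun n => ¬ 7 ∣ n ∧ True) ≤ 7 := by
    by_contra hcon
    push Not at hcon
    have h1 := hcon 0
    have h2 := hcon 1
    omega
  refine IM_of_count (x := a i) ⟨1, by rw [ha1 i]; norm_num⟩ ?_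
  have h1 : (Nat.card (Subgroup.centralizer ({a i} : Set Cfsg.Spor.J4))).factorization 7 ≤ 1 := by
    by_contra hlt
    push Not at hlt
    apply h49
    rw [← pow_two]
    exact ((Nat.pow_dvd_pow 7 hlt).trans (Nat.ordProj_dvd _ _)).trans (Subgroup.card_subgroup_dvd_card _)
  rw [card_classes]
  refine lt_of_le_of_lt (Nat.mul_le_mul (Nat.pow_le_pow_right (by norm_num) h1)
    ((numReg_le_nc 7).trans hi)) (by norm_num)

theorem perm_five : nc (Equiv.Perm (Fin 5)) (fun n => 5 ∣ n) ≤ 1 := by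
  unfold nc
  rw [Finite.card_le_one_iff_subsingleton]
  have key : ∀ g : Equiv.Perm (Fin 5), 5 ∣ orderOf g → g.cycleType = {5} := by
    intro g hg
    obtain ⟨i, hi⟩ := Cfsg.Agent.H860.SFive.exists_ms g.cycleType (by
      have := g.sum_cycleType_le
      rwa [Fintype.card_fin] at this) (fun a ha => Equiv.Perm.two_le_of_mem_cycleType ha)
    rw [← Equiv.Perm.lcm_cycleType, hi] at hg
    have h : ∀ i, 5 ∣ (Cfsg.Agent.H860.SFive.ms i).lcm → Cfsg.Agent.H860.SFive.ms i = {5} := by decide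
    rw [hi]
    exact h i hg
  constructor
  rintro ⟨_, g, rfl, hg⟩ ⟨_, h, rfl, hh⟩
  apply Subtype.ext
  rw [ConjClasses.mk_eq_mk_iff_isConj, Equiv.Perm.isConj_iff_cycleType_eq, key g hg, key h hh]

theorem nc_35 : nc Spor.J4 (fun n => 7 ∣ n ∧ 5 ∣ n) ≤ 2 := by
  have hp : Nat.Prime 7 := by norm_num
  have : Fact (Nat.Prime 7) := ⟨hp⟩
  have h49 : ¬ 7 * 7 ∣ Nat.card Cfsg.Spor.J4 := by rw [card_J4]; norm_num
  obtain ⟨a, ha1, ha2, ha3⟩ := exists_reps nc_seven_eq
  have h := nc_part (G := Cfsg.Spor.J4) (p := 7) (fun n => 5 ∣ n) a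
    (fun i => ⟨0, by rw [ha1 i]; norm_num⟩) ha2 (fun g hg => by
      obtain ⟨e, he⟩ := hg
      exact ha3 g (order_of_pow h49 he))
  rw [h, Fin.sum_univ_two]
  have key : ∀ i, nc (Subgroup.centralizer ({a i} : Set Cfsg.Spor.J4))
      (fun n => ¬ 7 ∣ n ∧ 5 ∣ orderOf (a i) * n) ≤ 1 := by
    intro i
    have hc : Nat.card (Subgroup.zpowers (a i)) = 7 := by rw [Nat.card_zpowers, ha1 i]
    obtain ⟨g, hg⟩ := Abs.exists_conj_prime (p := 7) Norm57.card_S7 hc h49
    have h1 := nc_direct hp Loc7.directProduct Norm57.card_S7 (by rw [Loc7.card_I0]; norm_num)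
      (fun n => 5 ∣ n)
    obtain ⟨e⟩ := Loc7.equiv_I0
    rw [nc_equiv e] at h1
    refine le_trans (le_of_eq ?_) perm_five
    rw [← NormC.centralizer_zpowers, ← h1]
    have h2 : nc (Subgroup.centralizer ((Subgroup.zpowers (a i) : Subgroup Spor.J4) : Set Cfsg.Spor.J4))
        (fun n => ¬ 7 ∣ n ∧ 5 ∣ orderOf (a i) * n) =
        nc (Subgroup.centralizer ((Subgroup.zpowers (a i) : Subgroup Spor.J4) : Set Cfsg.Spor.J4))
        (fun n => ¬ 7 ∣ n ∧ 5 ∣ n) := by
      apply nc_congr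
      intro g
      rw [ha1 i]
      have h3 : 5 ∣ 7 * orderOf g ↔ 5 ∣ orderOf g :=
        ⟨fun h => Nat.Coprime.dvd_of_dvd_mul_left (by norm_num) h, fun h => Dvd.dvd.mul_left h 7⟩
      rw [h3]
    rw [h2]
    symm
    refine nc_of_map (MulAut.conj g).toMonoidHom (MulAut.conj g).injective _ _ ?_ _
    rw [← hg]
    exact Abs.map_centralizer_equiv (MulAut.conj g) Norm57.S7
  have h1 := key 0
  have h2 := key 1
  omega

theorem five : IM 5 Spor.J4 := by
  have hp : Nat.Prime 5 := by norm_num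
  have : Fact (Nat.Prime 5) := ⟨hp⟩
  have hf : orderOf Elem.f = 5 := orderOf_eq_prime Elem.f_pow Loc5.f_ne
  have h49 : ¬ 5 * 5 ∣ Nat.card Cfsg.Spor.J4 := by rw [card_J4]; norm_num
  have h := nc_part (G := Cfsg.Spor.J4) (p := 5) (fun _ => True) (m := 1) (fun _ => Elem.f)
    (fun _ => ⟨0, by rw [hf]; norm_num⟩) (fun _ _ _ => Subsingleton.elim _ _)
    (fun g hg => ⟨0, by
      obtain ⟨e, he⟩ := hg
      exact isConj_of_nc_one nc_five_eq (order_of_pow h49 he) hf⟩)
  have h0 : nc Cfsg.Spor.J4 (fun n => 5 ∣ n) = nc Cfsg.Spor.J4 (fun n => 5 ∣ n ∧ True) :=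
    nc_congr fun g => (and_iff_left trivial).symm
  rw [Fin.sum_univ_one, ← h0] at h
  have h1 := nc_add (G := Spor.J4) (fun n => 5 ∣ n) (fun n => 7 ∣ n)
  have h2 := nc_five
  have h3 : nc Spor.J4 (fun n => 5 ∣ n ∧ 7 ∣ n) ≤ 2 :=
    le_trans (le_of_eq (nc_congr fun g => and_comm)) nc_35
  have h4 : nc Spor.J4 (fun n => 5 ∣ n) ≤ 11 := by omega
  refine IM_of_count (x := Elem.f) ⟨1, by rw [hf]; norm_num⟩ ?_
  have h5 : (Nat.card (Subgroup.centralizer ({Elem.f} : Set Cfsg.Spor.J4))).factorization 5 ≤ 1 := by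
    by_contra hlt
    push Not at hlt
    apply h49
    rw [← pow_two]
    exact ((Nat.pow_dvd_pow 5 hlt).trans (Nat.ordProj_dvd _ _)).trans (Subgroup.card_subgroup_dvd_card _)
  rw [card_classes]
  refine lt_of_le_of_lt (Nat.mul_le_mul (Nat.pow_le_pow_right (by norm_num) h5)
    ((numReg_le_nc 5).trans (h ▸ h4))) (by norm_num)

theorem mem_of_pow_coprime {G : Type*} [Group G] (S : Subgroup G) {g : G} {m n : ℕ} (hmn : m.Coprime n)
    (hm : g ^ m ∈ S) (hn : g ^ n ∈ S) : g ∈ S := by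
  have h1 : g = (g ^ m) ^ (Nat.gcdA m n) * (g ^ n) ^ (Nat.gcdB m n) := by
    have h2 := Nat.gcd_eq_gcd_ab m n
    rw [hmn.gcd_eq_one] at h2
    calc g = g ^ (1 : ℤ) := (zpow_one g).symm
      _ = g ^ ((m : ℤ) * Nat.gcdA m n + (n : ℤ) * Nat.gcdB m n) := by rw [← h2]; rfl
      _ = _ := by rw [zpow_add, zpow_mul, zpow_mul, zpow_natCast, zpow_natCast]
  rw [h1]
  exact S.mul_mem (S.zpow_mem hm _) (S.zpow_mem hn _)

theorem three : IM 3 Spor.J4 := by
  have : Fact (Nat.Prime 3) := ⟨Nat.prime_three⟩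
  have hsim : IsSimpleGroup Spor.J4 := simple
  obtain ⟨z, P, hz⟩ := Cfsg.Agent.H337.isOfJankoFourType_of_isoJ4 (G := Spor.J4) ⟨MulEquiv.refl _⟩
  obtain ⟨-, -, hc6, hM, hN⟩ := Cfsg.Agent.S5563.result nonab z P hz
  have hP : Nat.card P = 3 := hz.2.2.2.2.2.1
  have hCP : centralizer ({z} : Set Spor.J4) ⊓ centralizer (P : Set Spor.J4) = centralizer (P : Set Spor.J4) :=
    inf_eq_right.2 ((centralizer_le_normalizer _).trans hN)
  rw [hCP] at hc6 hM
  obtain ⟨e⟩ := hM
  have hM22 : Cfsg.IsM22 Spor.M22 :=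
    ⟨Cfsg.Agent.SporadicA.MathieuRecog.simple_M22, Cfsg.Agent.SporadicA.MathieuRecog.card_M22⟩
  obtain ⟨f, hf⟩ := Cfsg.Agent.H419.Spor.M22.degrees hM22
  have h45 : charDegree ((f 2 : IrrCharacter Spor.M22) : Spor.M22 → ℂ) = 45 := hf 2
  have hcC : Nat.card (centralizer (P : Set Spor.J4)) = 2661120 := by
    rw [card_eq_card_quotient_mul_card_subgroup (center (centralizer (P : Set Spor.J4))), hc6,
      Nat.card_congr e.toEquiv, hM22.2]
  let g : centralizer (P : Set Spor.J4) →* Spor.M22 := e.toMonoidHom.comp (QuotientGroup.mk' _)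
  have hg : Function.Surjective g := e.surjective.comp (QuotientGroup.mk'_surjective _)
  have hPC : P ≤ centralizer (P : Set Spor.J4) := by
    have hc : IsCyclic P := isCyclic_of_prime_card hP
    have hcom : ∀ a b : P, a * b = b * a := hc.commGroup.mul_comm
    intro x hx
    rw [mem_centralizer_iff]
    intro y hy
    exact congrArg Subtype.val (hcom ⟨y, hy⟩ ⟨x, hx⟩)
  refine IM.of_local P (IsPGroup.iff_card.2 ⟨1, by rw [hP, pow_one]⟩) ?_
    ⟨(f 2 : Spor.M22 → ℂ) ∘ g, isIrr_comp g hg (f 2).2⟩ ?_ ?_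
  · have h1 := P.card_mul_index
    rw [hP, card_J4] at h1
    exact Nat.dvd_of_mul_dvd_mul_left (by norm_num : 0 < 3) (by rw [h1]; norm_num)
  · have h1 : charDegree (((⟨(f 2 : Spor.M22 → ℂ) ∘ g, isIrr_comp g hg (f 2).2⟩ :
        IrrCharacter (centralizer (P : Set Spor.J4))) : centralizer (P : Set Spor.J4) → ℂ)) = 45 := by
      rw [← h45]
      show charDegree ((f 2 : Spor.M22 → ℂ) ∘ g) = _
      unfold charDegree
      rw [Function.comp_apply, map_one]
    rw [h1, inf_eq_left.2 hPC, hP, hcC]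
    have a1 : (2661120 : ℕ).factorization 3 = 3 :=
      Cfsg.Agent.H419.Row.factorization_eq Nat.prime_three (m := 98560) (by norm_num) (by norm_num)
    have a2 : (45 : ℕ).factorization 3 = 2 :=
      Cfsg.Agent.H419.Row.factorization_eq Nat.prime_three (m := 5) (by norm_num) (by norm_num)
    have a3 : (3 : ℕ).factorization 3 = 1 :=
      Cfsg.Agent.H419.Row.factorization_eq Nat.prime_three (m := 1) (by norm_num) (by norm_num)
    rw [a1, a2, a3]
  · intro y hy ⟨k, hk⟩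
    apply (le_sup_right : centralizer (P : Set Spor.J4) ≤ _)
    refine mem_of_pow_coprime _ (m := 2) (n := 3 ^ k) (Nat.Coprime.pow_right k (by norm_num)) ?_
      (by rw [← hk, pow_orderOf_eq_one]; exact one_mem _)
    rw [mem_centralizer_iff]
    have hc : IsCyclic P := isCyclic_of_prime_card hP
    obtain ⟨p0, hp0⟩ := hc.exists_generator
    have ho : orderOf p0 = 3 := by rw [orderOf_eq_card_of_forall_mem_zpowers hp0, hP]
    have hgen : ∀ x ∈ P, ∃ i : ℤ, x = (p0 : Spor.J4) ^ i := by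
      intro x hx
      obtain ⟨i, hi⟩ := hp0 ⟨x, hx⟩
      exact ⟨i, (congrArg Subtype.val hi).symm⟩
    have h3 : (p0 : Spor.J4) ^ (3 : ℕ) = 1 := by
      have := pow_orderOf_eq_one p0
      rw [ho] at this
      exact congrArg Subtype.val this
    have h1 : y * p0 * y⁻¹ ∈ P := ((mem_normalizer_iff.1 hy) p0).1 p0.2
    obtain ⟨i, hi⟩ := hgen _ h1
    have h2 : y ^ 2 * p0 * (y ^ 2)⁻¹ = (p0 : Spor.J4) ^ (i * i) := by
      have h4 : y ^ 2 * p0 * (y ^ 2)⁻¹ = y * (y * p0 * y⁻¹) * y⁻¹ := by rw [pow_two]; group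
      rw [h4, hi, ← conj_zpow, hi, ← zpow_mul]
    have hne : ¬ (3 : ℤ) ∣ i := by
      rintro ⟨j, hj⟩
      rw [hj, zpow_mul] at hi
      have h5 : (p0 : Spor.J4) ^ (3 : ℤ) = 1 := by exact_mod_cast h3
      rw [h5, one_zpow] at hi
      have h6 : (p0 : Spor.J4) = 1 := by
        have h7 : (p0 : Spor.J4) = y⁻¹ * (y * p0 * y⁻¹) * y := by group
        rw [h7, hi]; group
      have h8 : p0 = 1 := Subtype.ext h6
      rw [h8, orderOf_one] at ho
      omega
    have h5 : (p0 : Spor.J4) ^ (i * i) = p0 := by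
      have h6 : ∃ j : ℤ, i * i = 1 + 3 * j := by
        rcases (by omega : i % 3 = 1 ∨ i % 3 = 2) with h | h
        · obtain ⟨t, ht⟩ : ∃ t : ℤ, i = 1 + 3 * t := ⟨i / 3, by omega⟩
          exact ⟨2 * t + 3 * t * t, by rw [ht]; ring⟩
        · obtain ⟨t, ht⟩ : ∃ t : ℤ, i = 2 + 3 * t := ⟨i / 3, by omega⟩
          exact ⟨1 + 4 * t + 3 * t * t, by rw [ht]; ring⟩
      obtain ⟨j, hj⟩ := h6
      have h7 : (p0 : Spor.J4) ^ (3 : ℤ) = 1 := by exact_mod_cast h3
      rw [hj, zpow_add, zpow_mul, h7, one_zpow, mul_one, zpow_one]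
    rw [h5] at h2
    have h6 : Commute (y ^ 2) (p0 : Spor.J4) := by
      show y ^ 2 * p0 = p0 * y ^ 2
      exact mul_inv_eq_iff_eq_mul.1 h2
    intro x hx
    obtain ⟨j, rfl⟩ := hgen x hx
    exact (h6.zpow_right j).eq.symm

/-! ### the involution centralizers and `p = 11` -/

theorem card_cent_z {G : Type*} [Group G] [Finite G] {z : G} (h : IsOfJankoFourTypeAt z) :
    Nat.card (centralizer ({z} : Set G)) = 21799895040 := by
  obtain ⟨P, -, -, hQ, -, ⟨N, -, hNC, -, hN, ⟨hn, ⟨e⟩⟩, -⟩, -⟩ := h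
  rw [card_eq_card_quotient_mul_card_subgroup (N.subgroupOf (centralizer ({z} : Set G))),
    Nat.card_congr e.toEquiv, Nat.card_congr (subgroupOfEquivOfLe hNC).toEquiv, hN, hQ,
    Cfsg.Agent.H856.AutM22.card_aut]
  norm_num

theorem card_cent {G : Type*} [Group G] [Finite G] [IsSimpleGroup G] (hG : ¬ IsMulCommutative G) {z : G}
    (h : IsOfJankoFourTypeAt z) {t : G} (ht : orderOf t = 2) :
    Nat.card (centralizer ({t} : Set G)) = 21799895040 ∨ Nat.card (centralizer ({t} : Set G)) = 1816657920 := by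
  by_cases hzt : IsConj z t
  · left
    rw [← card_cent_z h]
    exact (Cfsg.Agent.H859.ClassEleven.card_centralizer_conj hzt).symm
  · right
    obtain ⟨V, K, hV, hK, hn, hea, hc, hi, hs, ⟨e⟩⟩ := Cfsg.Agent.S5569.result hG z h t ht hzt
    have hVn : (V.subgroupOf (centralizer ({t} : Set G))).Normal := by
      constructor
      intro x hx y
      rw [mem_subgroupOf] at hx ⊢
      exact ((mem_normalizer_iff.1 (hn y.2)) x).1 hx
    have hcomp : IsComplement' (V.subgroupOf (centralizer ({t} : Set G)))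
        (K.subgroupOf (centralizer ({t} : Set G))) := by
      apply isComplement'_of_disjoint_and_mul_eq_univ
      · rw [disjoint_iff, eq_bot_iff]
        rintro x ⟨h1, h2⟩
        rw [mem_bot]
        apply Subtype.ext
        have h3 : (x : G) ∈ K ⊓ V := ⟨h2, h1⟩
        rw [hi] at h3
        exact mem_bot.1 h3
      · rw [Set.eq_univ_iff_forall]
        rintro ⟨x, hx⟩
        have h3 : x ∈ K ⊔ V := by rw [hs]; exact hx
        have hKn : K ≤ normalizer (V : Set G) := hK.trans hn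
        have h4 : x ∈ ((V ⊔ K : Subgroup G) : Set G) := by rw [sup_comm]; exact h3
        rw [coe_mul_of_right_le_normalizer_left V K hKn] at h4
        obtain ⟨v, hv, k, hk, rfl⟩ := h4
        exact ⟨⟨v, hV hv⟩, hv, ⟨k, hK hk⟩, hk, rfl⟩
    have h5 := hcomp.card_mul
    rw [← h5, Nat.card_congr (subgroupOfEquivOfLe hV).toEquiv, Nat.card_congr (subgroupOfEquivOfLe hK).toEquiv, hc,
      Nat.card_congr e.toEquiv, Cfsg.Agent.H856.AutM22.card_aut]
    norm_num

theorem real_of {G : Type*} [Group G] [Finite G] {y : G} {p : ℕ} (hp : p.Prime) (hy : orderOf y = p)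
    (hC : Odd (Nat.card (centralizer ({y} : Set G))))
    (h2 : 2 ∣ Nat.card (normalizer ((zpowers y : Subgroup G) : Set G))) : IsConj y y⁻¹ := by
  have : Fact (Nat.Prime 2) := ⟨Nat.prime_two⟩
  obtain ⟨⟨t, htN⟩, ht⟩ := exists_prime_orderOf_dvd_card' 2 h2
  rw [orderOf_mk] at ht
  have ht2 : t ^ 2 = 1 := by rw [← ht, pow_orderOf_eq_one]
  obtain ⟨k, hk⟩ := mem_zpowers_iff.1 (((mem_normalizer_iff.1 htN) y).1 (mem_zpowers y))
  have h3 : y ^ (k * k) = y := by
    rw [zpow_mul, hk, conj_zpow, hk]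
    have h4 : t * (t * y * t⁻¹) * t⁻¹ = t ^ 2 * y * (t ^ 2)⁻¹ := by rw [pow_two]; group
    rw [h4, ht2]
    group
  have h4 : (p : ℤ) ∣ (k - 1) * (k + 1) := by
    rw [← hy, orderOf_dvd_iff_zpow_eq_one]
    have h5 : (k - 1) * (k + 1) = k * k - 1 := by ring
    rw [h5, zpow_sub, h3, zpow_one, mul_inv_cancel]
  have hpp : Prime (p : ℤ) := Nat.prime_iff_prime_int.1 hp
  rcases hpp.dvd_or_dvd h4 with h5 | h5
  · exfalso
    rw [← hy, orderOf_dvd_iff_zpow_eq_one, zpow_sub, zpow_one, mul_inv_eq_one] at h5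
    rw [h5] at hk
    have h6 : t ∈ centralizer ({y} : Set G) := by
      rw [mem_centralizer_singleton_iff]
      exact mul_inv_eq_iff_eq_mul.1 hk.symm
    have h7 : 2 ∣ Nat.card (centralizer ({y} : Set G)) := by
      rw [← ht, ← orderOf_mk t h6]
      exact orderOf_dvd_natCard _
    exact (Nat.not_even_iff_odd.2 hC) (even_iff_two_dvd.2 h7)
  · rw [← hy, orderOf_dvd_iff_zpow_eq_one, zpow_add, zpow_one] at h5
    rw [isConj_iff]
    exact ⟨t, by rw [← hk]; exact eq_inv_of_mul_eq_one_left h5⟩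

/-- a real element of order 29 -/
theorem real29 : ∃ y : Spor.J4, orderOf y = 29 ∧ IsConj y y⁻¹ ∧
    Nat.card (centralizer ({y} : Set Spor.J4)) = 29 := by
  obtain ⟨y, hy⟩ := exists_prime_order (p := 29) (by norm_num) (by norm_num)
  have hP : Nat.card (zpowers y) = 29 := by rw [Nat.card_zpowers, hy]
  have hC := cent_big (p := 29) (by simp) hy
  refine ⟨y, hy, real_of (p := 29) (by norm_num) hy (by rw [hC]; decide) ?_, hC⟩
  rw [(Cfsg.Agent.H859.BigNum.data29' hP).2]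
  norm_num

theorem eleven : IM 11 Spor.J4 := by
  have : Fact (Nat.Prime 11) := ⟨by norm_num⟩
  have hsim : IsSimpleGroup Spor.J4 := simple
  obtain ⟨z, hz⟩ := Cfsg.Agent.H337.isOfJankoFourType_of_isoJ4 (G := Spor.J4) ⟨MulEquiv.refl _⟩
  obtain ⟨y, hy, hyr, hyC⟩ := real29
  refine Cfsg.Agent.H724.IMTool.IM_of_real (g := y) (k := 3) (fun h => ?_) hyr (by rw [hyC]; decide)
    (by rw [hyC]; norm_num) (by rw [card_J4]; norm_num) ?_
  · rw [h, orderOf_one] at hy
    omega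
  · intro t ht
    rcases card_cent nonab hz ht with h | h
    · rw [h]; norm_num
    · rw [h]; norm_num

theorem two : IM 2 Spor.J4 := by
  obtain ⟨y, hy, hyr, hyC⟩ := real29
  refine Cfsg.Agent.H724.IMTool.IM_two_of_real (x := y) (fun h => ?_) hyr (by rw [hyC]; decide)
  rw [h, orderOf_one] at hy
  omega

/-- **Ito-Michler for `J4`.** -/
theorem im_model {p : ℕ} (hp : p.Prime) (hd : p ∣ Nat.card Spor.J4) : IM p Spor.J4 := by
  have hpf : Fact p.Prime := ⟨hp⟩
  by_cases hbig : p = 23 ∨ p = 29 ∨ p = 31 ∨ p = 37 ∨ p = 43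
  · exact Cfsg.Agent.H724.IMTool.IM_of_hasDZ hd (dz_big hbig)
  have h1 : p = 2 ∨ p = 3 ∨ p = 5 ∨ p = 7 ∨ p = 11 := by
    rw [card_J4, show 86775571046077562880 = 2 ^ 21 * 3 ^ 3 * 5 * 7 * 11 ^ 3 * 23 * 29 * 31 * 37 * 43 by
      norm_num] at hd
    simp only [hp.dvd_mul] at hd
    have key : ∀ {q k : ℕ}, q.Prime → p ∣ q ^ k → p = q := fun hq h =>
      (Nat.prime_dvd_prime_iff_eq hp hq).1 (hp.dvd_of_dvd_pow h)
    have key' : ∀ {q : ℕ}, q.Prime → p ∣ q → p = q := fun hq h => (Nat.prime_dvd_prime_iff_eq hp hq).1 h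
    rcases hd with ((((((((h | h) | h) | h) | h) | h) | h) | h) | h) | h
    · exact Or.inl (key Nat.prime_two h)
    · exact Or.inr (Or.inl (key Nat.prime_three h))
    · exact Or.inr (Or.inr (Or.inl (key' (by norm_num) h)))
    · exact Or.inr (Or.inr (Or.inr (Or.inl (key' (by norm_num) h))))
    · exact Or.inr (Or.inr (Or.inr (Or.inr (key (by norm_num) h))))
    · exact absurd (Or.inl (key' (by norm_num) h)) hbig
    · exact absurd (Or.inr (Or.inl (key' (by norm_num) h))) hbig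
    · exact absurd (Or.inr (Or.inr (Or.inl (key' (by norm_num) h)))) hbig
    · exact absurd (Or.inr (Or.inr (Or.inr (Or.inl (key' (by norm_num) h))))) hbig
    · exact absurd (Or.inr (Or.inr (Or.inr (Or.inr (key' (by norm_num) h))))) hbig
  rcases h1 with rfl | rfl | rfl | rfl | rfl
  · exact two
  · exact three
  · exact five
  · exact seven
  · exact eleven

theorem im_j4 {S : Type*} [Group S] (h : Cfsg.Spor.IsoJ4 S) {p : ℕ} [Fact p.Prime] (hp : p ∣ Nat.card S) :
    Cfsg.Agent.H33.IM p S := by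
  obtain ⟨e⟩ := h
  exact (im_model (Fact.out : p.Prime) (by rw [← Nat.card_congr e.toEquiv]; exact hp)).of_equiv e

end Cfsg.Agent.H877.IMJ4
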