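import Cfsg.Agent.H651.Two.Row
import Cfsg.Agent.S4710
import Cfsg.Agent.H646.DefectBasic

/-!
# Brauer-Feit and characters of degree divisible by `p` (helper877)

`three_le_of_defect_one` : `|G|_p = p ^ a`, `a ≥ 2`, `p` odd, `θ(1)_p = p ^ (a - 1)`: by the theorem of Brauer and Feit
(S4710) `θ` lies in a block of defect one, so at least three irreducible characters have degree divisible by `p`.
-/

set_option autoImplicit false

open Cfsg

namespace Cfsg.Agent.H877.TwoBF

open Cfsg.Agent.H596.OneFacts Cfsg.Agent.H651.Two Cfsg.Agent.Blocks.Basic Cfsg.Agent.Blocks.Local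

universe u

variable {G : Type u} [Group G] [Finite G] {p : ℕ} [hp : Fact p.Prime]

/-- the block of a character of degree divisible by `p ^ (a - 1)` has defect at most one -/
theorem blockDefect_eq_one {M : Ideal AlgInt} (hM : IsPModular p M) {θ : IrrCharacter G} {a : ℕ}
    (ha : (Nat.card G).factorization p = a) (hθ : (charDegree (θ : G → ℂ)).factorization p + 1 = a) :
    blockDefect p (blockOf M (θ : G → ℂ)) = 1 := by
  have hMp : M.IsPrime := isPrime_of_isPModular hM
  have hB : IsPBlock M (blockOf M (θ : G → ℂ)) := ⟨θ, rfl⟩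
  have hθe : θ ∈ blockOf M (θ : G → ℂ) := fun g => by rw [sub_self]; exact memLocalIdeal_zero
  set B := blockOf M (θ : G → ℂ) with hBdef
  set s := sInf ((fun χ : IrrCharacter G => (charDegree (χ : G → ℂ)).factorization p) '' B) with hs
  have hd : blockDefect p B = a - s := by rw [blockDefect, ha]
  have hh : blockHeight p B (θ : G → ℂ) = (charDegree (θ : G → ℂ)).factorization p - s := rfl
  have hle : s ≤ (charDegree (θ : G → ℂ)).factorization p := Nat.sInf_le ⟨θ, hθe, rfl⟩
  obtain ⟨-, h1⟩ := Cfsg.Agent.S4710.result p M hM B hB _ rfl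
  have h2 := (h1 θ hθe).2
  rw [hd, hh] at h2
  rw [hd]
  by_contra hcon
  have h3 : 2 ≤ a - s := by omega
  have h4 := h2 h3
  omega

/-- **Brauer-Feit.** -/
theorem three_le_of_defect_one (hp3 : 3 ≤ p) {θ : IrrCharacter G} {a : ℕ}
    (ha : (Nat.card G).factorization p = a) (h2 : 2 ≤ a)
    (hθ : (charDegree (θ : G → ℂ)).factorization p + 1 = a) : 3 ≤ ND p G := by
  obtain ⟨M, hM⟩ := Cfsg.Agent.Blocks.Knorr.exists_isPModular p
  have hB : IsPBlock M (blockOf M (θ : G → ℂ)) := ⟨θ, rfl⟩
  obtain ⟨D, hD⟩ := Cfsg.Agent.H646.DefectBasic.exists_isDefectGroup hM hB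
  have hc := Cfsg.Agent.S0908.result p M hM _ hB D hD
  rw [blockDefect_eq_one hM ha hθ, pow_one] at hc
  refine three_le_of_block hM hB hD (by rw [hc]; exact hp3) ?_
  have h3 := D.card_mul_index
  have h4 : p ^ 2 ∣ Nat.card G := by
    rw [hp.out.pow_dvd_iff_le_factorization Nat.card_pos.ne', ha]
    exact h2
  rw [← h3, hc, pow_two] at h4
  exact Nat.dvd_of_mul_dvd_mul_left hp.out.pos h4

/-- the same with a known degree -/
theorem three_le_of_deg (hp3 : 3 ≤ p) {n : ℕ} (hn : ∃ χ : IrrCharacter G, charDegree (χ : G → ℂ) = n) {a : ℕ}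
    (ha : p ^ (a + 2) ∣ Nat.card G) (ha' : ¬ p ^ (a + 3) ∣ Nat.card G) (h1 : p ^ (a + 1) ∣ n)
    (h2 : ¬ p ^ (a + 2) ∣ n) : 3 ≤ ND p G := by
  obtain ⟨θ, rfl⟩ := hn
  have hpos := charDegree_pos θ.2
  have e1 : (Nat.card G).factorization p = a + 2 := by
    apply le_antisymm
    · by_contra hcon
      push Not at hcon
      exact ha' ((hp.out.pow_dvd_iff_le_factorization Nat.card_pos.ne').2 hcon)
    · exact (hp.out.pow_dvd_iff_le_factorization Nat.card_pos.ne').1 ha
  have e2 : (charDegree (θ : G → ℂ)).factorization p = a + 1 := by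
    apply le_antisymm
    · by_contra hcon
      push Not at hcon
      exact h2 ((hp.out.pow_dvd_iff_le_factorization hpos.ne').2 hcon)
    · exact (hp.out.pow_dvd_iff_le_factorization hpos.ne').1 h1
  exact three_le_of_defect_one hp3 e1 (by omega) (by rw [e2])

end Cfsg.Agent.H877.TwoBF
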