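import Cfsg.Agent.H877.BSgnDeg
import Cfsg.Agent.H877.TwoBF
import Cfsg.Agent.H997.OutCard
import Cfsg.Agent.CpAut.TwoInnerB

/-!
# The Baby Monster: two characters of degree divisible by `p` (helper877)

`p ≠ 7, 17` : two of the degrees `96255`, `9458750`, `4275362520`, `9287037474` (helper995);
`p = 17` : `63532485`, `13508418144`; `p = 7` : Brauer-Feit for the degree `9458750`.
-/

set_option autoImplicit false

open Cfsg

namespace Cfsg.Agent.H877.TwoB

open Cfsg.Agent.H596.OneFacts Cfsg.Agent.H651.Two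

universe u

/-- Two different degrees divisible by `17`. -/
theorem seventeen {S : Type u} [Group S] (h : Cfsg.Spor.IsoB S) : Two 17 S := by
  refine two_of_degs (a := 63532485) (b := 13508418144) ?_ ?_ (by norm_num) (by norm_num) (by norm_num)
  · obtain ⟨χ, -, hχ⟩ := BSgn.deg_b8 h (d := 63532485) (by decide)
    exact ⟨χ, hχ⟩
  · obtain ⟨χ, -, hχ⟩ := BSgn.deg_b8 h (d := 13508418144) (by decide)
    exact ⟨χ, hχ⟩

theorem card_out : Nat.card (Cfsg.Out Cfsg.Spor.BabyMonster) = 1 :=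
  Cfsg.Agent.H997.OutCard.card_eq_one Cfsg.Agent.CpAut.TwoInner.inner_b

theorem seven : Two 7 Cfsg.Spor.BabyMonster := by
  have : Fact (Nat.Prime 7) := ⟨by norm_num⟩
  have hI : Cfsg.Spor.IsoB Cfsg.Spor.BabyMonster := ⟨MulEquiv.refl _⟩
  have hc := Cfsg.Agent.H995.IMB.card_of hI
  have hF : Finite Cfsg.Spor.BabyMonster := Nat.finite_of_card_ne_zero (by rw [hc]; norm_num)
  have h3 : 3 ≤ ND 7 Cfsg.Spor.BabyMonster := by
    refine TwoBF.three_le_of_deg (p := 7) (by norm_num) (n := 9458750) ?_ (a := 0) (by rw [hc]; norm_num)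
      (by rw [hc]; norm_num) (by norm_num) (by norm_num)
    obtain ⟨χ, -, hχ⟩ := Cfsg.Agent.H995.IMB.deg_b hI (d := 9458750) (by decide)
    exact ⟨χ, hχ⟩
  exact two_of_lt (by rw [card_out]; omega)

/-- **The row `B`.** -/
theorem two_b {S : Type u} [Group S] (h : Cfsg.Spor.IsoB S) {p : ℕ} [hp : Fact p.Prime]
    (hd : p ∣ Nat.card S) : TwoOr p S := by
  by_cases h7 : p = 7
  · subst h7
    exact twoOr_of h hd fun _ => seven
  · by_cases h17 : p = 17
    · subst h17
      exact Or.inl (seventeen h)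
    · obtain ⟨χ, ψ, h1, h2, h3⟩ := Cfsg.Agent.H995.IMB.two_b h hp.out hd h7 h17
      exact Or.inl (two_of_degree_ne χ ψ h1 h2 h3)

end Cfsg.Agent.H877.TwoB
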