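import Cfsg.Agent.H877.BSgnInst
import Cfsg.Agent.H995.IMBRow

/-!
# The degrees `4371`, `63532485`, `13508418144` of the Baby Monster (helper877)

The constituents of the permutation character of degree `27143910000` on the signed axes which are not
constituents of the one of degree `13571955000`.
-/

set_option autoImplicit false
set_option linter.constructorNameAsVariable false

open Cfsg Cfsg.Agent.Characters.Core

namespace Cfsg.Agent.H877.BSgn

open Cfsg.Agent.BabyM.Inst Cfsg.Agent.H816.IMEig Cfsg.Agent.H816.IMEig.Col

universe u

theorem kk3 : (∑ w, t8 3 w) = 3968055 := by decide +kernel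

/-- The spherical function of degree `4371`. -/
noncomputable def v0 : Fin 8 → ℂ := ![1, -1, 1/7, -1/7, 1/28, -1/28, 0, 0]

theorem eigv0 : Eig (3 : Fin 8) 0 t8 (-566865) v0 where
  one := rfl
  eig := by
    intro u
    rw [kk3]
    fin_cases u
    all_goals
      simp only [Fin.sum_univ_eight]
      simp [t8, v0]
      try norm_num
  uniq := by
    intro φ h
    rw [kk3] at h
    have h0 := h 0
    have h1 := h 1
    have h2 := h 2
    have h3 := h 3
    have h4 := h 4
    have h5 := h 5
    have h6 := h 6
    have h7 := h 7
    simp only [Fin.sum_univ_eight] at h0 h1 h2 h3 h4 h5 h6 h7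
    simp [t8] at h0 h1 h2 h3 h4 h5 h6 h7
    intro u
    fin_cases u
    · simp [v0]
    · simp [v0]
      linear_combination (655720312651/371700545673600000) * h0 + (6623435383/3754550966400000) * h1 + (-10769/3754550966400000) * h2 + (-1096093/371700545673600000) * h3 + (14981/743401091347200000) * h4 + (49/6353855481600000) * h6 + (-1/794231935200000) * h7
    · simp [v0]
      linear_combination (-655720312651/2601903819715200000) * h0 + (-10769/3754550966400000) * h1 + (10769/26281856764800000) * h2 + (1096093/2601903819715200000) * h3 + (-14981/5203807639430400000) * h4 + (-7/6353855481600000) * h6 + (1/5559623546400000) * h7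
    · simp [v0]
      linear_combination (1/3968055) * h0
    · simp [v0]
      linear_combination (-27129617233801/430601941234483200000) * h0 + (411191/6834951448166400000) * h1 + (-411191/47844660137164800000) * h2 + (47810543/430601941234483200000) * h3 + (6151/45326520129945600000) * h4 + (161/1281553396531200000) * h6 + (-23/1121359221964800000) * h7
    · simp [v0]
      linear_combination (2685833127197197/42629592182213836800000) * h0 + (-3934457/61514563033497600000) * h1 + (3934457/430601941234483200000) * h2 + (-41000909/358231867077427200000) * h3 + (72932207/85259184364427673600000) * h4 + (16961/42291262085529600000) * h6 + (-2423/37004854324838400000) * h7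
    · simp [v0]
      linear_combination (118727/10572815521382400000) * h0 + (-1127/320388349132800000) * h1 + (161/320388349132800000) * h2 + (-16961/10572815521382400000) * h3 + (11137/21145631042764800000) * h4 + (65183/1878065914982400000) * h6 + (-763/6487864069939200000) * h7
    · simp [v0]
      linear_combination (-2423/1321601940172800000) * h0 + (23/40048543641600000) * h1 + (-23/280339805491200000) * h2 + (2423/9251213581209600000) * h3 + (-1591/18502427162419200000) * h4 + (-763/6487864069939200000) * h6 + (109/5676881061196800000) * h7

theorem degv0 : ∃ χ : M.G → ℂ, IsIrrCharacter M.G χ ∧ χ 1 = ((4371 : ℕ) : ℂ) := by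
  refine degree8 (θ := -566865) (ω := v0) eigv0 ?_
  simp only [Fin.sum_univ_eight]
  simp [t8, v0]
  norm_num

/-- The spherical function of degree `63532485`. -/
noncomputable def v1 : Fin 8 → ℂ := ![1, -1, 7/969, -7/969, -1/20672, 1/20672, 0, 0]

theorem eigv1 : Eig (3 : Fin 8) 0 t8 (-28665) v1 where
  one := rfl
  eig := by
    intro u
    rw [kk3]
    fin_cases u
    all_goals
      simp only [Fin.sum_univ_eight]
      simp [t8, v1]
      try norm_num
  uniq := by
    intro φ h
    rw [kk3] at h
    have h0 := h 0
    have h1 := h 1
    have h2 := h 2
    have h3 := h 3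
    have h4 := h 4
    have h5 := h 5
    have h6 := h 6
    have h7 := h 7
    simp only [Fin.sum_univ_eight] at h0 h1 h2 h3 h4 h5 h6 h7
    simp [t8] at h0 h1 h2 h3 h4 h5 h6 h7
    intro u
    fin_cases u
    · simp [v1]
    · simp [v1]
      linear_combination (55636871/1601542800000) * h0 + (11971153/339721200000) * h1 + (-377/148083600000) * h2 + (603859/571750779600000) * h3 + (4597/190583593200000) * h4 + (53/533847600000) * h6 + (-53/21175954800000) * h7
    · simp [v1]
      linear_combination (-389458097/1551894973200000) * h0 + (-377/148083600000) * h1 + (377/20499001200000) * h2 + (-603859/79146643633200000) * h3 + (-4597/26382214544400000) * h4 + (-371/517298324400000) * h6 + (53/2931357171600000) * h7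
    · simp [v1]
      linear_combination (1/3968055) * h0
    · simp [v1]
      linear_combination (5905052927/3595630922956800000) * h0 + (1310979/21027081420800000) * h1 + (-436993/970249614131200000) * h2 + (6667541/20375241896755200000) * h3 + (538229/122251451380531200000) * h4 + (23/1226188620800000) * h6 + (-69/145916445875200000) * h7
    · simp [v1]
      linear_combination (-28971959689/16950831493939200000) * h0 + (774931/27034818969600000) * h1 + (-5424517/26196739581542400000) * h2 + (943887619/6051446843336294400000) * h3 + (13054229/4034297895557529600000) * h4 + (7/501622617600000) * h6 + (-1/2842528166400000) * h7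
    · simp [v1]
      linear_combination (-7/24265800000) * h0 + (23/59316400000) * h1 + (-161/57477591600000) * h2 + (49/23513560200000) * h3 + (19/580826188800000) * h4 + (1381111/3598935730790400000) * h6 + (-6761/1638801091699200000) * h7
    · simp [v1]
      linear_combination (1/137506200000) * h0 + (-69/7058651600000) * h1 + (23/325706352400000) * h2 + (-7/133243507800000) * h3 + (-19/23039438822400000) * h4 + (-6761/1638801091699200000) * h6 + (6761/65005776637401600000) * h7

theorem degv1 : ∃ χ : M.G → ℂ, IsIrrCharacter M.G χ ∧ χ 1 = ((63532485 : ℕ) : ℂ) := by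
  refine degree8 (θ := -28665) (ω := v1) eigv1 ?_
  simp only [Fin.sum_univ_eight]
  simp [t8, v1]
  norm_num

/-- The spherical function of degree `13508418144`. -/
noncomputable def v2 : Fin 8 → ℂ := ![1, -1, -1/29393, 1/29393, 1/4630528, -1/4630528, 0, 0]

theorem eigv2 : Eig (3 : Fin 8) 0 t8 (135) v2 where
  one := rfl
  eig := by
    intro u
    rw [kk3]
    fin_cases u
    all_goals
      simp only [Fin.sum_univ_eight]
      simp [t8, v2]
      try norm_num
  uniq := by
    intro φ h
    rw [kk3] at h
    have h0 := h 0
    have h1 := h 1
    have h2 := h 2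
    have h3 := h 3
    have h4 := h 4
    have h5 := h 5
    have h6 := h 6
    have h7 := h 7
    simp only [Fin.sum_univ_eight] at h0 h1 h2 h3 h4 h5 h6 h7
    simp [t8] at h0 h1 h2 h3 h4 h5 h6 h7
    intro u
    fin_cases u
    · simp [v2]
    · simp [v2]
      linear_combination (-30956758291159/1065803151600000) * h0 + (302820838403/10765688400000) * h1 + (13015571/10765688400000) * h2 + (-784605863/1065803151600000) * h3 + (-13159627/1065803151600000) * h4 + (-9215479/118422572400000) * h6 + (164243/118422572400000) * h7
    · simp [v2]
      linear_combination (-30956758291159/31327152034978800000) * h0 + (13015571/10765688400000) * h1 + (13015571/316435879141200000) * h2 + (-784605863/31327152034978800000) * h3 + (-1012279/2409780925767600000) * h4 + (-5957/2250028875600000) * h6 + (164243/3480794670553200000) * h7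
    · simp [v2]
      linear_combination (1/3968055) * h0
    · simp [v2]
      linear_combination (19486464262939/797613145207603200000) * h0 + (-1195714663/39196675276800000) * h1 + (-91978051/88623682800844800000) * h2 + (619553323/797613145207603200000) * h3 + (17157809/1595226290415206400000) * h4 + (19201/279276311347200000) * h6 + (-40723/33233881050316800000) * h7
    · simp [v2]
      linear_combination (1028624589441167/78963701375552716800000) * h0 + (-6808164449/352770077491200000) * h1 + (-6808164449/10368970887698841600000) * h2 + (72972894421/146646873983169331200000) * h3 + (67237633/8311968565847654400000) * h4 + (478751/9216118274457600000) * h6 + (-1015373/1096718074660454400000) * h7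
    · simp [v2]
      linear_combination (56971369/236845144800000) * h0 + (-2284919/7177125600000) * h1 + (-1477/136365386400000) * h2 + (36827/4500057751200000) * h3 + (17381/144001848038400000) * h4 + (35279653/31104399176294400000) * h6 + (-28511/1944024948518400000) * h7
    · simp [v2]
      linear_combination (-1015373/236845144800000) * h0 + (40723/7177125600000) * h1 + (40723/210957252760800000) * h2 + (-1015373/6961589341106400000) * h3 + (-36863/17136219916569600000) * h4 + (-28511/1944024948518400000) * h6 + (786089/3007406595357964800000) * h7

theorem degv2 : ∃ χ : M.G → ℂ, IsIrrCharacter M.G χ ∧ χ 1 = ((13508418144 : ℕ) : ℂ) := by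
  refine degree8 (θ := 135) (ω := v2) eigv2 ?_
  simp only [Fin.sum_univ_eight]
  simp [t8, v2]
  norm_num

/-- The three degrees. -/
def ds8 : List ℕ := [4371, 63532485, 13508418144]

theorem deg_model8 {d : ℕ} (hd : d ∈ ds8) : ∃ χ : Cfsg.Agent.BabyM.Inst.M.G → ℂ,
    IsIrrCharacter Cfsg.Agent.BabyM.Inst.M.G χ ∧ χ 1 = (d : ℂ) := by
  unfold ds8 at hd
  simp only [List.mem_cons, List.not_mem_nil, or_false] at hd
  rcases hd with rfl | rfl | rfl
  · exact degv0
  · exact degv1
  · exact degv2

/-- **The degrees `4371`, `63532485`, `13508418144` of the Baby Monster.** -/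
theorem deg_b8 {S : Type u} [Group S] (h : Cfsg.Spor.IsoB S) {d : ℕ} (hd : d ∈ ds8) :
    ∃ χ : IrrCharacter S, (χ : S → ℂ) 1 = (d : ℂ) ∧ charDegree (χ : S → ℂ) = d := by
  obtain ⟨e⟩ := h
  obtain ⟨χ, hχ, h1⟩ := deg_model8 hd
  let f : S ≃* Cfsg.Agent.BabyM.Inst.M.G := e.trans Cfsg.Agent.BM.KHAll.iso
  have h2 : (χ ∘ f.toMonoidHom) 1 = (d : ℂ) := by
    rw [Function.comp_apply, map_one, h1]
  exact ⟨⟨χ ∘ f.toMonoidHom, isIrr_comp f.toMonoidHom f.surjective hχ⟩, h2,
    H670.PSing.charDegree_eq_of h2⟩

end Cfsg.Agent.H877.BSgn
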