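import Cfsg.Agent.H877.TcAct
import Cfsg.Agent.S0493

/-!
# S3621: small groups of Heisenberg type (helper877)
-/

set_option autoImplicit false

namespace Cfsg.Agent.H877

open Cfsg.Agent.H412.Tc Cfsg.Agent.H877.TcAct Equiv

/-- Groups with fewer than 60 elements are solvable (copied from `BpAlt.Row`). -/
theorem Small.solvable_of_lt : ∀ (n : ℕ) {G : Type*} [Group G] [Finite G], Nat.card G = n → n < 60 →
    Group.IsSolvable G := by
  intro n
  induction n using Nat.strong_induction_on with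
  | _ n ih =>
    intro G _ _ hG hn
    by_cases hs : IsSimpleGroup G
    · by_cases hcy : IsCyclic G
      · have := hcy
        let _ : CommGroup G := IsCyclic.commGroup
        infer_instance
      · exfalso
        have := S0493.result hcy (by omega)
        omega
    · rcases subsingleton_or_nontrivial G with ht | ht
      · infer_instance
      · have h1 : ∃ N : Subgroup G, N.Normal ∧ N ≠ ⊥ ∧ N ≠ ⊤ := by
          by_contra hcon
          push Not at hcon
          apply hs
          exact ⟨fun N hN => by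
            by_contra h
            rw [not_or] at h
            exact h.2 (hcon N hN h.1)⟩
        obtain ⟨N, hN, hb, htop⟩ := h1
        have hN' := hN
        have hc := N.card_mul_index
        have hN1 : 1 < Nat.card ↥N := (Subgroup.one_lt_card_iff_ne_bot N).mpr hb
        have hi1 : N.index ≠ 1 := fun h => htop (Subgroup.index_eq_one.mp h)
        have hi0 : N.index ≠ 0 := Subgroup.index_ne_zero_of_finite
        have hq : Nat.card (G ⧸ N) = N.index := rfl
        have hlt1 : Nat.card ↥N < n := by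
          rw [← hG, ← hc]
          have : 2 ≤ N.index := by omega
          nlinarith
        have hlt2 : Nat.card (G ⧸ N) < n := by
          rw [hq, ← hG, ← hc]
          have : 1 ≤ N.index := by omega
          nlinarith
        exact (Group.isSolvable_iff_subgroup_quotient N).2
          ⟨ih _ hlt1 rfl (by omega), ih _ hlt2 rfl (by omega)⟩

/-- Counting lemma: pairs of different nontrivial elements. -/
theorem Small.pairs {X : Type*} [Finite X] (o : X) (hX : Nat.card X ≤ 9) :
    Nat.card {p : X × X // p.1 ≠ o ∧ p.2 ≠ o ∧ p.1 ≠ p.2} < 60 := by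
  classical
  have := Fintype.ofFinite X
  obtain ⟨e⟩ : Nonempty (X ↪ Fin 9) := by
    rw [Function.Embedding.nonempty_iff_card_le, Fintype.card_fin, ← Nat.card_eq_fintype_card]
    exact hX
  have h1 : Nat.card {p : X × X // p.1 ≠ o ∧ p.2 ≠ o ∧ p.1 ≠ p.2} ≤
      Nat.card {p : Fin 9 × Fin 9 // p.1 ≠ e o ∧ p.2 ≠ e o ∧ p.1 ≠ p.2} := by
    refine Nat.card_le_card_of_injective (fun p => ⟨(e p.1.1, e p.1.2), ?_, ?_, ?_⟩) ?_
    · exact fun h => p.2.1 (e.injective h)
    · exact fun h => p.2.2.1 (e.injective h)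
    · exact fun h => p.2.2.2 (e.injective h)
    · intro p q hpq
      have h2 := congrArg Subtype.val hpq
      apply Subtype.ext
      exact Prod.ext (e.injective (congrArg Prod.fst h2)) (e.injective (congrArg Prod.snd h2))
  have h2 : ∀ t : Fin 9, Nat.card {p : Fin 9 × Fin 9 // p.1 ≠ t ∧ p.2 ≠ t ∧ p.1 ≠ p.2} = 56 := by
    intro t
    rw [Nat.card_eq_fintype_card]
    revert t
    decide
  rw [h2] at h1
  omega

universe u

variable {K V : Type u} [Field K] [Finite K] [AddCommGroup V] [Finite V] [Module K V]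
  {A B : Subgroup (GV V)} {r : ℕ}

theorem Small.main (S : SetB K V A B r) (hs : ∀ h ∈ cl2 A, Semi K h)
    (hn : ∀ h ∈ cl2 A, ∀ b ∈ B, h * b * h⁻¹ ∈ B) (hr : r ≤ 3)
    (hB : ∃ a ∈ B, ∃ b ∈ B, ∀ x ∈ B, ∃ (i j : ℕ) (c : Kˣ), x = scal K V c * (a ^ i * b ^ j)) :
    Concl K A B := by
  obtain ⟨a, ha, b, hb, hab⟩ := hB
  refine ⟨Perm (B ⧸ Zs K B), inferInstance, act K B hs hn, ?_,
    fun h hh => act_eq_one S.heis hs hn hh⟩
  have hfin : Finite (GV V) := by
    have : Finite (AddMonoid.End V) := DFunLike.finite (V →+ V)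
    infer_instance
  have hN : (Zs K B).Normal := normal_Zs S.heis
  let α : B ⧸ Zs K B := QuotientGroup.mk ⟨a, ha⟩
  let β : B ⧸ Zs K B := QuotientGroup.mk ⟨b, hb⟩
  have hscal : ∀ (c : Kˣ) (h : scal K V c ∈ B), (QuotientGroup.mk ⟨scal K V c, h⟩ : B ⧸ Zs K B) = 1 := by
    intro c h
    rw [QuotientGroup.eq_one_iff]
    exact mem_Zs.2 ⟨c, rfl⟩
  have hgen : ∀ x : B ⧸ Zs K B, ∃ i j : ℕ, x = α ^ i * β ^ j := by
    intro x
    induction x using QuotientGroup.induction_on with
    | H x =>
    obtain ⟨i, j, c, hc⟩ := hab x.1 x.2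
    refine ⟨i, j, ?_⟩
    have h1 : x = ⟨scal K V c, S.heis.scal_mem c⟩ * (⟨a, ha⟩ ^ i * ⟨b, hb⟩ ^ j) := Subtype.ext hc
    rw [h1, QuotientGroup.mk_mul, hscal, one_mul]
    rfl
  have hpow : ∀ x : B ⧸ Zs K B, x ^ r = 1 := by
    intro x
    induction x using QuotientGroup.induction_on with
    | H x =>
    obtain ⟨c, hc⟩ := S.heis.pow x.1 x.2
    rw [← QuotientGroup.mk_pow, QuotientGroup.eq_one_iff, mem_Zs]
    exact ⟨c, hc.symm⟩
  have hr0 : 0 < r := S.heis.prime.pos
  have hcard : Nat.card (B ⧸ Zs K B) ≤ 9 := by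
    have h1 : Nat.card (B ⧸ Zs K B) ≤ Nat.card (Fin r × Fin r) := by
      refine Nat.card_le_card_of_surjective (fun p => α ^ p.1.1 * β ^ p.2.1) ?_
      intro x
      obtain ⟨i, j, hij⟩ := hgen x
      refine ⟨(⟨i % r, Nat.mod_lt _ hr0⟩, ⟨j % r, Nat.mod_lt _ hr0⟩), ?_⟩
      show α ^ (i % r) * β ^ (j % r) = x
      rw [hij, ← pow_mod_orderOf α (i % r), ← pow_mod_orderOf α i, ← pow_mod_orderOf β (j % r),
        ← pow_mod_orderOf β j, Nat.mod_mod_of_dvd _ (orderOf_dvd_of_pow_eq_one (hpow α)),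
        Nat.mod_mod_of_dvd _ (orderOf_dvd_of_pow_eq_one (hpow β))]
    rw [Nat.card_prod, Nat.card_fin] at h1
    exact h1.trans (Nat.mul_le_mul hr hr)
  let ρ := act K B hs hn
  have hmul : ∀ h x y, ρ h (x * y) = ρ h x * ρ h y := by
    intro h x y
    induction x using QuotientGroup.induction_on with
    | H x =>
    induction y using QuotientGroup.induction_on with
    | H y =>
    refine congrArg (QuotientGroup.mk : B → B ⧸ Zs K B) (Subtype.ext ?_)
    show h.1 * (x.1 * y.1) * h.1⁻¹ = (h.1 * x.1 * h.1⁻¹) * (h.1 * y.1 * h.1⁻¹)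
    group
  have hone : ∀ h, ρ h 1 = 1 := by
    intro h
    have h1 := hmul h 1 1
    rw [one_mul] at h1
    exact (mul_eq_left.1 h1.symm)
  have hpw : ∀ h x (n : ℕ), ρ h (x ^ n) = ρ h x ^ n := by
    intro h x n
    induction n with
    | zero => rw [pow_zero, pow_zero, hone]
    | succ n ih => rw [pow_succ, pow_succ, hmul, ih]
  have hdet : ∀ h k, ρ h α = ρ k α → ρ h β = ρ k β → ρ h = ρ k := by
    intro h k h1 h2
    ext x
    obtain ⟨i, j, rfl⟩ := hgen x
    rw [hmul, hmul, hpw, hpw, hpw, hpw, h1, h2]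
  have key : Nat.card ρ.range < 60 := by
    by_cases hgood : α ≠ 1 ∧ β ≠ 1 ∧ α ≠ β
    · refine lt_of_le_of_lt ?_ (Small.pairs (1 : B ⧸ Zs K B) hcard)
      refine Nat.card_le_card_of_injective (fun s => ⟨(s.1 α, s.1 β), ?_, ?_, ?_⟩) ?_
      · obtain ⟨_, h, rfl⟩ := s
        intro h1
        exact hgood.1 ((ρ h).injective (h1.trans (hone h).symm))
      · obtain ⟨_, h, rfl⟩ := s
        intro h1
        exact hgood.2.1 ((ρ h).injective (h1.trans (hone h).symm))
      · obtain ⟨_, h, rfl⟩ := s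
        intro h1
        exact hgood.2.2 ((ρ h).injective h1)
      · rintro ⟨_, h, rfl⟩ ⟨_, k, rfl⟩ h1
        have h2 := congrArg Subtype.val h1
        exact Subtype.ext (hdet h k (congrArg Prod.fst h2) (congrArg Prod.snd h2))
    · refine lt_of_le_of_lt (?_ : _ ≤ Nat.card (B ⧸ Zs K B)) (by omega)
      by_cases hα : α = 1
      · refine Nat.card_le_card_of_injective (fun s => s.1 β) ?_
        rintro ⟨_, h, rfl⟩ ⟨_, k, rfl⟩ h1
        refine Subtype.ext (hdet h k ?_ h1)
        rw [hα, hone, hone]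
      · by_cases hβ : β = 1
        · refine Nat.card_le_card_of_injective (fun s => s.1 α) ?_
          rintro ⟨_, h, rfl⟩ ⟨_, k, rfl⟩ h1
          refine Subtype.ext (hdet h k h1 ?_)
          rw [hβ, hone, hone]
        · have hαβ : α = β := by
            by_contra h
            exact hgood ⟨hα, hβ, h⟩
          refine Nat.card_le_card_of_injective (fun s => s.1 α) ?_
          rintro ⟨_, h, rfl⟩ ⟨_, k, rfl⟩ h1
          refine Subtype.ext (hdet h k h1 ?_)
          rw [← hαβ]
          exact h1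
  exact Small.solvable_of_lt _ rfl key

end Cfsg.Agent.H877
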