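import Cfsg.Agent.H412.Tc.HeisDefs

/-!
# S3621: the last step (helper877)
-/

set_option autoImplicit false

namespace Cfsg.Agent.H877.TcLast

open Cfsg.Agent.H412.Tc

universe u

theorem solv_step {G : Type*} [Group G] (N M : Subgroup G) (hMN : M ≤ N)
    (h : ∀ a ∈ N, ∀ b ∈ N, a * b * a⁻¹ * b⁻¹ ∈ M) (hM : Group.IsSolvable M) : Group.IsSolvable N := by
  have hn : (M.subgroupOf N).Normal := by
    constructor
    intro m hm g
    rw [Subgroup.mem_subgroupOf] at hm ⊢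
    have h1 := h g.1 g.2 m.1 m.2
    have h2 := M.mul_mem h1 hm
    have h3 : g.1 * m.1 * g.1⁻¹ * m.1⁻¹ * m.1 = g.1 * m.1 * g.1⁻¹ := by group
    rw [h3] at h2
    exact h2
  rw [Group.isSolvable_iff_subgroup_quotient (M.subgroupOf N)]
  constructor
  · exact Group.isSolvable_of_isSolvable_injective
      (f := (Subgroup.subgroupOfEquivOfLe hMN).toMonoidHom)
      (Subgroup.subgroupOfEquivOfLe hMN).injective
  · refine Group.isSolvable_of_comm ?_
    intro x y
    induction x using QuotientGroup.induction_on with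
    | H a =>
    induction y using QuotientGroup.induction_on with
    | H b =>
    rw [← QuotientGroup.mk_mul, ← QuotientGroup.mk_mul, QuotientGroup.eq, Subgroup.mem_subgroupOf]
    have h1 := h b.1⁻¹ (N.inv_mem b.2) a.1⁻¹ (N.inv_mem a.2)
    have h2 : ((a * b)⁻¹ * (b * a) : N).1 = b.1⁻¹ * a.1⁻¹ * b.1⁻¹⁻¹ * a.1⁻¹⁻¹ := by
      show (a.1 * b.1)⁻¹ * (b.1 * a.1) = _
      group
    rw [h2]
    exact h1

/-- Automorphisms of a finite field commute. -/
theorem aut_comm {K : Type*} [Field K] [Finite K] (σ τ : K ≃+* K) (x : K) : σ (τ x) = τ (σ x) := by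
  classical
  obtain ⟨ζ, hζ⟩ := IsCyclic.exists_generator (α := Kˣ)
  by_cases hx : x = 0
  · subst hx; simp only [map_zero]
  have key : ∀ σ : K ≃+* K, ∃ i : ℤ, ∀ u : Kˣ, Units.map (σ : K →* K) u = u ^ i := by
    intro σ
    obtain ⟨i, hi⟩ := hζ (Units.map (σ : K →* K) ζ)
    refine ⟨i, fun u => ?_⟩
    obtain ⟨m, rfl⟩ := hζ u
    simp only at hi ⊢
    rw [map_zpow, ← hi, ← zpow_mul, ← zpow_mul, mul_comm]
  obtain ⟨i, hi⟩ := key σ
  obtain ⟨j, hj⟩ := key τ
  have h1 : Units.map (σ : K →* K) (Units.map (τ : K →* K) (Units.mk0 x hx)) =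
      Units.map (τ : K →* K) (Units.map (σ : K →* K) (Units.mk0 x hx)) := by
    rw [hi, hj, hj, hi, ← zpow_mul, ← zpow_mul, mul_comm]
  exact congrArg Units.val h1

variable {K V : Type u} [Field K] [Finite K] [AddCommGroup V] [Finite V] [Module K V]
  {A B : Subgroup (GV V)} {r : ℕ}

omit [Finite V] in
theorem semi_comm {g h : GV V} (hg : Semi K g) (hh : Semi K h) : Lin K (g * h * g⁻¹ * h⁻¹) := by
  obtain ⟨σ, hσ⟩ := hg
  obtain ⟨τ, hτ⟩ := hh
  have hgi : ∀ (c : K) (v : V), g⁻¹ • c • v = σ.symm c • g⁻¹ • v := by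
    intro c v
    rw [inv_smul_eq_iff, hσ, smul_inv_smul, RingEquiv.apply_symm_apply]
  have hhi : ∀ (c : K) (v : V), h⁻¹ • c • v = τ.symm c • h⁻¹ • v := by
    intro c v
    rw [inv_smul_eq_iff, hτ, smul_inv_smul, RingEquiv.apply_symm_apply]
  intro c v
  simp only [mul_smul]
  rw [hhi, hgi, hτ, hσ]
  congr 1
  rw [aut_comm σ τ, RingEquiv.apply_symm_apply, RingEquiv.apply_symm_apply]

end Cfsg.Agent.H877.TcLast

namespace Cfsg.Agent.H877

open Cfsg.Agent.H412.Tc Cfsg.Agent.H877.TcLast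

universe u

variable {K V : Type u} [Field K] [Finite K] [AddCommGroup V] [Finite V] [Module K V]
  {A B : Subgroup (GV V)} {r : ℕ}

theorem Last.main (S : SetB K V A B r) (hs : ∀ h ∈ cl2 A, Semi K h)
    (hn : ∀ h ∈ cl2 A, ∀ b ∈ B, h * b * h⁻¹ ∈ B) (hc : Concl K A B)
    (hT3 : ∀ M : Subgroup (GV V), M ≤ cl2 A → (∀ m ∈ M, ∀ b ∈ B, m * b = b * m) →
      Group.IsSolvable M) : Group.IsSolvable (cl2 A) := by
  obtain ⟨Q, _, φ, hφ, hk⟩ := hc
  have hcc : ∀ h ∈ φ.ker, ∀ b ∈ B, ∃ c : Kˣ, CC c h.1 b := by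
    intro h hh b hb
    obtain ⟨c, hc⟩ := hk h hh b hb
    refine ⟨c, ?_⟩
    unfold CC
    rw [← mul_assoc, ← hc, inv_mul_cancel_right]
  -- the linear elements of the kernel
  let N2 : Subgroup ↥(cl2 A) :=
    { carrier := {h | h ∈ φ.ker ∧ Lin K h.1}
      mul_mem' := fun {a b} ha hb => ⟨φ.ker.mul_mem ha.1 hb.1, ha.2.mul hb.2⟩
      one_mem' := ⟨φ.ker.one_mem, Lin.one⟩
      inv_mem' := fun {a} ha => ⟨φ.ker.inv_mem ha.1, ha.2.inv⟩ }
  let M : Subgroup ↥(cl2 A) :=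
    { carrier := {h | h ∈ N2 ∧ ∀ b ∈ B, h.1 * b = b * h.1}
      mul_mem' := fun {a b} ha hb => ⟨N2.mul_mem ha.1 hb.1, fun x hx => by
        show a.1 * b.1 * x = x * (a.1 * b.1)
        rw [mul_assoc, hb.2 x hx, ← mul_assoc, ha.2 x hx, mul_assoc]⟩
      one_mem' := ⟨N2.one_mem, fun x _ => by
        show (1 : GV V) * x = x * 1
        rw [one_mul, mul_one]⟩
      inv_mem' := fun {a} ha => ⟨N2.inv_mem ha.1, fun x hx => by
        show a.1⁻¹ * x = x * a.1⁻¹
        have h1 : a.1 * x = x * a.1 := ha.2 x hx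
        rw [inv_mul_eq_iff_eq_mul, ← mul_assoc, h1, mul_inv_cancel_right]⟩ }
  have hM : Group.IsSolvable M := by
    have h1 := hT3 (M.map (cl2 A).subtype) (by
      rintro _ ⟨m, _, rfl⟩
      exact m.2) (by
      rintro _ ⟨m, hm, rfl⟩ b hb
      exact hm.2 b hb)
    exact Group.isSolvable_of_isSolvable_injective
      (f := (cl2 A).subtype.subgroupMap M)
      (fun a b hab => by
        apply Subtype.ext
        apply Subtype.ext
        exact congrArg (fun y : ↥(M.map (cl2 A).subtype) => y.1) hab)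
  have hN2 : Group.IsSolvable N2 := by
    refine solv_step N2 M (fun m hm => hm.1) ?_ hM
    intro a ha b hb
    refine ⟨N2.mul_mem (N2.mul_mem (N2.mul_mem ha hb) (N2.inv_mem ha)) (N2.inv_mem hb), ?_⟩
    intro x hx
    obtain ⟨c, hc⟩ := hcc a ha.1 x hx
    obtain ⟨d, hd⟩ := hcc b hb.1 x hx
    have inv : ∀ {e : Kˣ} {g : GV V}, Lin K g → CC e g x → CC e⁻¹ g⁻¹ x := by
      intro e g hg he
      unfold CC at *
      have h2 : x * g = scal K V e⁻¹ * (g * x) := by
        rw [he, ← mul_assoc, ← map_mul, inv_mul_cancel, map_one, one_mul]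
      rw [inv_mul_eq_iff_eq_mul, ← mul_assoc, hg.scal_comm, mul_assoc, ← mul_assoc g, ← mul_assoc (scal K V e⁻¹),
        ← h2, mul_inv_cancel_right]
    have h1 := ((hc.mul_left ha.2 hd).mul_left (ha.2.mul hb.2) (inv ha.2 hc)).mul_left
      ((ha.2.mul hb.2).mul ha.2.inv) (inv hb.2 hd)
    rw [mul_right_comm c d, mul_inv_cancel, one_mul, mul_inv_cancel, cc_one_iff] at h1
    exact h1
  have hN1 : Group.IsSolvable φ.ker := by
    refine solv_step φ.ker N2 (fun m hm => hm.1) ?_ hN2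
    intro a ha b hb
    exact ⟨φ.ker.mul_mem (φ.ker.mul_mem (φ.ker.mul_mem ha hb) (φ.ker.inv_mem ha))
      (φ.ker.inv_mem hb), semi_comm (hs a.1 a.2) (hs b.1 b.2)⟩
  exact Group.isSolvable_of_ker_le_range φ.ker.subtype φ.rangeRestrict (by
    rw [MonoidHom.ker_rangeRestrict, Subgroup.range_subtype])

end Cfsg.Agent.H877
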