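import Mathlib
import Cfsg.Agent.H877.RegOmTool
import Cfsg.Agent.H732.SelfCentO
import Cfsg.Agent.S0293
import Cfsg.Agent.S0294
import Cfsg.Prelude.Def_LieTypeChar

/-!
# Even-dimensional orthogonal groups in their own characteristic: `RegB` (helper877, for S4129)

* `regB_omegaMinus`, `regB_omegaPlus`.
-/

set_option autoImplicit false
set_option linter.unusedSectionVars false

namespace Cfsg.Agent.H877.RegOm

open Module QuadraticMap
open Cfsg.Agent.LieClassical.OrthCore Cfsg.Agent.LieClassical.OrthForms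
open Cfsg.Agent.H182.Sign Cfsg.Agent.H182.Orth Cfsg.Agent.H182.Cent
open Cfsg.Agent.H524.LinReg Cfsg.Agent.H524.DirRed

universe u

section

variable {F : Type*} [Field F] [Finite F] {ι : Type} [Fintype ι] [DecidableEq ι]
  {Q : QuadraticForm F (ι → F)} {m : ℕ} {ε₀ : ℤ}

theorem ne_one {y : Cfsg.Omega F ⇑Q} {q : ℕ} (hq : q.Prime) (hy : orderOf y = q) : y ≠ 1 := by
  rintro rfl
  rw [orderOf_one] at hy
  exact hq.one_lt.ne hy

/-- the fixed space of an element of prime order `q` has codimension at least `f` -/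
theorem fx_le (hQ : Sg Q m ε₀) {y : Cfsg.Omega F ⇑Q} {q f : ℕ} (hq : q.Prime) (hy : orderOf y = q)
    (hf : orderOf ((Nat.card F : ℕ) : ZMod q) = f) (hf0 : f ≠ 0) : finrank F (fx (rho ⇑Q) y) + f ≤ 2 * m := by
  have h := (fx_top (rho ⇑Q) hq (rho_injective _) (n := 1) (by rw [pow_one, ← hy, pow_orderOf_eq_one])
    (ne_one hq hy) hf hf0).2
  rwa [hQ.dim] at h

theorem dvd_sq {q : ℕ} (hq : q.Prime) (hqF : ¬ q ∣ Nat.card F) (h2 : q = 2) : q ∣ Nat.card F ^ 2 - 1 := by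
  subst h2
  have h3 : Odd (Nat.card F ^ 2) := (Nat.not_even_iff_odd.1 fun h => hqF h.two_dvd).pow
  obtain ⟨k, hk⟩ := h3
  exact ⟨k, by omega⟩

theorem ord_ne {q : ℕ} (hq : q.Prime) (hqF : ¬ q ∣ Nat.card F) : orderOf ((Nat.card F : ℕ) : ZMod q) ≠ 0 := by
  have : Fact q.Prime := ⟨hq⟩
  have h1 : ((Nat.card F : ℕ) : ZMod q) ≠ 0 := fun h => hqF ((ZMod.natCast_eq_zero_iff _ _).1 h)
  have h2 : orderOf (Units.mk0 _ h1) ≠ 0 := (orderOf_pos _).ne'
  rwa [← orderOf_units, Units.val_mk0] at h2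

theorem exists_t {l : ℕ} (hl : l.Prime) (hlF : (l : F) = 0) : ∃ t : ℕ, t.Prime ∧ t ∣ Nat.card F ^ 2 - 1 ∧ ¬ l ∣ t := by
  have hF := Finite.one_lt_card (α := F)
  have h1 : Nat.card F ^ 2 - 1 ≠ 1 := by
    have : 2 ^ 2 ≤ Nat.card F ^ 2 := Nat.pow_le_pow_left hF 2
    omega
  refine ⟨_, Nat.minFac_prime h1, Nat.minFac_dvd _, fun h => ?_⟩
  have h2 := (Nat.prime_dvd_prime_iff_eq hl (Nat.minFac_prime h1)).1 h
  exact ne_zero_of_dvd hl two_ne_zero (h2 ▸ Nat.minFac_dvd _) hlF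

theorem minus_core (hQ : Sg Q m ε₀) (hm : 4 ≤ m) {l : ℕ} (hl : l.Prime) (hlF : (l : F) = 0) {r : ℕ} (hr : r.Prime)
    (he : orderOf ((Nat.card F : ℕ) : ZMod r) = 2 * m) (hrS : r ∣ Nat.card (Cfsg.POmega F ⇑Q)) {q : ℕ}
    (hq : q.Prime) (hqF : ¬ q ∣ Nat.card F) (hqS : q ∣ Nat.card (Cfsg.POmega F ⇑Q))
    (hi : ∃ i, 1 ≤ i ∧ i ≤ m ∧ q ∣ Nat.card F ^ (2 * i) - 1) : RegB (Cfsg.POmega F ⇑Q) l q := by
  have hF := Finite.one_lt_card (α := F)
  by_cases h1 : q ∣ Nat.card F ^ 2 - 1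
  · obtain ⟨y, hy, hfx⟩ := exists_single hQ (by omega) hq h1
    exact mid hQ hm hl hlF hr he (by omega) hrS hq hy (by omega) (by omega)
  · have hq2 : q ≠ 2 := fun h => h1 (dvd_sq hq hqF h)
    obtain ⟨f, hf⟩ : ∃ f, orderOf ((Nat.card F : ℕ) : ZMod q) = f := ⟨_, rfl⟩
    have hf0 : f ≠ 0 := hf ▸ ord_ne hq hqF
    obtain ⟨n, ε, hn1, hε, hE, hfn, hdv⟩ := exists_n hq hq2 hf hf0
    have hn2 : 2 ≤ n := by
      by_contra hlt
      apply h1
      rw [Cfsg.Agent.Lib.Zsigmondy.dvd_pow_sub_one_iff (by omega), hf]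
      obtain rfl : n = 1 := by omega
      rcases hfn with ⟨rfl, -⟩ | rfl <;> norm_num
    obtain ⟨i, hi1, him, hiq⟩ := hi
    have hnm : n ≤ m := (Nat.le_of_dvd hi1 (hdv i hiq)).trans him
    have hfn' : n ≤ f := by rcases hfn with ⟨h, -⟩ | h <;> omega
    rcases hnm.lt_or_eq with hlt | rfl
    · obtain ⟨y, hy, hfx⟩ := exists_odd hQ (by omega) hq hq2 hE hlt
      have h2 := fx_le hQ hq hy hf hf0
      exact mid hQ hm hl hlF hr he (by omega) hrS hq hy (by omega) (by omega)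
    · obtain ⟨t, ht, htd, hlt⟩ := exists_t hl hlF
      obtain ⟨s, hs, hfs⟩ := exists_single hQ (by omega) ht htd
      exact small hQ hm hl hlF hr he (by omega) hrS hq hq2 hqS hf (s := s) (by rwa [hs]) (by omega) (by omega)

/-- A semisimple element acts without fixed vectors on its commutator space. -/
theorem not_range_le {s : Cfsg.Omega F ⇑Q} {k : ℕ} (hk : (k : F) ≠ 0) (hs : s ^ k = 1) (hs1 : s ≠ 1)
    (h : LinearMap.range (rho (⇑Q) s - 1) ≤ fx (rho ⇑Q) s) : False := by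
  have hN : ∀ v, rho (⇑Q) s (rho (⇑Q) s v - v) = rho (⇑Q) s v - v := fun v =>
    (mem_fx (rho ⇑Q)).1 (h ⟨v, rfl⟩)
  have hpow : ∀ (j : ℕ) (v : ι → F), rho (⇑Q) (s ^ j) v = v + (j : F) • (rho (⇑Q) s v - v) := by
    intro j v
    induction j with
    | zero => simp
    | succ j ih =>
      rw [pow_succ', map_mul, Module.End.mul_apply, ih, map_add, map_smul, hN]
      push_cast
      rw [add_smul, one_smul]
      abel
  apply hs1
  apply rho_injective (⇑Q)
  rw [map_one]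
  refine LinearMap.ext fun v => ?_
  have h3 := hpow k v
  rw [hs, map_one, Module.End.one_apply] at h3
  have h4 : (k : F) • (rho (⇑Q) s v - v) = 0 := by
    have := h3.symm
    rwa [add_eq_left] at this
  rw [Module.End.one_apply]
  exact sub_eq_zero.1 ((smul_eq_zero.1 h4).resolve_left hk)

/-- the case `m = 4`, `f = 3` -/
theorem plus_four (hQ : Sg Q 4 ε₀) {l : ℕ} (hl : l.Prime) (hlF : (l : F) = 0) {r : ℕ} (hr : r.Prime)
    (he : orderOf ((Nat.card F : ℕ) : ZMod r) = 6) (hrS : r ∣ Nat.card (Cfsg.POmega F ⇑Q)) {q : ℕ}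
    (hq : q.Prime) (hq2 : q ≠ 2) (hqS : q ∣ Nat.card (Cfsg.POmega F ⇑Q))
    (hf : orderOf ((Nat.card F : ℕ) : ZMod q) = 3) : RegB (Cfsg.POmega F ⇑Q) l q := by
  have hF := Finite.one_lt_card (α := F)
  obtain ⟨t, ht, hto⟩ := Cfsg.Agent.Lib.Zsigmondy.exists_prime_orderOf (a := Nat.card F) (n := 4) hF (by norm_num)
    (by norm_num) (by norm_num)
  have ht2 : t ≠ 2 := ne_two hto (by norm_num)
  obtain ⟨n, ε, hn1, hε, hE, hfn, -⟩ := exists_n ht ht2 hto (by norm_num)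
  obtain rfl : n = 2 := by
    rcases hfn with ⟨rfl, h⟩ | h
    · exact absurd h (by decide)
    · omega
  obtain ⟨s, hs, hfs⟩ := exists_odd hQ (by norm_num) ht ht2 hE (by norm_num)
  have h1 := fx_le hQ ht hs hto (by norm_num)
  have hts : s ^ t ^ 1 = 1 := by rw [pow_one, ← hs, pow_orderOf_eq_one]
  have hs0 := ne_one ht hs
  have htF : (t : F) ≠ 0 := ne_zero_of_dvd (F := F) ht (i := 4) (by norm_num)
    (by rw [Cfsg.Agent.Lib.Zsigmondy.dvd_pow_sub_one_iff (by omega), hto])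
  have htl : ¬ l ∣ orderOf s := by
    rw [hs]
    intro h
    have := (Nat.prime_dvd_prime_iff_eq hl ht).1 h
    subst this
    exact htF hlF
  have hrk := finrank_range_add_fx (rho ⇑Q) s
  rw [hQ.dim] at hrk
  have hr4 : finrank F (LinearMap.range (rho (⇑Q) s - 1)) = 4 := by omega
  refine comm hQ le_rfl hl hlF hr he (by norm_num) hrS hq hq2 hqS hf (by norm_num) htl fun y hy hsy => ?_
  have hyq : y ^ q ^ 1 = 1 := by rw [pow_one, ← hy, pow_orderOf_eq_one]
  have h2 := dvd_finrank (rho ⇑Q) hq hyq hf (by norm_num) (range_inv (rho ⇑Q) hsy)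
  have h3 : finrank F (LinearMap.range (rho (⇑Q) s - 1) ⊓ fx (rho ⇑Q) y : Submodule F (ι → F)) ≤
      finrank F (LinearMap.range (rho (⇑Q) s - 1)) := Submodule.finrank_mono inf_le_left
  have h4 : finrank F (LinearMap.range (rho (⇑Q) s - 1) ⊓ fx (rho ⇑Q) y : Submodule F (ι → F)) ≤
      finrank F (fx (rho ⇑Q) y) := Submodule.finrank_mono inf_le_right
  obtain ⟨c, hc⟩ := h2
  rcases (show finrank F (LinearMap.range (rho (⇑Q) s - 1) ⊓ fx (rho ⇑Q) y : Submodule F (ι → F)) = 1 ∨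
    finrank F (LinearMap.range (rho (⇑Q) s - 1) ⊓ fx (rho ⇑Q) y : Submodule F (ι → F)) = 4 by omega) with h5 | h5
  · exfalso
    have h6 : (LinearMap.range (rho (⇑Q) s - 1) ⊓ fx (rho ⇑Q) y : Submodule F (ι → F)) ≤ fx (rho ⇑Q) s :=
      le_fx_of_lt (rho ⇑Q) ht hts hto (by norm_num) (fun u hu =>
        ⟨range_inv (rho ⇑Q) (Commute.refl s) u hu.1, fx_inv (rho ⇑Q) hsy u hu.2⟩) (by omega)
    have h7 := dvd_finrank (rho ⇑Q) ht hts hto (by norm_num) (range_inv (rho ⇑Q) (Commute.refl s))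
    have h8 : finrank F (LinearMap.range (rho (⇑Q) s - 1) ⊓ fx (rho ⇑Q) y : Submodule F (ι → F)) ≤
        finrank F (LinearMap.range (rho (⇑Q) s - 1) ⊓ fx (rho ⇑Q) s : Submodule F (ι → F)) :=
      Submodule.finrank_mono (le_inf inf_le_left h6)
    have h9 : finrank F (LinearMap.range (rho (⇑Q) s - 1) ⊓ fx (rho ⇑Q) s : Submodule F (ι → F)) ≤
        finrank F (LinearMap.range (rho (⇑Q) s - 1)) := Submodule.finrank_mono inf_le_left
    obtain ⟨d, hd⟩ := h7
    have h10 : (LinearMap.range (rho (⇑Q) s - 1) ⊓ fx (rho ⇑Q) s : Submodule F (ι → F)) =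
        LinearMap.range (rho (⇑Q) s - 1) := Submodule.eq_of_le_of_finrank_eq inf_le_left (by omega)
    refine not_range_le htF (by rwa [pow_one] at hts) hs0 ?_
    rw [← h10]
    exact inf_le_right
  · omega

theorem plus_core (hQ : Sg Q m ε₀) (hm : 4 ≤ m) {l : ℕ} (hl : l.Prime) (hlF : (l : F) = 0) {r : ℕ} (hr : r.Prime)
    (he : orderOf ((Nat.card F : ℕ) : ZMod r) = 2 * (m - 1)) (hrS : r ∣ Nat.card (Cfsg.POmega F ⇑Q)) {q : ℕ}
    (hq : q.Prime) (hqF : ¬ q ∣ Nat.card F) (hqS : q ∣ Nat.card (Cfsg.POmega F ⇑Q))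
    (hi : ∃ i, 1 ≤ i ∧ i ≤ m ∧ q ∣ Nat.card F ^ (2 * i) - 1) : RegB (Cfsg.POmega F ⇑Q) l q := by
  have hF := Finite.one_lt_card (α := F)
  by_cases h1 : q ∣ Nat.card F ^ 2 - 1
  · obtain ⟨y, hy, hfx⟩ := exists_double hQ (by omega) hq h1
    exact mid hQ hm hl hlF hr he (by omega) hrS hq hy (by omega) (by omega)
  · have hq2 : q ≠ 2 := fun h => h1 (dvd_sq hq hqF h)
    obtain ⟨f, hf⟩ : ∃ f, orderOf ((Nat.card F : ℕ) : ZMod q) = f := ⟨_, rfl⟩
    have hf0 : f ≠ 0 := hf ▸ ord_ne hq hqF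
    obtain ⟨n, ε, hn1, hε, hE, hfn, hdv⟩ := exists_n hq hq2 hf hf0
    have hn2 : 2 ≤ n := by
      by_contra hlt
      apply h1
      rw [Cfsg.Agent.Lib.Zsigmondy.dvd_pow_sub_one_iff (by omega), hf]
      obtain rfl : n = 1 := by omega
      rcases hfn with ⟨rfl, -⟩ | rfl <;> norm_num
    obtain ⟨i, hi1, him, hiq⟩ := hi
    have hnm : n ≤ m := (Nat.le_of_dvd hi1 (hdv i hiq)).trans him
    have hf3 : 3 ≤ f := by
      rcases hfn with ⟨h, k, hk⟩ | h <;> omega
    have hfn' : n ≤ f := by rcases hfn with ⟨h, -⟩ | h <;> omega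
    by_cases hlt : n + 2 ≤ m
    · obtain ⟨y, hy, hfx⟩ := exists_odd hQ (by omega) hq hq2 hE (by omega)
      have h2 := fx_le hQ hq hy hf hf0
      exact mid hQ hm hl hlF hr he (by omega) hrS hq hy (by omega) (by omega)
    · by_cases h5 : 4 < f
      · obtain ⟨t, ht, htd, hlt⟩ := exists_t hl hlF
        obtain ⟨s, hs, hfs⟩ := exists_double hQ (by omega) ht htd
        exact small hQ hm hl hlF hr he (by omega) hrS hq hq2 hqS hf (s := s) (by rwa [hs]) (by omega) (by omega)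
      · have h6 : f = 3 ∧ m = 4 := by
          rcases hfn with ⟨h, k, hk⟩ | h <;> omega
        obtain ⟨rfl, rfl⟩ := h6
        exact plus_four hQ hl hlF hr he hrS hq hq2 hqS hf

/-! ### Orders -/

theorem dvd_of {r A N M : ℕ} (hr : r.Prime) (hr2 : r ≠ 2) (hg : Nat.gcd 4 A * N = M) (h : r ∣ M) : r ∣ N := by
  rw [← hg] at h
  rcases hr.dvd_mul.1 h with h | h
  · exfalso
    have h1 : r ∣ 2 ^ 2 := h.trans (Nat.gcd_dvd_left _ _)
    exact hr2 ((Nat.prime_dvd_prime_iff_eq hr Nat.prime_two).1 (hr.dvd_of_dvd_pow h1))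
  · exact h

theorem exists_i {g N a e X M : ℕ} (hm : 1 ≤ M) (hg : g * N = a ^ e * X * ∏ i ∈ Finset.range (M - 1), (a ^ (2 * (i + 1)) - 1))
    (hX : X ∣ a ^ (2 * M) - 1) {q : ℕ} (hq : q.Prime) (hqa : ¬ q ∣ a) (hqN : q ∣ N) :
    ∃ i, 1 ≤ i ∧ i ≤ M ∧ q ∣ a ^ (2 * i) - 1 := by
  have h : q ∣ a ^ e * X * ∏ i ∈ Finset.range (M - 1), (a ^ (2 * (i + 1)) - 1) := hg ▸ hqN.mul_left g
  rcases hq.dvd_mul.1 h with h | h
  · rcases hq.dvd_mul.1 h with h | h
    · exact absurd (hq.dvd_of_dvd_pow h) hqa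
    · exact ⟨M, hm, le_rfl, h.trans hX⟩
  · obtain ⟨i, hi, hd⟩ := (Prime.dvd_finsetProd_iff hq.prime _).1 h
    rw [Finset.mem_range] at hi
    exact ⟨i + 1, by omega, by omega, hd⟩

end

theorem char_facts {F : Type*} [Field F] [Fintype F] {l q : ℕ} [CharP F l] (hq : q.Prime) (hql : q ≠ l) :
    l.Prime ∧ (l : F) = 0 ∧ ¬ q ∣ Nat.card F := by
  have hl : l.Prime := CharP.char_is_prime F l
  refine ⟨hl, CharP.cast_eq_zero F l, ?_⟩
  obtain ⟨n, -, hn⟩ := FiniteField.card F l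
  rw [Nat.card_eq_fintype_card, hn]
  intro h
  exact hql ((Nat.prime_dvd_prime_iff_eq hq hl).1 (hq.dvd_of_dvd_pow h))

theorem regB_omegaMinus {S : Type u} [Group S] [Finite S] [IsSimpleGroup S] {l : ℕ}
    (h : Cfsg.IsPOmegaMinusChar l S) {q : ℕ} (hq : q.Prime) (hql : q ≠ l) (hd : q ∣ Nat.card S) : RegB S l q := by
  obtain ⟨F, _, _, _, m, a, b, hm, hab, ⟨e⟩⟩ := h
  obtain ⟨hl, hlF, hqF⟩ := char_facts (F := F) hq hql
  have hF := Finite.one_lt_card (α := F)
  have hs := sg_minusForm (F := F) (m - 1) hab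
  rw [Nat.sub_add_cancel (by omega)] at hs
  have hord := Cfsg.Agent.S0294.result (F := F) rfl m hm a b hab
  rw [← Nat.card_eq_fintype_card (α := F), ← coe_minusForm] at hord
  have hfin : Finite (Cfsg.POmega F (Cfsg.quadFormMinus (m - 1) F a b)) := Finite.of_equiv _ e.toEquiv
  rw [Nat.card_congr e.toEquiv, ← coe_minusForm] at hd
  obtain ⟨r, hr, hro⟩ := Cfsg.Agent.Lib.Zsigmondy.exists_prime_orderOf (a := Nat.card F) (n := 2 * m) hF (by omega)
    (by omega) (by omega)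
  have h0 : r ∣ Nat.card F ^ (2 * m) - 1 := by
    rw [Cfsg.Agent.Lib.Zsigmondy.dvd_pow_sub_one_iff (by omega), hro]
  have h00 : Nat.card F ^ (2 * m) - 1 = (Nat.card F ^ m + 1) * (Nat.card F ^ m - 1) := by
    have := Nat.sq_sub_sq (Nat.card F ^ m) 1
    rw [one_pow] at this
    rw [← this, mul_comm 2 m, pow_mul]
  have h01 : r ∣ Nat.card F ^ m + 1 := by
    rw [h00] at h0
    rcases hr.dvd_mul.1 h0 with h | h
    · exact h
    · exfalso
      rw [Cfsg.Agent.Lib.Zsigmondy.dvd_pow_sub_one_iff (by omega), hro] at h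
      have := Nat.le_of_dvd (by omega) h
      omega
  have hrS := dvd_of hr (ne_two hro (by omega)) hord ((h01.mul_left _).mul_right _)
  have hi := exists_i (by omega) hord (h00 ▸ Dvd.intro _ rfl) hq hqF hd
  have h1 := minus_core hs hm hl hlF hr hro hrS hq hqF hd hi
  rw [coe_minusForm] at h1
  exact h1.congr e.symm

theorem cc_of_selfcent {S : Type*} [Group S] [Finite S] {R : Subgroup S} {r : ℕ} (hr : r.Prime)
    (hR : Nat.card R = r) (hC : Subgroup.centralizer (R : Set S) = R) : ∃ T : Subgroup S, CC T := by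
  have : Fact r.Prime := ⟨hr⟩
  obtain ⟨x, hx⟩ := exists_prime_orderOf_dvd_card' (G := R) r (hR ▸ dvd_rfl)
  have hx' : orderOf (x : S) = r := by rw [Subgroup.orderOf_coe, hx]
  have h1 : Subgroup.zpowers (x : S) = R := by
    apply Subgroup.eq_of_le_of_card_ge
    · rw [Subgroup.zpowers_le]; exact x.2
    · rw [Nat.card_zpowers, hx', hR]
  have h3 : Subgroup.centralizer ((Subgroup.zpowers (x : S) : Subgroup S) : Set S) = Subgroup.centralizer ({(x : S)} : Set S) := by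
    rw [Subgroup.zpowers_eq_closure, Subgroup.centralizer_closure]
  have h2 : Subgroup.centralizer ({(x : S)} : Set S) = R := by
    rw [← h3, h1, hC]
  exact ⟨_, CC.of_card hr hx' (by rw [h2, hR])⟩

theorem regB_omegaPlus {S : Type u} [Group S] [Finite S] [IsSimpleGroup S] {l : ℕ}
    (h : Cfsg.IsPOmegaPlusChar l S) {q : ℕ} (hq : q.Prime) (hql : q ≠ l) (hd : q ∣ Nat.card S) : RegB S l q := by
  obtain ⟨F, _, _, _, m, hm, ⟨e⟩⟩ := h
  obtain ⟨hl, hlF, hqF⟩ := char_facts (F := F) hq hql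
  have hF := Finite.one_lt_card (α := F)
  have hfin : Finite (Cfsg.POmega F (Cfsg.quadFormPlus m F)) := Finite.of_equiv _ e.toEquiv
  by_cases hex : Nat.card F = 2 ∧ m = 4
  · obtain ⟨h2, rfl⟩ := hex
    obtain ⟨R, hR, hC⟩ := Cfsg.Agent.H732.SelfCent.omega8plus_selfcent (F := F)
      (by rw [← Nat.card_eq_fintype_card, h2])
    have h7 : Nat.Prime 7 := by norm_num
    obtain ⟨T, hT⟩ := cc_of_selfcent h7 hR hC
    have hsim : IsSimpleGroup (Cfsg.POmega F (Cfsg.quadFormPlus 4 F)) := e.symm.isSimpleGroup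
    have hna : ¬ ∀ a b : Cfsg.POmega F (Cfsg.quadFormPlus 4 F), a * b = b * a := by
      intro hab
      have h3 : Subgroup.centralizer (R : Set (Cfsg.POmega F (Cfsg.quadFormPlus 4 F))) = ⊤ := by
        rw [eq_top_iff]
        intro x _
        rw [Subgroup.mem_centralizer_iff]
        intro y _
        exact hab y x
      have h4 : Nat.card (Cfsg.POmega F (Cfsg.quadFormPlus 4 F)) = 7 := by
        rw [← Subgroup.card_top, ← h3, hC, hR]
      have hord := Cfsg.Agent.S0293.result (F := F) (q := 2) (by rw [← Nat.card_eq_fintype_card, h2]) 4 le_rfl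
      rw [h4] at hord
      simp only [Nat.reduceSub, Finset.prod_range_succ, Finset.prod_range_zero] at hord
      norm_num at hord
    rw [Nat.card_congr e.toEquiv] at hd
    exact (CC.regB hna hT hl hq hd).congr e.symm
  · have hs := sg_plusForm (F := F) m
    have hord := Cfsg.Agent.S0293.result (F := F) rfl m hm
    rw [← Nat.card_eq_fintype_card (α := F), ← coe_plusForm] at hord
    rw [Nat.card_congr e.toEquiv, ← coe_plusForm] at hd
    obtain ⟨r, hr, hro⟩ := Cfsg.Agent.Lib.Zsigmondy.exists_prime_orderOf (a := Nat.card F) (n := 2 * (m - 1)) hF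
      (by omega) (by omega) (fun h => hex ⟨h.1, by omega⟩)
    have h0 : r ∣ Nat.card F ^ (2 * (m - 1)) - 1 := by
      rw [Cfsg.Agent.Lib.Zsigmondy.dvd_pow_sub_one_iff (by omega), hro]
    have h01 : r ∣ ∏ i ∈ Finset.range (m - 1), (Nat.card F ^ (2 * (i + 1)) - 1) := by
      refine Dvd.dvd.trans ?_ (Finset.dvd_prod_of_mem _ (Finset.mem_range.2 (show m - 2 < m - 1 by omega)))
      rwa [show m - 2 + 1 = m - 1 by omega]
    have hrS := dvd_of hr (ne_two hro (by omega)) hord (h01.mul_left _)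
    have h00 : Nat.card F ^ (2 * m) - 1 = (Nat.card F ^ m + 1) * (Nat.card F ^ m - 1) := by
      have := Nat.sq_sub_sq (Nat.card F ^ m) 1
      rw [one_pow] at this
      rw [← this, mul_comm 2 m, pow_mul]
    have hi := exists_i (by omega) hord (h00 ▸ Dvd.intro_left _ rfl) hq hqF hd
    have h1 := plus_core hs hm hl hlF hr hro hrS hq hqF hd hi
    rw [coe_plusForm] at h1
    exact h1.congr e.symm

end Cfsg.Agent.H877.RegOm
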