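import Cfsg.Agent.H822.Cls.Props
import Cfsg.Agent.S0059

/-!
# S4148: the permutation lemma `exists_base` (helper877)
-/

set_option autoImplicit false

namespace Cfsg.Agent.H877.Cls

open scoped Pointwise commutatorElement
open Cfsg.Agent.H822.Cls

universe u

/-- Glauberman's lemma for a solvable subgroup `A` acting coprimely on a subgroup `T`, both acting on a set. -/
theorem glaub {Γ X : Type*} [Group Γ] [Finite Γ] [MulAction Γ X] (T A : Subgroup Γ)
    (hA : ∀ a ∈ A, ∀ y ∈ T, a * y * a⁻¹ ∈ T) (hcop : (Nat.card A).Coprime (Nat.card T))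
    (hsol : Group.IsSolvable A) (ψ : X) (h : ∀ a ∈ A, ∃ x ∈ T, a • ψ = x • ψ) :
    ∃ x ∈ T, ∀ a ∈ A, a • x • ψ = x • ψ := by
  classical
  set G' : Subgroup Γ := A ⊔ T with hG'
  have hAT : A ≤ Subgroup.normalizer (T : Set Γ) := by
    intro a ha
    rw [Subgroup.mem_normalizer_iff]
    intro y
    refine ⟨fun hy => hA a ha y hy, fun hy => ?_⟩
    have := hA a⁻¹ (inv_mem ha) _ hy
    have h2 : a⁻¹ * (a * y * a⁻¹) * a⁻¹⁻¹ = y := by group
    rwa [h2] at this
  let O : Set X := {φ | ∃ x ∈ T, x • ψ = φ}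
  have hO : ∀ g ∈ G', ∀ φ ∈ O, g • φ ∈ O := by
    have h1 : G' ≤ MulAction.stabilizer Γ O := by
      apply sup_le
      · intro a ha
        rw [MulAction.mem_stabilizer_set]
        have hkey : ∀ a ∈ A, ∀ φ ∈ O, a • φ ∈ O := by
          rintro a ha φ ⟨x, hx, rfl⟩
          obtain ⟨y, hy, hay⟩ := h a ha
          refine ⟨(a * x * a⁻¹) * y, T.mul_mem (hA a ha x hx) hy, ?_⟩
          rw [mul_smul, ← hay, ← mul_smul, ← mul_smul]
          congr 1; group
        intro φ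
        refine ⟨fun hφ => ?_, fun hφ => hkey a ha φ hφ⟩
        have := hkey a⁻¹ (inv_mem ha) _ hφ
        rwa [inv_smul_smul] at this
      · intro a ha
        rw [MulAction.mem_stabilizer_set]
        have hkey : ∀ a ∈ T, ∀ φ ∈ O, a • φ ∈ O := by
          rintro a ha φ ⟨x, hx, rfl⟩
          exact ⟨a * x, T.mul_mem ha hx, by rw [mul_smul]⟩
        intro φ
        refine ⟨fun hφ => ?_, fun hφ => hkey a ha φ hφ⟩
        have := hkey a⁻¹ (inv_mem ha) _ hφ
        rwa [inv_smul_smul] at this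
    intro g hg φ hφ
    exact ((MulAction.mem_stabilizer_set.1 (h1 hg)) φ).2 hφ
  let act : MulAction G' O :=
    { smul := fun g φ => ⟨(g : Γ) • φ.1, hO g g.2 _ φ.2⟩
      one_smul := fun φ => Subtype.ext (one_smul Γ φ.1)
      mul_smul := fun g g' φ => Subtype.ext (mul_smul (g : Γ) (g' : Γ) φ.1) }
  have hact : ∀ (g : G') (φ : O), (g • φ).1 = (g : Γ) • φ.1 := fun _ _ => rfl
  have hne : Nonempty O := ⟨⟨ψ, 1, T.one_mem, one_smul Γ ψ⟩⟩
  have hT : T ≤ G' := le_sup_right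
  have hAG : A ≤ G' := le_sup_left
  have hn : (T.subgroupOf G').Normal := by
    rw [← Subgroup.normalizer_eq_top_iff, eq_top_iff]
    rintro ⟨g, hg⟩ _
    rw [Subgroup.mem_normalizer_iff]
    rintro ⟨y, hy⟩
    simp only [Subgroup.mem_subgroupOf]
    have hg' : g ∈ Subgroup.normalizer (T : Set Γ) := (sup_le hAT Subgroup.le_normalizer) hg
    rw [Subgroup.mem_normalizer_iff] at hg'
    exact hg' y
  have hdis : Disjoint T A := by
    rw [disjoint_iff]
    exact (Subgroup.disjoint_of_coprime_natCard hcop.symm).eq_bot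
  have hmul : ∀ g ∈ G', ∃ y ∈ T, ∃ a ∈ A, y * a = g := by
    intro g hg
    have h1 : g ∈ ((A ⊔ T : Subgroup Γ) : Set Γ) := hg
    rw [sup_comm, Subgroup.coe_mul_of_right_le_normalizer_left T A hAT] at h1
    obtain ⟨y, hy, a, ha, h2⟩ := h1
    exact ⟨y, hy, a, ha, h2⟩
  have hcompl : Subgroup.IsComplement' (T.subgroupOf G') (A.subgroupOf G') := by
    apply Subgroup.isComplement'_of_disjoint_and_mul_eq_univ
    · rw [disjoint_iff, eq_bot_iff]
      rintro ⟨g, hg⟩ ⟨h1, h2⟩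
      change g ∈ T at h1
      change g ∈ A at h2
      rw [Subgroup.mem_bot]
      apply Subtype.ext
      exact (Subgroup.mem_bot.1 ((disjoint_iff.1 hdis) ▸ (⟨h1, h2⟩ : g ∈ T ⊓ A)))
    · rw [Set.eq_univ_iff_forall]
      rintro ⟨g, hg⟩
      obtain ⟨y, hy, a, ha, rfl⟩ := hmul g hg
      exact ⟨⟨y, hT hy⟩, hy, ⟨a, hAG ha⟩, ha, rfl⟩
  have hcop' : (Nat.card (T.subgroupOf G')).Coprime (T.subgroupOf G').index := by
    rw [hcompl.symm.index_eq_card, Nat.card_congr (Subgroup.subgroupOfEquivOfLe hT).toEquiv,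
      Nat.card_congr (Subgroup.subgroupOfEquivOfLe hAG).toEquiv]
    exact hcop.symm
  have hsolT : Group.IsSolvable (G' ⧸ T.subgroupOf G') := by
    refine Group.isSolvable_of_surjective
      (f := (QuotientGroup.mk' (T.subgroupOf G')).comp (Subgroup.inclusion hAG)) ?_
    intro q
    obtain ⟨⟨g, hg⟩, rfl⟩ := QuotientGroup.mk'_surjective _ q
    obtain ⟨y, hy, a, ha, rfl⟩ := hmul g hg
    refine ⟨⟨a, ha⟩, ?_⟩
    have h1 : (⟨y * a, hg⟩ : G') = ⟨y, hT hy⟩ * ⟨a, hAG ha⟩ := rfl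
    have h2 : QuotientGroup.mk' (T.subgroupOf G') ⟨y, hT hy⟩ = 1 := by
      rw [QuotientGroup.mk'_apply, QuotientGroup.eq_one_iff]
      exact hy
    rw [h1, map_mul, h2, one_mul]
    rfl
  have htr : MulAction.IsPretransitive (T.subgroupOf G') O := by
    constructor
    rintro ⟨φ, x, hx, rfl⟩ ⟨φ', x', hx', rfl⟩
    refine ⟨⟨⟨x' * x⁻¹, hT (T.mul_mem hx' (T.inv_mem hx))⟩, T.mul_mem hx' (T.inv_mem hx)⟩, ?_⟩
    apply Subtype.ext
    show (x' * x⁻¹) • x • ψ = x' • ψ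
    rw [mul_smul, inv_smul_smul]
  obtain ⟨⟨φ, x, hx, rfl⟩, hφ⟩ := (Cfsg.Agent.S0059.result (T.subgroupOf G') (A.subgroupOf G') hcompl hcop'
    (Or.inr hsolT) htr).1
  refine ⟨x, hx, ?_⟩
  intro a ha
  have := hφ ⟨a, hAG ha⟩ ha
  exact congrArg Subtype.val this

section Split

variable {G : Type*} [Group G] {K H : Subgroup G}

theorem split_disj (hS : Split K H) : K ⊓ H = ⊥ :=
  (Subgroup.disjoint_of_coprime_natCard hS.cop).eq_bot

theorem split_mul (hS : Split K H) (g : G) : ∃ k ∈ K, ∃ h ∈ H, g = k * h := by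
  have := hS.normal
  have h1 : g ∈ ((K ⊔ H : Subgroup G) : Set G) := by rw [hS.compl]; trivial
  rw [Subgroup.normal_mul] at h1
  obtain ⟨k, hk, h, hh, rfl⟩ := h1
  exact ⟨k, hk, h, hh, rfl⟩

theorem split_mul' (hS : Split K H) (g : G) : ∃ h ∈ H, ∃ k ∈ K, g = h * k := by
  obtain ⟨k, hk, h, hh, e⟩ := split_mul hS g
  exact ⟨h, hh, h⁻¹ * k * h, by
    have := hS.normal.conj_mem k hk h⁻¹
    rwa [inv_inv] at this, by rw [e]; group⟩

theorem split_isCompl [Finite G] (hS : Split K H) : Subgroup.IsComplement' K H := by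
  apply Subgroup.isComplement'_of_disjoint_and_mul_eq_univ
  · rw [disjoint_iff]; exact split_disj hS
  · rw [Set.eq_univ_iff_forall]
    intro g
    obtain ⟨k, hk, h, hh, rfl⟩ := split_mul hS g
    exact ⟨k, hk, h, hh, rfl⟩

theorem split_card [Finite G] (hS : Split K H) : Nat.card K * Nat.card H = Nat.card G :=
  (split_isCompl hS).card_mul

theorem split_not_dvd [Finite G] (hS : Split K H) {p : ℕ} (hp : p.Prime) (hpH : p ∣ Nat.card H) :
    ¬ p ∣ Nat.card K := fun h => by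
  have h1 := Nat.dvd_gcd h hpH
  rw [hS.cop] at h1
  exact hp.one_lt.ne' (Nat.dvd_one.1 h1)

/-- A Sylow subgroup of the abelian factor is a Sylow subgroup of the whole group. -/
theorem split_sylow [Finite G] (hS : Split K H) {p : ℕ} (hp : p.Prime) (hpH : p ∣ Nat.card H) :
    ∃ P : Sylow p G, (P : Subgroup G) ≤ H := by
  have := Fact.mk hp
  obtain ⟨P0⟩ : Nonempty (Sylow p H) := inferInstance
  have h1 : IsPGroup p ((P0 : Subgroup H).map H.subtype) := P0.2.map _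
  obtain ⟨S, hS1⟩ := h1.exists_le_sylow
  have h2 : Nat.card S = Nat.card ((P0 : Subgroup H).map H.subtype) := by
    rw [Subgroup.card_map_of_injective H.subtype_injective, S.card_eq_multiplicity,
      P0.card_eq_multiplicity, ← split_card hS, Nat.factorization_mul Nat.card_pos.ne' Nat.card_pos.ne',
      Finsupp.add_apply, Nat.factorization_eq_zero_of_not_dvd (split_not_dvd hS hp hpH), zero_add]
  have h3 : (P0 : Subgroup H).map H.subtype = (S : Subgroup G) :=
    Subgroup.eq_of_le_of_card_ge hS1 h2.le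
  refine ⟨S, ?_⟩
  rw [← h3]
  exact Subgroup.map_subtype_le _

theorem split_solv (hS : Split K H) : Group.IsSolvable H :=
  Group.isSolvable_of_comm fun a b => Subtype.ext (hS.comm a.1 a.2 b.1 b.2)

/-- Every Sylow `p`-subgroup is conjugate by an element of `K` to one in `H`. -/
theorem split_conj [Finite G] (hS : Split K H) {p : ℕ} (hp : p.Prime) (Q : Sylow p G)
    (Λ : Subgroup G) (hQ : (Q : Subgroup G) ≤ Λ) (P : Sylow p G) (hP : (P : Subgroup G) ≤ H) (hH : H ≤ Λ) :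
    ∃ k ∈ K ⊓ Λ, ∀ x, x ∈ Q ↔ k⁻¹ * x * k ∈ P := by
  have := Fact.mk hp
  obtain ⟨⟨l, hl⟩, hlQ⟩ := MulAction.exists_smul_eq Λ (P.subtype (hP.trans hH)) (Q.subtype hQ)
  obtain ⟨k, hk, h, hh, rfl⟩ := split_mul hS l
  refine ⟨k, ⟨hk, ?_⟩, ?_⟩
  · have h1 := Λ.mul_mem hl (Λ.inv_mem (hH hh))
    rwa [mul_inv_cancel_right] at h1
  · intro x
    have hkΛ : k ∈ Λ := by
      have h1 := Λ.mul_mem hl (Λ.inv_mem (hH hh))
      rwa [mul_inv_cancel_right] at h1
    have hcomm : ∀ y ∈ P, h * y = y * h := fun y hy => hS.comm h hh y (hP hy)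
    constructor
    · intro hx
      have h1 : (⟨x, hQ hx⟩ : Λ) ∈ Q.subtype hQ := hx
      rw [← hlQ] at h1
      have h2 : (⟨x, hQ hx⟩ : Λ) ∈ ((⟨k * h, hl⟩ : Λ) • (P.subtype (hP.trans hH)) : Sylow p Λ) := h1
      rw [← SetLike.mem_coe, Sylow.coe_smul, Set.mem_smul_set_iff_inv_smul_mem, MulAut.smul_def,
        MulAut.conj_inv_apply] at h2
      have h3 : (k * h)⁻¹ * x * (k * h) ∈ P := h2
      have h4 := hcomm _ h3
      have h5 : k⁻¹ * x * k = (k * h)⁻¹ * x * (k * h) := by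
        have h6 : h * ((k * h)⁻¹ * x * (k * h)) * h⁻¹ = k⁻¹ * x * k := by group
        rw [← h6, h4, mul_inv_cancel_right]
      rw [h5]
      exact h3
    · intro hx
      have h3 : (k * h)⁻¹ * x * (k * h) = k⁻¹ * x * k := by
        have h4 := hcomm _ hx
        have h6 : (k * h)⁻¹ * x * (k * h) = h⁻¹ * (k⁻¹ * x * k * h) := by group
        rw [h6, ← h4, inv_mul_cancel_left]
      have hxΛ : x ∈ Λ := by
        have h7 := Λ.mul_mem (Λ.mul_mem hkΛ (hH (hP hx))) (Λ.inv_mem hkΛ)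
        have h8 : k * (k⁻¹ * x * k) * k⁻¹ = x := by group
        rwa [h8] at h7
      have h2 : (⟨x, hxΛ⟩ : Λ) ∈ ((⟨k * h, hl⟩ : Λ) • (P.subtype (hP.trans hH)) : Sylow p Λ) := by
        rw [← SetLike.mem_coe, Sylow.coe_smul, Set.mem_smul_set_iff_inv_smul_mem, MulAut.smul_def,
          MulAut.conj_inv_apply]
        show (k * h)⁻¹ * x * (k * h) ∈ P
        rw [h3]
        exact hx
      rw [hlQ] at h2
      exact h2

end Split

theorem exists_base : BaseLemma.{u} := by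
  intro G Δ _ _ _ _ _ K H hS
  classical
  have hKn := hS.normal
  -- (a)-primes
  let ap : ℕ → Prop := fun p => p.Prime ∧ p ∣ Nat.card H ∧ ∃ Q : Sylow p G, ∃ g ∈ Q, ∃ i : Δ, g • i ≠ i
  have hap : ∀ p, ap p → ∀ P : Sylow p G, (P : Subgroup G) ≤ H →
      (∃ ω : Δ, p ∣ Nat.card (MulAction.orbit H ω)) ∧
      ∀ ω : Δ, p ∣ Nat.card (MulAction.orbit H ω) → ∃ g ∈ P, g • ω ≠ ω := by
    rintro p ⟨hp, hpH, Q, g, hg, i, hi⟩ P hP
    have := Fact.mk hp
    obtain ⟨k, -, hk⟩ := split_conj hS hp Q ⊤ le_top P hP le_top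
    refine ⟨⟨k⁻¹ • i, ?_⟩, ?_⟩
    · have h1 := (hk g).1 hg
      have h2 : (k⁻¹ * g * k) • (k⁻¹ • i) ≠ k⁻¹ • i := by
        rw [mul_smul, smul_inv_smul, mul_smul]
        intro h
        exact hi (smul_left_cancel _ h)
      rw [Nat.card_congr (MulAction.orbitEquivQuotientStabilizer H (k⁻¹ • i))]
      by_contra hcon
      let x : H := ⟨k⁻¹ * g * k, hP h1⟩
      have hn : (MulAction.stabilizer H (k⁻¹ • i)).Normal := by
        constructor
        intro a ha b
        have h3 : b * a * b⁻¹ = a := by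
          rw [show b * a = a * b from Subtype.ext (hS.comm b.1 b.2 a.1 a.2), mul_inv_cancel_right]
        rw [h3]; exact ha
      obtain ⟨n, hxn⟩ := P.2 ⟨k⁻¹ * g * k, h1⟩
      have hxn' : x ^ p ^ n = 1 := Subtype.ext (congrArg (fun y : P => (y : G)) hxn)
      have h4 : (QuotientGroup.mk x : H ⧸ MulAction.stabilizer H (k⁻¹ • i)) = 1 := by
        rw [← orderOf_eq_one_iff]
        have h5 : orderOf (QuotientGroup.mk x : H ⧸ MulAction.stabilizer H (k⁻¹ • i)) ∣ p ^ n := by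
          rw [orderOf_dvd_iff_pow_eq_one, ← QuotientGroup.mk_pow, hxn', QuotientGroup.mk_one]
        have h6 : orderOf (QuotientGroup.mk x : H ⧸ MulAction.stabilizer H (k⁻¹ • i)) ∣
            Nat.card (H ⧸ MulAction.stabilizer H (k⁻¹ • i)) := orderOf_dvd_natCard _
        have h7 : (p ^ n).Coprime (Nat.card (H ⧸ MulAction.stabilizer H (k⁻¹ • i))) :=
          Nat.Coprime.pow_left n ((Nat.Prime.coprime_iff_not_dvd hp).2 hcon)
        exact Nat.eq_one_of_dvd_coprimes h7 h5 h6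
      rw [QuotientGroup.eq_one_iff] at h4
      exact h2 h4
    · intro ω hω
      by_contra hcon
      push Not at hcon
      rw [Nat.card_congr (MulAction.orbitEquivQuotientStabilizer H ω)] at hω
      let P0 : Subgroup H := (P : Subgroup G).subgroupOf H
      have h1 : P0 ≤ MulAction.stabilizer H ω := fun x hx => hcon x.1 hx
      have h2 : (MulAction.stabilizer H ω).index ∣ P0.index := Subgroup.index_dvd_of_le h1
      have h3 : P0.index ∣ (P : Subgroup G).index := by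
        show (P : Subgroup G).relIndex H ∣ _
        exact Dvd.intro _ (Subgroup.relIndex_mul_index hP)
      exact P.not_dvd_index ((hω.trans h2).trans h3)
  by_cases hno : ∀ p, ¬ ap p
  · obtain ⟨i⟩ := (inferInstance : Nonempty Δ)
    refine ⟨{i}, ⟨i, rfl⟩, ?_, ?_⟩
    · intro ω hω ω' hω' _
      rw [Set.mem_singleton_iff.1 hω, Set.mem_singleton_iff.1 hω']
    · intro p hp hpH Q hQ _
      exact absurd ⟨hp, hpH, Q, hQ⟩ (hno p)
  push Not at hno
  -- a minimal set of representatives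
  let 𝒮 : Set (Set Δ) := {B | ∀ p, ap p → ∃ ω ∈ B, p ∣ Nat.card (MulAction.orbit H ω)}
  have hne : 𝒮.Nonempty := ⟨Set.univ, fun p hp => by
    obtain ⟨P, hP⟩ := split_sylow hS hp.1 hp.2.1
    obtain ⟨ω, hω⟩ := (hap p hp P hP).1
    exact ⟨ω, trivial, hω⟩⟩
  obtain ⟨B, hB, hBmin⟩ := Set.exists_min_image 𝒮 Set.ncard (Set.toFinite _) hne
  have hpriv : ∀ ω ∈ B, ∃ q : ℕ, q ∣ Nat.card (MulAction.orbit H ω) ∧
      ∀ ω' ∈ B, q ∣ Nat.card (MulAction.orbit H ω') → ω' = ω := by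
    intro ω hω
    have h1 : B \ {ω} ∉ 𝒮 := fun h => by
      have h2 := hBmin _ h
      have h3 := Set.ncard_sdiff_singleton_lt_of_mem hω (Set.toFinite B)
      omega
    simp only [𝒮, Set.mem_setOf_eq] at h1
    push Not at h1
    obtain ⟨q, hq, h2⟩ := h1
    obtain ⟨ω'', hω'', h3⟩ := hB q hq
    have h4 : ∀ ω' ∈ B, q ∣ Nat.card (MulAction.orbit H ω') → ω' = ω := by
      intro ω' hω' h5
      by_contra h6
      exact h2 ω' ⟨hω', h6⟩ h5
    have h5 := h4 ω'' hω'' h3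
    rw [h5] at h3
    exact ⟨q, h3, h4⟩
  have horb : ∀ ω ω' : Δ, ω' ∈ MulAction.orbit H ω → MulAction.orbit H ω' = MulAction.orbit H ω :=
    fun ω ω' h => MulAction.orbit_eq_iff.2 h
  obtain ⟨p0, hp0⟩ := hno
  refine ⟨B, ?_, ?_, ?_⟩
  · obtain ⟨ω, hω, -⟩ := hB p0 hp0
    exact ⟨ω, hω⟩
  · intro ω hω ω' hω' h
    obtain ⟨q, hq1, hq2⟩ := hpriv ω hω
    apply hq2 ω' hω'
    rw [horb _ _ h]
    exact hq1
  · intro p hp hpH Q hQ hΓ
    set Γ : Set Δ := ⋃ ω ∈ B, MulAction.orbit H ω with hΓdef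
    have hmemΓ : ∀ {z : Δ}, z ∈ Γ ↔ ∃ ω ∈ B, z ∈ MulAction.orbit H ω := by
      intro z
      rw [hΓdef, Set.mem_iUnion₂]
      exact ⟨fun ⟨a, b, c⟩ => ⟨a, b, c⟩, fun ⟨a, b, c⟩ => ⟨a, b, c⟩⟩
    let Λ : Subgroup G := MulAction.stabilizer G Γ
    have hΛ : ∀ {g : G}, g ∈ Λ → ∀ {z : Δ}, z ∈ Γ → g • z ∈ Γ := by
      intro g hg z hz
      exact ((MulAction.mem_stabilizer_set.1 hg) z).2 hz
    have hHΛ : H ≤ Λ := by
      intro h hh
      rw [MulAction.mem_stabilizer_set]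
      have key : ∀ h ∈ H, ∀ z ∈ Γ, h • z ∈ Γ := by
        intro h hh z hz
        obtain ⟨ω, hω, h', rfl⟩ := hmemΓ.1 hz
        refine hmemΓ.2 ⟨ω, hω, ⟨h, hh⟩ * h', ?_⟩
        show (h * h'.1) • ω = h • h'.1 • ω
        rw [mul_smul]
      intro z
      refine ⟨fun hz => ?_, fun hz => key h hh z hz⟩
      have := key h⁻¹ (H.inv_mem hh) _ hz
      rwa [inv_smul_smul] at this
    let K' : Subgroup G := K ⊓ Λ
    have hnorm : ∀ h ∈ H, ∀ k ∈ K', h * k * h⁻¹ ∈ K' := fun h hh k hk =>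
      ⟨hKn.conj_mem k hk.1 h, Λ.mul_mem (Λ.mul_mem (hHΛ hh) hk.2) (Λ.inv_mem (hHΛ hh))⟩
    have hfix : ∀ z ∈ Γ, ∀ k ∈ K', k • z = z := by
      intro z hz
      let A : Subgroup G :=
        { carrier := {h | h ∈ H ∧ ∃ k ∈ K', h • z = k • z}
          mul_mem' := by
            rintro a b ⟨ha, k, hk, e⟩ ⟨hb, l, hl, e'⟩
            refine ⟨H.mul_mem ha hb, (a * l * a⁻¹) * k, K'.mul_mem (hnorm a ha l hl) hk, ?_⟩
            rw [mul_smul, e', mul_smul, ← e, ← mul_smul, ← mul_smul]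
            congr 1; group
          one_mem' := ⟨H.one_mem, 1, K'.one_mem, rfl⟩
          inv_mem' := by
            rintro a ⟨ha, k, hk, e⟩
            refine ⟨H.inv_mem ha, a⁻¹ * k⁻¹ * a⁻¹⁻¹, hnorm _ (H.inv_mem ha) _ (K'.inv_mem hk), ?_⟩
            rw [inv_inv, mul_smul, mul_smul, e, inv_smul_smul] }
      have hAH : A ≤ H := fun a ha => ha.1
      have hsolH := split_solv hS
      have hsolA : Group.IsSolvable A := Group.isSolvable_of_isSolvable_injective (Subgroup.inclusion_injective hAH)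
      have hcop : (Nat.card A).Coprime (Nat.card K') :=
        (Nat.Coprime.coprime_dvd_left (Subgroup.card_dvd_of_le (inf_le_left : K' ≤ K))
          (Nat.Coprime.coprime_dvd_right (Subgroup.card_dvd_of_le hAH) hS.cop)).symm
      obtain ⟨x, hx, hxA⟩ := glaub K' A (fun a ha k hk => hnorm a ha.1 k hk) hcop hsolA z
        (fun a ha => ha.2)
      -- the property of y = x z
      have hy : ∀ h ∈ H, (∃ k ∈ K', h • x • z = k • x • z) → h • x • z = x • z := by
        rintro h hh ⟨k, hk, e⟩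
        apply hxA h
        refine ⟨hh, (h * x * h⁻¹)⁻¹ * (k * x), K'.mul_mem (K'.inv_mem (hnorm h hh x hx)) (K'.mul_mem hk hx), ?_⟩
        rw [mul_smul, mul_smul k, ← e, eq_inv_smul_iff, ← mul_smul, ← mul_smul]
        congr 1; group
      have hyΓ : x • z ∈ Γ := hΛ hx.2 hz
      obtain ⟨ω, hω, hyω⟩ := hmemΓ.1 hyΓ
      obtain ⟨q, hq1, hq2⟩ := hpriv ω hω
      have hfy : ∀ k ∈ K', k • x • z = x • z := by
        intro k hk
        have hwΓ : k • x • z ∈ Γ := hΛ hk.2 hyΓ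
        obtain ⟨ω', hω', hwω'⟩ := hmemΓ.1 hwΓ
        have h1 : MulAction.stabilizer H (k • x • z) ≤ MulAction.stabilizer H (x • z) := by
          intro g hg
          have h2 : g.1 • k • x • z = k • x • z := hg
          show g.1 • x • z = x • z
          apply hy g.1 g.2
          refine ⟨(g.1 * k * g.1⁻¹)⁻¹ * k, K'.mul_mem (K'.inv_mem (hnorm _ g.2 k hk)) hk, ?_⟩
          rw [mul_smul, eq_inv_smul_iff, ← mul_smul, inv_mul_cancel_right, mul_smul]
          exact h2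
        have h3 : Nat.card (MulAction.orbit H (x • z)) ∣ Nat.card (MulAction.orbit H (k • x • z)) := by
          rw [Nat.card_congr (MulAction.orbitEquivQuotientStabilizer H (x • z)),
            Nat.card_congr (MulAction.orbitEquivQuotientStabilizer H (k • x • z))]
          exact Subgroup.index_dvd_of_le h1
        rw [horb _ _ hyω, horb _ _ hwω'] at h3
        have h4 := hq2 ω' hω' (hq1.trans h3)
        rw [h4, ← horb _ _ hyω] at hwω'
        obtain ⟨h, hh⟩ := hwω'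
        have h5 : h.1 • x • z = k • x • z := hh
        rw [← h5]
        exact hy h.1 h.2 ⟨k, hk, h5⟩
      have h6 : x • z = z := by
        have h7 := hfy x⁻¹ (K'.inv_mem hx)
        rw [inv_smul_smul] at h7
        exact h7.symm
      rw [h6] at hfy
      exact hfy
    -- the final step
    have hQΛ : (Q : Subgroup G) ≤ Λ := fun g hg => hΓ g hg
    obtain ⟨P, hP⟩ := split_sylow hS hp hpH
    have hap' : ap p := ⟨hp, hpH, Q, hQ⟩
    obtain ⟨k, hk, hkQ⟩ := split_conj hS hp Q Λ hQΛ P hP hHΛ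
    obtain ⟨ω, hω, hpω⟩ := hB p hap'
    obtain ⟨h, hh, hhω⟩ := (hap p hap' P hP).2 ω hpω
    have hωΓ : ω ∈ Γ := hmemΓ.2 ⟨ω, hω, MulAction.mem_orbit_self ω⟩
    have h1 : (k * h * k⁻¹) • ω = h • ω := by
      rw [mul_smul, mul_smul, hfix ω hωΓ _ (K'.inv_mem hk)]
      exact hfix _ (hΛ (hHΛ (hP hh)) hωΓ) k hk
    refine ⟨k * h * k⁻¹, ?_, ω, hω, ?_, ?_⟩
    · rw [hkQ]
      have h2 : k⁻¹ * (k * h * k⁻¹) * k = h := by group
      rw [h2]; exact hh
    · rw [h1]
      exact ⟨⟨h, hP hh⟩, rfl⟩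
    · rw [h1]; exact hhω

end Cfsg.Agent.H877.Cls
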