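import Cfsg.Agent.H709.PB.Guide
import Cfsg.Agent.H723.Spor.JFour
import Cfsg.Agent.H724.IMTool
import Cfsg.Agent.S5569
import Cfsg.Agent.S5567
import Cfsg.Agent.H633.ElJ4
import Cfsg.Agent.H877.IMJ4

/-!
# S4826: the row of `J4` (helper877)
-/

set_option autoImplicit false

open Cfsg

namespace Cfsg.Agent.H877.PBJ4

open Subgroup Cfsg.Agent.H709.PB Cfsg.Agent.H133.PB Cfsg.Agent.H33
open Cfsg.Agent.H723.Spor.JFour

universe u v

section

variable {G : Type u} [Group G] [Finite G]

/-- one 2-block in the centralizer of a 2-central involution -/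
theorem one_block_z {z : G} (h : IsOfJankoFourTypeAt z) {d : ℕ} : DB 2 d ↥(centralizer ({z} : Set G)) := by
  have : Fact (Nat.Prime 2) := ⟨Nat.prime_two⟩
  obtain ⟨P, hz, hE, hEc, hC, -⟩ := h
  have hn : (pCore 2 ↥(centralizer ({z} : Set G))).Normal := inferInstance
  refine DB.of_centric (pCore 2 ↥(centralizer ({z} : Set G))) ?_ ?_
  · exact Cfsg.Agent.Lib.Cores.pCore_isPGroup 2
  · intro y hy
    have h1 : (y : G) ∈ twoCoreOfCentralizer z := by
      apply hC
      refine ⟨y.2, ?_⟩
      show (y : G) ∈ centralizer (twoCoreOfCentralizer z : Set G)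
      rw [mem_centralizer_iff]
      rintro _ ⟨e, he, rfl⟩
      exact congrArg Subtype.val (mem_centralizer_iff.1 hy e he)
    obtain ⟨e, he, hey⟩ := h1
    have h2 : e = y := Subtype.ext hey
    rwa [← h2]

/-- one 2-block in the centralizers of the involutions -/
theorem one_block [IsSimpleGroup G] (hG : ¬ IsMulCommutative G) {z : G} (h : IsOfJankoFourTypeAt z) {t : G}
    (ht : orderOf t = 2) {d : ℕ} : DB 2 d ↥(centralizer ({t} : Set G)) := by
  have : Fact (Nat.Prime 2) := ⟨Nat.prime_two⟩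
  by_cases hzt : IsConj z t
  · obtain ⟨g, hg⟩ := isConj_iff.1 hzt
    have h1 : (centralizer ({z} : Set G)).map (MulAut.conj g).toMonoidHom = centralizer ({t} : Set G) := by
      ext y
      constructor
      · rintro ⟨x, hx, rfl⟩
        have hx' := mem_centralizer_singleton_iff.1 hx
        rw [mem_centralizer_singleton_iff]
        show g * x * g⁻¹ * t = t * (g * x * g⁻¹)
        rw [← hg]
        calc g * x * g⁻¹ * (g * z * g⁻¹) = g * (x * z) * g⁻¹ := by group
          _ = g * z * g⁻¹ * (g * x * g⁻¹) := by rw [hx']; group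
      · intro hy
        have hy' := mem_centralizer_singleton_iff.1 hy
        rw [← hg] at hy'
        refine ⟨g⁻¹ * y * g, mem_centralizer_singleton_iff.2 ?_, ?_⟩
        · calc g⁻¹ * y * g * z = g⁻¹ * (y * (g * z * g⁻¹)) * g := by group
            _ = z * (g⁻¹ * y * g) := by rw [hy']; group
        · show g * (g⁻¹ * y * g) * g⁻¹ = y
          group
    rw [← h1]
    exact DB.of_equiv ((centralizer ({z} : Set G)).equivMapOfInjective
      (MulAut.conj g).toMonoidHom (MulAut.conj g).injective).symm (one_block_z h)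
  · obtain ⟨V, K, hV, hK, hn, hea, hc, hi, hs, -⟩ := Cfsg.Agent.S5569.result hG z h t ht hzt
    have hVC := (Cfsg.Agent.S5567.result hG ⟨z, h⟩ V hea hc).1
    have hN : (V.subgroupOf (centralizer ({t} : Set G))).Normal := by
      constructor
      intro x hx y
      rw [mem_subgroupOf] at hx ⊢
      exact ((mem_normalizer_iff.1 (hn y.2)) x).1 hx
    refine DB.of_centric (V.subgroupOf (centralizer ({t} : Set G))) ?_ ?_
    · rw [IsPGroup.iff_card]
      exact ⟨11, by rw [← hc]; exact Nat.card_congr (subgroupOfEquivOfLe hV).toEquiv⟩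
    · intro y hy
      rw [mem_subgroupOf]
      apply hVC
      rw [mem_centralizer_iff]
      intro v hv
      exact congrArg Subtype.val (mem_centralizer_iff.1 hy ⟨v, hV hv⟩ hv)

end

open Cfsg.Agent.H877.IMJ4 (simple nonab finJ4 real29 im_model)

attribute [local instance] finJ4

theorem nb2 : NB 2 21 Spor.J4 := by
  have : Fact (Nat.Prime 2) := ⟨Nat.prime_two⟩
  have hsim : IsSimpleGroup Spor.J4 := simple
  obtain ⟨z, hz⟩ := Cfsg.Agent.H337.isOfJankoFourType_of_isoJ4 (G := Spor.J4) ⟨MulEquiv.refl _⟩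
  refine NB.of_one_block ?_ fun x hx => one_block nonab hz hx
  rw [Cfsg.Agent.S1703.result.2]
  norm_num

theorem nb_big {q : ℕ} (hq : q = 23 ∨ q = 29 ∨ q = 31 ∨ q = 37 ∨ q = 43) : NB q 1 Spor.J4 := by
  have : Fact q.Prime := ⟨prime_big hq⟩
  obtain ⟨y, hy⟩ := exists_prime_order (prime_big hq) (by
    rcases hq with rfl | rfl | rfl | rfl | rfl <;> norm_num)
  refine NB.of_self (g := y) ?_ ⟨1, by rw [pow_one, hy]⟩
  rw [IsPGroup.iff_card]
  exact ⟨1, by rw [pow_one]; exact cent_big hq hy⟩

/-- **The row of `J4`**, given the Ito-Michler rows. -/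
theorem row_of {p : ℕ} (hp : p.Prime) (hp2 : p ≠ 2) (him : IM p Spor.J4) : Row p Spor.J4 := by
  have hcard := Cfsg.Agent.S1703.result.2
  have h2 : (2 : ℕ).Prime ∧ 2 ≠ p ∧ 2 ∣ Nat.card Spor.J4 ∧ NB 2 21 Spor.J4 :=
    ⟨Nat.prime_two, fun h => hp2 h.symm, by rw [hcard]; norm_num, nb2⟩
  have hbig : ∀ q : ℕ, (q = 29 ∨ q = 37 ∨ q = 43) → q ≠ p →
      q.Prime ∧ q ≠ p ∧ q ∣ Nat.card Spor.J4 ∧ NB q 1 Spor.J4 := by
    rintro q (rfl | rfl | rfl) hqp
    · exact ⟨by norm_num, hqp, by rw [hcard]; norm_num, nb_big (by simp)⟩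
    · exact ⟨by norm_num, hqp, by rw [hcard]; norm_num, nb_big (by simp)⟩
    · exact ⟨by norm_num, hqp, by rw [hcard]; norm_num, nb_big (by simp)⟩
  have h3 : 3 ≤ p := by
    have := hp.two_le
    omega
  by_cases h37 : p = 37
  · subst h37
    refine Row.of_IM hp him [(2, 21), (29, 1), (43, 1)] (by decide) ?_ ?_
    · intro x hx
      simp only [List.mem_cons, List.not_mem_nil, or_false] at hx
      rcases hx with rfl | rfl | rfl
      · exact h2
      · exact hbig 29 (by simp) (by norm_num)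
      · exact hbig 43 (by simp) (by norm_num)
    · rw [hcard]; norm_num
  by_cases h43 : p = 43
  · subst h43
    refine Row.of_IM hp him [(2, 21), (29, 1), (37, 1)] (by decide) ?_ ?_
    · intro x hx
      simp only [List.mem_cons, List.not_mem_nil, or_false] at hx
      rcases hx with rfl | rfl | rfl
      · exact h2
      · exact hbig 29 (by simp) (by norm_num)
      · exact hbig 37 (by simp) (by norm_num)
    · rw [hcard]; norm_num
  · refine Row.of_IM hp him [(2, 21), (37, 1), (43, 1)] (by decide) ?_ ?_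
    · intro x hx
      simp only [List.mem_cons, List.not_mem_nil, or_false] at hx
      rcases hx with rfl | rfl | rfl
      · exact h2
      · exact hbig 37 (by simp) (fun h => h37 h.symm)
      · exact hbig 43 (by simp) (fun h => h43 h.symm)
    · rw [hcard]
      have h4 : (3 * 3336568832) ^ 2 ≤ (p * 3336568832) ^ 2 := Nat.pow_le_pow_left (Nat.mul_le_mul_right _ h3) 2
      refine lt_of_lt_of_le (by norm_num) (h4.trans (le_of_eq ?_))
      norm_num

theorem row_two : Row 2 Spor.J4 := by
  have : Fact (Nat.Prime 29) := ⟨by norm_num⟩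
  obtain ⟨y, hy, hyr, hyC⟩ := real29
  refine Row.of_real_odd (q := 29) (g := y) ⟨1, by rw [hy, pow_one]⟩ (fun h => ?_) hyr (by rw [hyC]; decide)
  rw [h, orderOf_one] at hy
  omega

theorem row_model {p : ℕ} (hp : p.Prime) (hd : p ∣ Nat.card Spor.J4) : Row p Spor.J4 := by
  by_cases hp2 : p = 2
  · subst hp2
    exact row_two
  · exact row_of hp hp2 (im_model hp hd)

/-- **The row of `J4` for S4826.** -/
theorem row_j4 {S : Type u} [Group S] (h : Cfsg.Spor.IsoJ4 S) {p : ℕ} (hp : p.Prime) (hd : p ∣ Nat.card S) :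
    Cfsg.Agent.H133.PB.Row p S := by
  obtain ⟨e⟩ := h
  have hfin : Finite S := Finite.of_equiv _ e.symm.toEquiv
  exact Row.of_equiv e (row_model hp (by rw [← Nat.card_congr e.toEquiv]; exact hd))

end Cfsg.Agent.H877.PBJ4
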