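import Cfsg.Agent.H877.PolSp

/-!
# The row `PSp` of S4834 (helper877)
-/

set_option autoImplicit false

namespace Cfsg.Agent.H877.Pol

open Matrix MatrixGroups

universe u v

section abstract

variable {F : Type u} {V : Type v} [Field F] [Finite F] [AddCommGroup V] [Module F V] [Finite V]
  {B : LinearMap.BilinForm F V} {q : V → F} {e : F} {E : Subgroup (V ≃ₗ[F] V)}
  {p : ℕ} [Fact p.Prime] [CharP F p]

theorem PS.good_symp (h : PS B q e E) (he : e = -1) (hp3 : 3 < p)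
    (haut : ∀ φ : MulAut (E ⧸ Subgroup.center E), ∃ (g : V → V) (θ : F ≃+* F) (μ : F), SemiSim B q g θ μ ∧ Ind E φ g)
    (haut' : ∀ φ : MulAut (E ⧸ Subgroup.center E), (∃ k : ℕ, orderOf φ = p ^ k) →
      ∃ (g : V → V) (θ : F ≃+* F) (μ : F), SemiSim B q g θ μ ∧ Ind E φ g ∧ ∃ m : ℕ, θ ^ p ^ m = 1)
    {π : PGL(2, F) → ℂ} (hπ : letI := Fintype.ofFinite F; H687.IsCusp p F π) :
    H687.Good p (E ⧸ Subgroup.center E) := by
  let _ := Fintype.ofFinite F
  have hfE : Finite (V ≃ₗ[F] V) := Finite.of_injective (fun g : V ≃ₗ[F] V => (g : V → V)) DFunLike.coe_injective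
  have hfS : Finite (E ⧸ Subgroup.center E) := Quotient.finite _
  obtain ⟨w, v, hp⟩ := h.ex
  obtain ⟨ρ, D, x₀, hD⟩ := h.cuspDat (by omega) hp haut'
  obtain ⟨α, hα, ⟨a, ha, ha1, hpa, hle⟩, hext⟩ := h.alpha_symp (p := p) he hp3 hp haut
  exact H687.cusp_good hp3 hD hπ hα ha ha1 hpa hle hext

theorem PS.good_orth (h : PS B q e E) (he : e = 1) (hp3 : 3 < p)
    (haut' : ∀ φ : MulAut (E ⧸ Subgroup.center E), (∃ k : ℕ, orderOf φ = p ^ k) →
      ∃ (g : V → V) (θ : F ≃+* F) (μ : F), SemiSim B q g θ μ ∧ Ind E φ g ∧ ∃ m : ℕ, θ ^ p ^ m = 1)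
    {π : PGL(2, F) → ℂ} (hπ : letI := Fintype.ofFinite F; H687.IsCusp p F π) :
    H687.Good p (E ⧸ Subgroup.center E) := by
  let _ := Fintype.ofFinite F
  have hfE : Finite (V ≃ₗ[F] V) := Finite.of_injective (fun g : V ≃ₗ[F] V => (g : V → V)) DFunLike.coe_injective
  have hfS : Finite (E ⧸ Subgroup.center E) := Quotient.finite _
  obtain ⟨w, v, hp⟩ := h.ex
  obtain ⟨ρ, D, x₀, hD⟩ := h.cuspDat (by omega) hp haut'
  obtain ⟨α, hα, ⟨a, ha, ha1, hpa, hle⟩, hext⟩ := h.alpha_orth (p := p) he hp3 hp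
  exact H687.cusp_good hp3 hD hπ hα ha ha1 hpa hle hext

end abstract

theorem iterate_eq_pow {F : Type*} [Field F] (θ : F ≃+* F) (n : ℕ) (a : F) : (θ ^ n) a = θ^[n] a := by
  induction n with
  | zero => rfl
  | succ n ih =>
    rw [pow_succ', Function.iterate_succ_apply']
    show θ ((θ ^ n) a) = _
    rw [ih]

section symp

open Cfsg.Agent.ClassicalGeometry.SympBasic Cfsg.Agent.ClassicalGeometry.SympAutSemi
  Cfsg.Agent.ClassicalGeometry.SympGamma

variable {F : Type u} [Field F] {m p : ℕ}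

theorem range_spLin : (BpCl.spLin m F).range = BpCl.Iso (fun u v => sympBilin m F u v) := by
  ext h
  constructor
  · rintro ⟨A, rfl⟩ u v
    exact sympForm_rho A u v
  · intro h1
    obtain ⟨A, hA⟩ := exists_rho_eq h.toEquiv (fun u v => map_add h u v) (fun a v => map_smul h a v)
      (fun u v => h1 u v)
    refine ⟨A, ?_⟩
    apply LinearEquiv.ext
    intro v
    rw [BpCl.spLin_apply, hA]
    rfl

/-- `Sp ≃* Iso`. -/
noncomputable def spEquiv (m : ℕ) (F : Type*) [Field F] :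
    ↥(Matrix.symplecticGroup (Fin m) F) ≃* ↥(BpCl.Iso (fun u v => sympBilin m F u v)) :=
  (MonoidHom.ofInjective (BpCl.spLin_injective (m := m) (F := F))).trans (MulEquiv.subgroupCongr range_spLin)

theorem spEquiv_apply (A : Matrix.symplecticGroup (Fin m) F) (v : Fin m ⊕ Fin m → F) :
    (spEquiv m F A).1 v = rho m F A v := rfl

theorem symp_ps (hm : 2 ≤ m) (h2 : (2 : F) ≠ 0) :
    PS (sympBilin m F) (fun _ => 0) (-1) (BpCl.Iso (fun u v => sympBilin m F u v)) := by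
  refine ps_symp sympBilin_isAlt (fun u hu => eq_zero_of_forall_sympForm_right hu) h2 ?_
  have hinj : ∀ i j : Fin 2, Fin.castLE hm i = Fin.castLE hm j ↔ i = j := fun i j =>
    (Fin.castLE_injective hm).eq_iff
  refine ⟨fun i => Pi.single (Sum.inr (Fin.castLE hm i)) 1, fun i => Pi.single (Sum.inl (Fin.castLE hm i)) 1,
    fun _ => rfl, fun _ => rfl, fun i j => ?_, fun i j => ?_, fun i j => ?_⟩
  · rw [sympBilin_apply, sympForm_single_inr_left]
    simp
  · rw [sympBilin_apply, sympForm_single_inl_left]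
    simp
  · rw [sympBilin_apply, sympForm_single_inr_left, Pi.single_apply]
    simp only [Sum.inl.injEq, hinj]

/-- The isomorphism of the quotients. -/
noncomputable def pspEquiv (m : ℕ) (F : Type*) [Field F] :
    PSp m F ≃* ↥(BpCl.Iso (fun u v => sympBilin m F u v)) ⧸ Subgroup.center ↥(BpCl.Iso (fun u v => sympBilin m F u v)) :=
  QuotientGroup.congr _ _ (spEquiv m F) (LieClassical.OrthFinite.map_center_mulEquiv _)

theorem pspEquiv_mk (A : Matrix.symplecticGroup (Fin m) F) :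
    pspEquiv m F (QuotientGroup.mk A) = prj _ (spEquiv m F A) := rfl

theorem surj_Psi [Finite F] (hm : 2 ≤ m) (h2 : (2 : F) ≠ 0) (α : MulAut (PSp m F)) : ∃ g, Psi m F g = α := by
  have := Fintype.ofFinite F
  exact Cfsg.Agent.ClassicalGeometry.SympAutExists.exists_semi hm α
    (Cfsg.Agent.ClassicalGeometry.SympAutOddA.recog hm (Or.inr h2) α)

theorem semiSim_of {g : Equiv.Perm (Fin m ⊕ Fin m → F)} {θ : F ≃+* F} {l : F} (hl : l ≠ 0) (hg : IsSemi g θ l) :
    SemiSim (sympBilin m F) (fun _ => 0) g θ l where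
  ne := hl
  inj := g.injective
  add := hg.1
  smul := hg.2.1
  form := hg.2.2
  quad x := by rw [map_zero, mul_zero]

theorem ind_of (φ : MulAut (↥(BpCl.Iso (fun u v => sympBilin m F u v)) ⧸
    Subgroup.center ↥(BpCl.Iso (fun u v => sympBilin m F u v)))) (g : semiSim m F)
    (hg : Psi m F g = MulAut.congr (pspEquiv m F).symm φ) : Ind _ φ g.1 := by
  intro t
  obtain ⟨A, rfl⟩ := (spEquiv m F).surjective t
  refine ⟨spEquiv m F (conjHom m F g A), ?_, fun x => ?_⟩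
  · rw [← pspEquiv_mk, ← pspEquiv_mk, ← Psi_mk, hg]
    show _ = pspEquiv m F ((pspEquiv m F).symm (φ ((pspEquiv m F).symm.symm (QuotientGroup.mk A))))
    rw [MulEquiv.apply_symm_apply, MulEquiv.symm_symm]
  · rw [spEquiv_apply, spEquiv_apply, rho_conjHom, Equiv.Perm.mul_apply, Equiv.Perm.mul_apply,
      perm_inv_apply_self]

/-- **Row `PSp` of S4834.** -/
theorem good_psp [Fact p.Prime] [Finite F] [CharP F p] (hm : 2 ≤ m) (hp3 : 3 < p)
    (hπ : letI := Fintype.ofFinite F; ∃ π : PGL(2, F) → ℂ, H687.IsCusp p F π) : H687.Good p (PSp m F) := by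
  obtain ⟨π, hπ⟩ := hπ
  have h2 : (2 : F) ≠ 0 := by
    intro h0
    have h1 : ((2 : ℕ) : F) = 0 := by exact_mod_cast h0
    rw [CharP.cast_eq_zero_iff F p] at h1
    have := Nat.le_of_dvd (by norm_num) h1
    omega
  have hPS := symp_ps (F := F) hm h2
  refine H687.Good.of_equiv (pspEquiv m F) (hPS.good_symp rfl hp3 ?_ ?_ hπ)
  · intro φ
    obtain ⟨g, hg⟩ := surj_Psi hm h2 (MulAut.congr (pspEquiv m F).symm φ)
    obtain ⟨θ, l, hl, hs⟩ := g.2
    exact ⟨g.1, θ, l, semiSim_of hl hs, ind_of φ g hg⟩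
  · rintro φ ⟨k, hk⟩
    obtain ⟨g, hg⟩ := surj_Psi hm h2 (MulAut.congr (pspEquiv m F).symm φ)
    obtain ⟨θ, l, hl, hs⟩ := g.2
    refine ⟨g.1, θ, l, semiSim_of hl hs, ind_of φ g hg, k, ?_⟩
    have h3 : Psi m F (g ^ p ^ k) = 1 := by
      rw [map_pow, hg, ← map_pow, ← hk, pow_orderOf_eq_one, map_one]
    obtain ⟨a, ha⟩ := exists_scal_of_Psi_eq_one (by omega) (g ^ p ^ k) h3
    have hga : ∀ v, (g.1 ^ p ^ k) v = (a : F) • v := by
      intro v
      have h4 : (g ^ p ^ k).1 = g.1 ^ p ^ k := rfl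
      rw [← h4, ha, scal_apply]
    have hs' : BpCl.Semi θ g.1 := { add := hs.1, smul := hs.2.1 }
    obtain ⟨w, v, hp⟩ := hPS.ex
    ext b
    rw [iterate_eq_pow]
    have h5 := hs'.pow_smul (p ^ k) b (w 0)
    rw [hga, hga, smul_smul, smul_smul] at h5
    have h6 : ((a : F) * b - θ^[p ^ k] b * a) • w 0 = 0 := by rw [sub_smul, h5, sub_self]
    have h7 := sub_eq_zero.1 ((smul_eq_zero.1 h6).resolve_right (hp.li.ne_zero 0))
    rw [mul_comm] at h7
    exact (mul_right_cancel₀ a.ne_zero h7).symm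

end symp

end Cfsg.Agent.H877.Pol
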