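import Cfsg.Agent.H995.BSchX

/-!
# The signed association scheme of the Baby Monster (helper877): abstract part

The Baby Monster on its `27143910000` signed axes: eight colours, refining the five colours of
`H995/BSch` by the sign of the inner product for the colours `1A`, `2B`, `3A`.
-/

set_option autoImplicit false
set_option linter.unusedSectionVars false
set_option linter.constructorNameAsVariable false

namespace Cfsg.Agent.H877.BSgn

open Cfsg.Agent.BabyM.Model Cfsg.Agent.H995.BSch Cfsg.Agent.H816.IMEig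
open Cfsg.Agent.H995.BSch.Sch (RR RR_smul RR_unique O k_unique S_finite)

variable {W : Type} [AddCommGroup W] [Module ℚ W]

open Classical in
/-- The signed colour of a pair of axes. -/
noncomputable def sc (M : BData W) (x y : W) : Fin 8 :=
  if M.F x y = 7 then 0 else if M.F x y = -7 then 1 else if M.F x y = 1 then 2 else if M.F x y = -1 then 3
  else if M.F x y = 1 / 4 then 4 else if M.F x y = -(1 / 4) then 5 else if Comm M x y then 6 else 7

/-- The colour of a signed colour. -/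
def par : Fin 8 → Fin 5 := ![0, 0, 1, 1, 3, 3, 2, 4]

/-- The change of the sign. -/
def flip : Fin 8 → Fin 8 := ![1, 0, 3, 2, 5, 4, 6, 7]

theorem flip_flip : ∀ u : Fin 8, flip (flip u) = u := by decide

theorem flip_eq : ∀ u : Fin 8, flip u = u → u = 6 ∨ u = 7 := by decide

section basic

variable {M : BData W}

theorem sc_0 {x y : W} (h : M.F x y = 7) : sc M x y = 0 := by
  unfold sc; rw [h]; norm_num

theorem sc_1 {x y : W} (h : M.F x y = -7) : sc M x y = 1 := by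
  unfold sc; rw [h]; norm_num

theorem sc_2 {x y : W} (h : M.F x y = 1) : sc M x y = 2 := by
  unfold sc; rw [h]; norm_num

theorem sc_3 {x y : W} (h : M.F x y = -1) : sc M x y = 3 := by
  unfold sc; rw [h]; norm_num

theorem sc_4 {x y : W} (h : M.F x y = 1 / 4) : sc M x y = 4 := by
  unfold sc; rw [h]; norm_num

theorem sc_5 {x y : W} (h : M.F x y = -(1 / 4)) : sc M x y = 5 := by
  unfold sc; rw [h]; norm_num

/-- The five colours. -/
theorem sc_cases (x y : W) : (M.F x y = 7 ∧ sc M x y = 0) ∨ (M.F x y = -7 ∧ sc M x y = 1) ∨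
    (M.F x y = 1 ∧ sc M x y = 2) ∨ (M.F x y = -1 ∧ sc M x y = 3) ∨ (M.F x y = 1 / 4 ∧ sc M x y = 4) ∨
    (M.F x y = -(1 / 4) ∧ sc M x y = 5) ∨
    ((M.F x y ≠ 7 ∧ M.F x y ≠ -7 ∧ M.F x y ≠ 1 ∧ M.F x y ≠ -1 ∧ M.F x y ≠ 1 / 4 ∧ M.F x y ≠ -(1 / 4)) ∧
      ((Comm M x y ∧ sc M x y = 6) ∨ (¬ Comm M x y ∧ sc M x y = 7))) := by
  by_cases h0 : M.F x y = 7
  · exact Or.inl ⟨h0, sc_0 h0⟩
  by_cases h1 : M.F x y = -7
  · exact Or.inr (Or.inl ⟨h1, sc_1 h1⟩)
  by_cases h2 : M.F x y = 1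
  · exact Or.inr (Or.inr (Or.inl ⟨h2, sc_2 h2⟩))
  by_cases h3 : M.F x y = -1
  · exact Or.inr (Or.inr (Or.inr (Or.inl ⟨h3, sc_3 h3⟩)))
  by_cases h4 : M.F x y = 1 / 4
  · exact Or.inr (Or.inr (Or.inr (Or.inr (Or.inl ⟨h4, sc_4 h4⟩))))
  by_cases h5 : M.F x y = -(1 / 4)
  · exact Or.inr (Or.inr (Or.inr (Or.inr (Or.inr (Or.inl ⟨h5, sc_5 h5⟩)))))
  refine Or.inr (Or.inr (Or.inr (Or.inr (Or.inr (Or.inr ⟨⟨h0, h1, h2, h3, h4, h5⟩, ?_⟩)))))
  unfold sc
  rw [if_neg h0, if_neg h1, if_neg h2, if_neg h3, if_neg h4, if_neg h5]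
  by_cases h : Comm M x y
  · left
    exact ⟨h, by rw [if_pos h]⟩
  · right
    exact ⟨h, by rw [if_neg h]⟩

theorem sc_6 {x y : W} (h : M.F x y = 0) (h' : Comm M x y) : sc M x y = 6 := by
  unfold sc; rw [h, if_pos h']; norm_num

theorem sc_7 {x y : W} (h : M.F x y = 0) (h' : ¬ Comm M x y) : sc M x y = 7 := by
  unfold sc; rw [h, if_neg h']; norm_num

/-- The unsigned colour. -/
theorem par_sc (x y : W) : par (sc M x y) = col M x y := by
  rcases sc_cases (M := M) x y with ⟨h, e⟩ | ⟨h, e⟩ | ⟨h, e⟩ | ⟨h, e⟩ | ⟨h, e⟩ | ⟨h, e⟩ | ⟨⟨h0, h1, h2, h3, h4, h5⟩, h⟩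
  · rw [e]; symm; show _ = (0 : Fin 5); rw [col_zero_iff, h]; norm_num
  · rw [e]; symm; show _ = (0 : Fin 5); rw [col_zero_iff, h]; norm_num
  · rw [e]; symm; show _ = (1 : Fin 5); rw [col_one_iff, h]; norm_num
  · rw [e]; symm; show _ = (1 : Fin 5); rw [col_one_iff, h]; norm_num
  · rw [e]; symm; show _ = (3 : Fin 5); apply col_three; rw [h]; norm_num
  · rw [e]; symm; show _ = (3 : Fin 5); apply col_three; rw [h]; norm_num
  · have e1 : ¬ |M.F x y| = 7 := by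
      rw [abs_eq (by norm_num)]
      rintro (h6 | h6)
      · exact h0 h6
      · exact h1 h6
    have e2 : ¬ |M.F x y| = 1 := by
      rw [abs_eq (by norm_num)]
      rintro (h6 | h6)
      · exact h2 h6
      · exact h3 h6
    have e3 : ¬ |M.F x y| = 1 / 4 := by
      rw [abs_eq (by norm_num)]
      rintro (h6 | h6)
      · exact h4 h6
      · exact h5 h6
    unfold col
    rw [if_neg e1, if_neg e2, if_neg e3]
    rcases h with ⟨h, e⟩ | ⟨h, e⟩
    · rw [e, if_pos h]; rfl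
    · rw [e, if_neg h]; rfl

theorem sc_congr {x y x' y' : W} (hF : M.F x y = M.F x' y') (hC : Comm M x y ↔ Comm M x' y') :
    sc M x y = sc M x' y' := by
  unfold sc
  rw [hF]
  by_cases h : Comm M x y
  · rw [if_pos h, if_pos (hC.1 h)]
  · rw [if_neg h, if_neg (fun h' => h (hC.2 h'))]

theorem sc_flip {x y x' y' : W} (hF : M.F x' y' = - M.F x y) (hC : Comm M x' y' ↔ Comm M x y) :
    sc M x' y' = flip (sc M x y) := by
  rcases sc_cases (M := M) x y with ⟨h, e⟩ | ⟨h, e⟩ | ⟨h, e⟩ | ⟨h, e⟩ | ⟨h, e⟩ | ⟨h, e⟩ | ⟨⟨h0, h1, h2, h3, h4, h5⟩, h⟩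
  · rw [e]; exact sc_1 (by rw [hF, h])
  · rw [e]; exact sc_0 (by rw [hF, h]; norm_num)
  · rw [e]; exact sc_3 (by rw [hF, h])
  · rw [e]; exact sc_2 (by rw [hF, h]; norm_num)
  · rw [e]; exact sc_5 (by rw [hF, h])
  · rw [e]; exact sc_4 (by rw [hF, h]; norm_num)
  · have k0 : M.F x' y' ≠ 7 := fun h6 => h1 (by rw [hF] at h6; linarith)
    have k1 : M.F x' y' ≠ -7 := fun h6 => h0 (by rw [hF] at h6; linarith)
    have k2 : M.F x' y' ≠ 1 := fun h6 => h3 (by rw [hF] at h6; linarith)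
    have k3 : M.F x' y' ≠ -1 := fun h6 => h2 (by rw [hF] at h6; linarith)
    have k4 : M.F x' y' ≠ 1 / 4 := fun h6 => h5 (by rw [hF] at h6; linarith)
    have k5 : M.F x' y' ≠ -(1 / 4) := fun h6 => h4 (by rw [hF] at h6; linarith)
    unfold sc at *
    rw [if_neg k0, if_neg k1, if_neg k2, if_neg k3, if_neg k4, if_neg k5]
    rw [if_neg h0, if_neg h1, if_neg h2, if_neg h3, if_neg h4, if_neg h5]
    by_cases hc : Comm M x y
    · rw [if_pos (hC.2 hc), if_pos hc]; rfl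
    · rw [if_neg (fun h' => hc (hC.1 h')), if_neg hc]; rfl

theorem sc_neg_right (x y : W) : sc M x (-y) = flip (sc M x y) :=
  sc_flip (map_neg _ _) comm_neg_right

variable {K₀ : Type} [Group K₀] (A : BAll M K₀)
include A

theorem sc_neg_left {x : W} (hx : x ∈ M.D) (y : W) : sc M (-x) y = flip (sc M x y) :=
  sc_flip (by rw [map_neg, LinearMap.neg_apply])
    (comm_pm_left A (A.neg_D _ hx) hx (Or.inr rfl))

theorem sc_smul {k : W ≃ₗ[ℚ] W} (hk : k ∈ M.G) (x y : W) : sc M (k x) (k y) = sc M x y :=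
  sc_congr (F_smul A hk x y) (comm_smul hk)

theorem sc_comm (B : BTrans M) {x y : W} (hx : x ∈ M.D) (hy : y ∈ M.D) : sc M x y = sc M y x :=
  sc_congr (A.rep.F_symm x y) (comm_comm A B hx hy)

omit A in
theorem F_ne_zero {x y : W} (h : flip (sc M x y) ≠ sc M x y) : M.F x y ≠ 0 := by
  intro h0
  apply h
  rw [← sc_neg_right]
  exact sc_congr (by rw [map_neg, h0, neg_zero]) comm_neg_right

/-- The transposition of the first axis fixes the second one, for the colour `1`. -/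
theorem fix_of_one {k : W ≃ₗ[ℚ] W} (hk : k ∈ M.G) {x y : W} (hx : pm (k M.d₀) x)
    (h : ∃ g ∈ M.G, pm (g M.d₀) x ∧ pm (g M.d₁) y) : (k * M.t₀ * k⁻¹) y = y := by
  obtain ⟨g, hg, h1, h2⟩ := h
  rw [conj_eq A hk hg (hx.trans h1.symm)]
  have ht0 : M.t₀ M.d₀ = M.d₀ := by
    unfold BData.d₀
    rw [map_add, A.rep.Q_u₀ _ A.rep.t₀_mem, A.rep.Q_e₀_pos _ A.rep.t₀_mem rfl]
  have ht1 : M.t₀ M.d₁ = M.d₁ := C_d₁ A A.t₀_C ht0
  have h5 : (g * M.t₀ * g⁻¹) (g M.d₁) = g M.d₁ := by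
    rw [LinearEquiv.mul_apply, LinearEquiv.mul_apply, inv_apply_self', ht1]
  rcases h2 with h2 | h2
  · rw [← h2]; exact h5
  · have h6 : y = -(g M.d₁) := by rw [h2, neg_neg]
    rw [h6, map_neg, h5]

end basic

/-! ### Elements with prescribed signs -/

section elts

variable {M : BData W} {K₀ : Type} [Group K₀] {R : Type} [Fintype R] [DecidableEq M.J] {jj : R → M.J}
  {hh : R → (W ≃ₗ[ℚ] W)} {cu cw wn : R → Fin 5} {nx : R → R} {nn : R → ℕ} {N : M.J → ℕ}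
  (S : Sch M R jj hh cu cw wn nx nn N) (A : BAll M K₀) (B : BTrans M)

include S A

theorem pc_one {x y : W} (hx : x ∈ M.D) (hy : y ∈ M.D) (h : col M x y = 1) :
    ∃ g ∈ M.G, pm (g M.d₀) x ∧ pm (g M.d₁) y :=
  S.tr A A.d₀_mem A.d₁_mem hx hy (by rw [col_d₀_d₁ A, h])

/-- **Colour `2`.** -/
theorem neg_two (h2 : ∃ r, cu r = 2 ∧ (hh r * M.t₀ * (hh r)⁻¹) (M.d (jj r)) = - M.d (jj r)) {x y : W}
    (hx : x ∈ M.D) (hy : y ∈ M.D) (h : col M x y = 2) {k : W ≃ₗ[ℚ] W} (hk : k ∈ M.G) (hkx : pm (k M.d₀) x) :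
    (k * M.t₀ * k⁻¹) y = - y := by
  obtain ⟨r, hr, hr2⟩ := h2
  obtain ⟨g, hg, h3, h4⟩ := S.tr A (S.h_mem A r) (S.d_mem (jj r)) hx hy (by rw [S.colu, hr, h])
  have hrG := A.C_le_G (S.mem r)
  rw [conj_eq A hk (M.G.mul_mem hg hrG) (hkx.trans (by rw [LinearEquiv.mul_apply]; exact h3.symm))]
  have h5 : (g * hh r * M.t₀ * (g * hh r)⁻¹) (g (M.d (jj r))) = - (g (M.d (jj r))) := by
    have e : (g * hh r * M.t₀ * (g * hh r)⁻¹) (g (M.d (jj r))) = g ((hh r * M.t₀ * (hh r)⁻¹) (M.d (jj r))) := by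
      rw [← LinearEquiv.mul_apply, ← LinearEquiv.mul_apply]
      congr 1
      group
    rw [e, hr2, map_neg]
  rcases h4 with h4 | h4
  · rw [← h4]; exact h5
  · have h6 : y = -(g (M.d (jj r))) := by rw [h4, neg_neg]
    rw [h6, map_neg, h5]

theorem exists_right (h2 : ∃ r, cu r = 2 ∧ (hh r * M.t₀ * (hh r)⁻¹) (M.d (jj r)) = - M.d (jj r))
    (h4 : ∃ r, cu r = 4 ∧ cw r = 2) {x y : W} (hx : x ∈ M.D) (hy : y ∈ M.D)
    (h : col M x y = 2 ∨ col M x y = 4) : ∃ n ∈ M.G, n x = x ∧ n y = - y := by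
  rcases h with h | h
  · obtain ⟨k, hk, rfl⟩ := (A.D_eq x).1 hx
    refine ⟨k * M.t₀ * k⁻¹, M.G.mul_mem (M.G.mul_mem hk (A.C_le_G A.t₀_C)) (M.G.inv_mem hk), ?_,
      neg_two S A h2 hx hy h hk (pm.refl _)⟩
    rw [LinearEquiv.mul_apply, LinearEquiv.mul_apply, inv_apply_self']
    congr 1
    unfold BData.d₀
    rw [map_add, A.rep.Q_u₀ _ A.rep.t₀_mem, A.rep.Q_e₀_pos _ A.rep.t₀_mem rfl]
  · obtain ⟨r, hr4, hr2⟩ := h4
    obtain ⟨k, hk, hk1⟩ := (A.D_eq _).1 (S.h1_mem A r)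
    set s := k * M.t₀ * k⁻¹ with hs
    have hsG : s ∈ M.G := M.G.mul_mem (M.G.mul_mem hk (A.C_le_G A.t₀_C)) (M.G.inv_mem hk)
    have e1 : s (hh r M.d₀) = hh r M.d₀ := by
      refine fix_of_one A hk (Or.inl hk1.symm) (pc_one S A (S.h1_mem A r) (S.h_mem A r) ?_)
      rw [col_smul A (A.C_le_G (S.mem r)), col_one_iff, A.F_d₁_d₀]
      norm_num
    have e2 : s (M.d (jj r)) = - M.d (jj r) :=
      neg_two S A h2 (S.h1_mem A r) (S.d_mem (jj r)) (by rw [S.colw, hr2]) hk (Or.inl hk1.symm)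
    obtain ⟨g, hg, h5, h6⟩ := S.tr A (S.h_mem A r) (S.d_mem (jj r)) hx hy (by rw [S.colu, hr4, h])
    refine ⟨g * s * g⁻¹, M.G.mul_mem (M.G.mul_mem hg hsG) (M.G.inv_mem hg), ?_, ?_⟩
    · have e3 : (g * s * g⁻¹) (g (hh r M.d₀)) = g (hh r M.d₀) := by
        rw [LinearEquiv.mul_apply, LinearEquiv.mul_apply, inv_apply_self', e1]
      rcases h5 with h5 | h5
      · rw [← h5]; exact e3
      · have h7 : x = -(g (hh r M.d₀)) := by rw [h5, neg_neg]
        rw [h7, map_neg, e3]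
    · have e3 : (g * s * g⁻¹) (g (M.d (jj r))) = - g (M.d (jj r)) := by
        rw [LinearEquiv.mul_apply, LinearEquiv.mul_apply, inv_apply_self', e2, map_neg]
      rcases h6 with h6 | h6
      · rw [← h6]; exact e3
      · have h7 : y = -(g (M.d (jj r))) := by rw [h6, neg_neg]
        rw [h7, map_neg, e3]

/-- The base axes are conjugate to their negatives in `C`. -/
theorem exists_negj (hN : Function.Injective N) (j : M.J) : ∃ c ∈ M.C, c (M.d j) = - M.d j := by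
  obtain ⟨i, g, hg, h1⟩ := A.neg_D _ (S.d_mem j)
  have h2 : {x | ∃ g ∈ M.C, x = g (M.d j)}.ncard = {x | ∃ g ∈ M.C, x = g (M.d i)}.ncard := by
    have h3 : {x | ∃ g ∈ M.C, x = g (M.d i)} = (fun x => -x) '' {x | ∃ g ∈ M.C, x = g (M.d j)} := by
      have h4 : M.d i = -(g⁻¹ (M.d j)) := by
        rw [← map_neg, h1, inv_apply_self']
      ext x
      constructor
      · rintro ⟨k, hk, rfl⟩
        refine ⟨k (g⁻¹ (M.d j)), ⟨k * g⁻¹, M.C.mul_mem hk (M.C.inv_mem hg), rfl⟩, ?_⟩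
        show -(k (g⁻¹ (M.d j))) = _
        rw [h4, map_neg]
      · rintro ⟨_, ⟨k, hk, rfl⟩, rfl⟩
        refine ⟨k * g, M.C.mul_mem hk hg, ?_⟩
        show -(k (M.d j)) = _
        rw [LinearEquiv.mul_apply, ← h1, map_neg]
    rw [h3, Set.ncard_image_of_injective _ neg_injective]
  rw [S.len, S.len] at h2
  have h3 := hN h2
  subst h3
  exact ⟨g, hg, h1.symm⟩

theorem exists_both_rep (hN : Function.Injective N) (r : R)
    (h : flip (sc M (hh r M.d₀) (M.d (jj r))) ≠ sc M (hh r M.d₀) (M.d (jj r))) :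
    ∃ n ∈ M.G, n (hh r M.d₀) = - (hh r M.d₀) ∧ n (M.d (jj r)) = - M.d (jj r) := by
  obtain ⟨c, hc, h1⟩ := exists_negj S A hN (jj r)
  have hbS : c (hh r M.d₀) ∈ M.S := ⟨c * hh r, M.C.mul_mem hc (S.mem r), rfl⟩
  obtain ⟨r', hr', l, hl, h2, h3⟩ := S.cover (jj r) _ hbS
  have hR : RR M (cu r) (cw r) (c (hh r M.d₀)) (M.d (jj r)) := by
    have h4 : RR M (cu r) (cw r) (c (hh r M.d₀)) (c (M.d (jj r))) :=
      (RR_smul A hc).2 ⟨hh r, S.mem r, rfl, S.colu r, S.colw r⟩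
    rw [h1] at h4
    obtain ⟨k, hk, e1, e2, e3⟩ := h4
    refine ⟨k, hk, e1, ?_, ?_⟩
    · rw [← e2]
      exact col_pm A (A.C_D _ hk _ A.d₀_mem) (pm.refl _) (Or.inr (neg_neg _).symm)
    · rw [← e3]
      exact col_pm A (A.C_D _ hk _ A.d₁_mem) (pm.refl _) (Or.inr (neg_neg _).symm)
  have hO : c (hh r M.d₀) ∈ O M jj hh r' := ⟨hbS, l, hl, by rw [hr']; exact h2, h3⟩
  have hR' := S.O_RR A hO
  rw [hr'] at hR'
  obtain ⟨e4, e5⟩ := RR_unique A hR hR'
  have hrr : r = r' := S.uniq r r' hr'.symm e4 e5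
  subst hrr
  have hlG := A.C_le_G hl
  have hcG := A.C_le_G hc
  have hnG : l⁻¹ * c ∈ M.G := M.G.mul_mem (M.G.inv_mem hlG) hcG
  have e6 : (l⁻¹ * c) (M.d (jj r)) = - M.d (jj r) := by
    rw [LinearEquiv.mul_apply, h1, map_neg]
    congr 1
    conv_lhs => rw [← h2]
    exact inv_apply_self' _ _
  have e7 : pm ((l⁻¹ * c) (hh r M.d₀)) (hh r M.d₀) := by
    have := h3.map l⁻¹
    rwa [inv_apply_self'] at this
  refine ⟨l⁻¹ * c, hnG, ?_, e6⟩
  rcases e7 with e7 | e7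
  · exfalso
    have e8 := F_smul A hnG (hh r M.d₀) (M.d (jj r))
    rw [e6, e7, map_neg] at e8
    exact F_ne_zero h (by linarith)
  · exact e7

theorem exists_both (hN : Function.Injective N) {x y : W} (hx : x ∈ M.D) (hy : y ∈ M.D)
    (h : flip (sc M x y) ≠ sc M x y) : ∃ n ∈ M.G, n x = - x ∧ n y = - y := by
  obtain ⟨b, hb, hb1⟩ := S.exists_nb A hx
  obtain ⟨r, -, -, g, hg, h2, h3⟩ := S.to_rep A hx hb hy hb1
  have h4 : flip (sc M (hh r M.d₀) (M.d (jj r))) ≠ sc M (hh r M.d₀) (M.d (jj r)) := by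
    have e1 : sc M (g x) (g y) = sc M x y := sc_smul A hg x y
    have e2 : sc M (hh r M.d₀) (M.d (jj r)) = sc M x y ∨ sc M (hh r M.d₀) (M.d (jj r)) = flip (sc M x y) := by
      rw [← e1]
      rcases h2 with h2 | h2 <;> rcases h3 with h3 | h3
      · rw [h2, h3]; exact Or.inl rfl
      · rw [h2, h3, sc_neg_right, flip_flip]; exact Or.inr rfl
      · rw [h2, h3, sc_neg_left A (S.h_mem A r), flip_flip]; exact Or.inr rfl
      · rw [h2, h3, sc_neg_right, sc_neg_left A (S.h_mem A r), flip_flip]; exact Or.inl rfl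
    rcases e2 with e2 | e2
    · rwa [e2]
    · rw [e2, flip_flip]
      exact h.symm
  obtain ⟨n, hn, h5, h6⟩ := exists_both_rep S A hN r h4
  refine ⟨g⁻¹ * n * g, M.G.mul_mem (M.G.mul_mem (M.G.inv_mem hg) hn) hg, ?_, ?_⟩
  · have h7 : n (g x) = -(g x) := by
      rcases h2 with h2 | h2
      · rw [h2, h5]
      · rw [h2, map_neg, h5]
    rw [LinearEquiv.mul_apply, LinearEquiv.mul_apply, h7, map_neg, inv_apply_self']
  · have h7 : n (g y) = -(g y) := by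
      rcases h3 with h3 | h3
      · rw [h3, h6]
      · rw [h3, map_neg, h6]
    rw [LinearEquiv.mul_apply, LinearEquiv.mul_apply, h7, map_neg, inv_apply_self']

end elts

end Cfsg.Agent.H877.BSgn
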