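import Cfsg.Agent.H877.BSgnX
import Cfsg.Agent.H995.BSchInst

/-!
# The signed association scheme of the Baby Monster (helper877): the concrete data
-/

set_option autoImplicit false
set_option linter.constructorNameAsVariable false

namespace Cfsg.Agent.H877.BSgn

open Cfsg.Agent.Lib.PermNet Cfsg.Agent.Monster.VecEngine Cfsg.Agent.Monster.VecSpace
open Cfsg.Agent.BabyM.Conc Cfsg.Agent.BabyM.TransInv Cfsg.Agent.BabyM.Inst Cfsg.Agent.BabyM.InstVec
  Cfsg.Agent.BabyM.InstZ Cfsg.Agent.BabyM.TransCover Cfsg.Agent.BabyM.TransData Cfsg.Agent.BabyM.TransOrd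
  Cfsg.Agent.BabyM.TransFields Cfsg.Agent.H995.BSch Cfsg.Agent.H995.BSchOrb Cfsg.Agent.H995.BSchVal
open Cfsg.Agent.BabyM.Model

/-- The signed colour with the axis. -/
def su : Fin 20 → Fin 8 := ![0, 3, 3, 7, 2, 7, 6, 2, 7, 7, 4, 7, 7, 6, 4, 4, 7, 4, 3, 7]

/-- The signed colour of the partner with the axis. -/
def sw : Fin 20 → Fin 8 := ![3, 0, 3, 7, 3, 7, 6, 7, 2, 7, 4, 7, 6, 7, 5, 7, 4, 3, 4, 7]

/-- The code of a check. -/
def code (c : Fin 5) (k : ℤ) : Fin 8 :=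
  if c = 0 then 0 else if c = 1 then (if k = 4 then 2 else 3) else if c = 2 then 6
  else if c = 3 then (if k = 1 then 4 else 5) else 7

theorem cchk_sound8 {v : List Ltr} {x : Pl} {c : Fin 5} {k : ℤ} {i j : ℕ} (h : cchk v x c.1 k i j = true) :
    sc M (W v M.d₀) ((1 / 8 : ℚ) • vecU ℚ U x) = code c k := by
  unfold cchk at h
  rw [Bool.and_eq_true] at h
  obtain ⟨h0, h⟩ := h
  have hF0 := val_sound (x := x) (r := ⟨v, k, 0, false⟩) h0
  have hF : M.F (W v M.d₀) ((1 / 8 : ℚ) • vecU ℚ U x) = (k : ℚ) / 4 := hF0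
  fin_cases c
  · have h' : decide (k = 28) = true := h
    rw [decide_eq_true_eq] at h'
    show sc M _ _ = 0
    exact sc_0 (by rw [hF, h']; norm_num)
  · have h' : decide (k = 4 ∨ k = -4) = true := h
    rw [decide_eq_true_eq] at h'
    rcases h' with h' | h'
    · subst h'
      show sc M _ _ = 2
      exact sc_2 (by rw [hF]; norm_num)
    · subst h'
      show sc M _ _ = 3
      exact sc_3 (by rw [hF]; norm_num)
  · have h' : and (decide (k = 0)) (check ((tw v).map Ltr.prog) x [] (neg U x)) = true := h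
    rw [Bool.and_eq_true, decide_eq_true_eq] at h'
    show sc M _ _ = 6
    apply sc_6
    · rw [hF, h'.1]; norm_num
    · rw [comm_W]
      right
      have e := W_eq_of_check (v₂ := []) h'.2
      rw [W_nil, LinearEquiv.coe_one, id, vecU_neg] at e
      rw [map_smul, e, smul_neg]
  · have h' : decide (k = 1 ∨ k = -1) = true := h
    rw [decide_eq_true_eq] at h'
    rcases h' with h' | h'
    · subst h'
      show sc M _ _ = 4
      exact sc_4 (by rw [hF]; norm_num)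
    · subst h'
      show sc M _ _ = 5
      exact sc_5 (by rw [hF]; norm_num)
  · have h' : and (decide (k = 0)) (ncheck v x i j) = true := h
    rw [Bool.and_eq_true, decide_eq_true_eq] at h'
    show sc M _ _ = 7
    apply sc_7
    · rw [hF, h'.1]; norm_num
    · rw [comm_W]
      exact ncheck_sound h'.2

theorem cs8 {v : List Ltr} {x : Pl} {c : Fin 5} {k : ℤ} {i i' : ℕ} {s : Fin 8} (j : Fin 5) (hx : dv j = x)
    (h : cchk v x c.1 k i i' = true) (hs : code c k = s) : sc M (W v M.d₀) (M.d j) = s := by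
  rw [M_d_eq, hx, ← hs]
  exact cchk_sound8 h

theorem colsu : ∀ r : Fin 20, sc M (W (hw r) M.d₀) (M.d (jj r)) = su r := by
  intro r
  fin_cases r
  · exact cs8 (c := 0) 0 rfl u0 rfl
  · exact cs8 (c := 1) 0 rfl u1 rfl
  · exact cs8 (c := 1) 0 rfl u2 rfl
  · exact cs8 (c := 4) 0 rfl u3 rfl
  · exact cs8 (c := 1) 1 rfl u4 rfl
  · exact cs8 (c := 4) 1 rfl u5 rfl
  · exact cs8 (c := 2) 1 rfl u6 rfl
  · exact cs8 (c := 1) 2 rfl u7 rfl
  · exact cs8 (c := 4) 2 rfl u8 rfl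
  · exact cs8 (c := 4) 2 rfl u9 rfl
  · exact cs8 (c := 3) 2 rfl u10 rfl
  · exact cs8 (c := 4) 3 rfl u11 rfl
  · exact cs8 (c := 4) 3 rfl u12 rfl
  · exact cs8 (c := 2) 3 rfl u13 rfl
  · exact cs8 (c := 3) 3 rfl u14 rfl
  · exact cs8 (c := 3) 4 rfl u15 rfl
  · exact cs8 (c := 4) 4 rfl u16 rfl
  · exact cs8 (c := 3) 4 rfl u17 rfl
  · exact cs8 (c := 1) 4 rfl u18 rfl
  · exact cs8 (c := 4) 4 rfl u19 rfl

theorem colsw : ∀ r : Fin 20, sc M (W (hw r) M.d₁) (M.d (jj r)) = sw r := by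
  intro r
  rw [W_d₁]
  fin_cases r
  · exact cs8 (c := 1) 0 rfl w0 rfl
  · exact cs8 (c := 0) 0 rfl w1 rfl
  · exact cs8 (c := 1) 0 rfl w2 rfl
  · exact cs8 (c := 4) 0 rfl w3 rfl
  · exact cs8 (c := 1) 1 rfl w4 rfl
  · exact cs8 (c := 4) 1 rfl w5 rfl
  · exact cs8 (c := 2) 1 rfl w6 rfl
  · exact cs8 (c := 4) 2 rfl w7 rfl
  · exact cs8 (c := 1) 2 rfl w8 rfl
  · exact cs8 (c := 4) 2 rfl w9 rfl
  · exact cs8 (c := 3) 2 rfl w10 rfl
  · exact cs8 (c := 4) 3 rfl w11 rfl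
  · exact cs8 (c := 2) 3 rfl w12 rfl
  · exact cs8 (c := 4) 3 rfl w13 rfl
  · exact cs8 (c := 3) 3 rfl w14 rfl
  · exact cs8 (c := 4) 4 rfl w15 rfl
  · exact cs8 (c := 3) 4 rfl w16 rfl
  · exact cs8 (c := 1) 4 rfl w17 rfl
  · exact cs8 (c := 3) 4 rfl w18 rfl
  · exact cs8 (c := 4) 4 rfl w19 rfl

theorem neg_of_cchk {v : List Ltr} {x : Pl} {c : Fin 5} (hc : c = 2) {k : ℤ} {i j : ℕ}
    (h : cchk v x c.1 k i j = true) :
    (W v * M.t₀ * (W v)⁻¹) ((1 / 8 : ℚ) • vecU ℚ U x) = - ((1 / 8 : ℚ) • vecU ℚ U x) := by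
  subst hc
  unfold cchk at h
  rw [Bool.and_eq_true] at h
  obtain ⟨h0, h⟩ := h
  have h' : and (decide (k = 0)) (check ((tw v).map Ltr.prog) x [] (neg U x)) = true := h
  rw [Bool.and_eq_true] at h'
  have e := W_eq_of_check (v₂ := []) h'.2
  rw [W_nil, LinearEquiv.coe_one, id, vecU_neg] at e
  have h3 : W (tw v) = W v * M.t₀ * (W v)⁻¹ := W_tw v
  rw [← h3, map_smul, e, smul_neg]

theorem two6 : (W (hw 6) * M.t₀ * (W (hw 6))⁻¹) (M.d (jj 6)) = - M.d (jj 6) := by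
  have h := neg_of_cchk (c := 2) rfl u6
  rw [M_d_eq]
  exact h

theorem NN_inj : ∀ a b : Fin 5, NN a = NN b → a = b := by decide +kernel

/-- **The data of the signed scheme.** -/
theorem sgn : Sgn M (Fin 20) jj (fun r => W (hw r)) cu cw NN su sw where
  two := ⟨6, rfl, two6⟩
  four := ⟨12, rfl, rfl⟩
  inj := fun a b h => NN_inj a b h
  su := colsu
  sw := colsw

/-! ### The numbers -/

/-- The numbers `t(u,w)`. -/
def t8 : Fin 8 → Fin 8 → ℕ := ![
  ![0, 0, 0, 1, 0, 0, 0, 0],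
  ![0, 0, 1, 0, 0, 0, 0, 0],
  ![0, 1, 1782, 44352, 0, 2097152, 0, 1824768],
  ![1, 0, 44352, 1782, 2097152, 0, 0, 1824768],
  ![0, 0, 0, 2097152, 84934656, 415236096, 0, 1868562432],
  ![0, 0, 2097152, 0, 415236096, 84934656, 0, 1868562432],
  ![0, 0, 0, 0, 0, 0, 811008, 45416448],
  ![0, 0, 1824768, 1824768, 1868562432, 1868562432, 45416448, 18561894912]]

theorem sums8 : ∀ u w : Fin 8,
    (∑ r, if (su r = u ∧ sw r = w) ∨ (su r = flip u ∧ sw r = flip w) then NN (jj r) * (2 * nn r) else 0) =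
      9200 * ((if flip u = u ∧ flip w = w then 1 else 2) * t8 u w) := by
  decide +kernel

theorem t8_eq (u w : Fin 8) : {y | y ∈ M.D ∧ sc M M.d₀ y = u ∧ sc M M.d₁ y = w}.ncard = t8 u w := by
  have h := numbers8 sch sgn BabyM.Instance.all u w
  rw [sums8 u w] at h
  have h1 := Nat.eq_of_mul_eq_mul_left (by norm_num) h
  refine Nat.eq_of_mul_eq_mul_left ?_ h1
  split_ifs <;> norm_num

instance finite_MG : Finite M.G := BabyM.Instance.all.finite_G

theorem exists_z8' : ∃ z₀ : X0 M, cc M (QuotientGroup.mk 1) z₀ = 3 ∧ ∀ u w : Fin 8,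
    Nat.card {y : X0 M // cc M (QuotientGroup.mk 1) y = u ∧ cc M z₀ y = w} = t8 u w := by
  obtain ⟨z₀, h1, h2⟩ := exists_z8 (jj := jj) (hh := fun r => W (hw r)) sch sgn BabyM.Instance.all
  exact ⟨z₀, h1, fun u w => by rw [h2, t8_eq]⟩

/-- The degree of a spherical function. -/
theorem degree8 {θ : ℂ} {ω : Fin 8 → ℂ} (hE : Cfsg.Agent.H816.IMEig.Col.Eig (3 : Fin 8) 0 t8 θ ω) {f : ℕ}
    (hf : (f : ℂ) * ∑ u, ((∑ w, t8 u w : ℕ) : ℂ) * ω u ^ 2 = 27143910000) :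
    ∃ χ : M.G → ℂ, IsIrrCharacter M.G χ ∧ χ 1 = (f : ℂ) := by
  obtain ⟨z₀, h1, h2⟩ := exists_z8'
  refine (isCol8 sch sgn BabyM.Instance.all BabyM.Instance.tr).exists_degree (x₀ := QuotientGroup.mk 1) (z₀ := z₀)
    (t := t8) (θ := θ) (ω := ω) h2 (by rw [h1]; exact hE) ?_
  rw [card_X0 BabyM.Instance.all, hf]
  norm_num

end Cfsg.Agent.H877.BSgn
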