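import Cfsg.Agent.H877.BSgn

/-!
# The signed association scheme of the Baby Monster (helper877): the colouring and the numbers
-/

set_option autoImplicit false
set_option linter.unusedSectionVars false
set_option linter.constructorNameAsVariable false

namespace Cfsg.Agent.H877.BSgn

open Cfsg.Agent.BabyM.Model Cfsg.Agent.H995.BSch Cfsg.Agent.H816.IMEig
open Cfsg.Agent.H995.BSch.Sch (O k_unique S_finite)

variable {W : Type} [AddCommGroup W] [Module ℚ W]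

/-- The additional data. -/
structure Sgn (M : BData W) (R : Type) (jj : R → M.J) (hh : R → (W ≃ₗ[ℚ] W)) (cu cw : R → Fin 5) (N : M.J → ℕ)
    (su sw : R → Fin 8) : Prop where
  two : ∃ r, cu r = 2 ∧ (hh r * M.t₀ * (hh r)⁻¹) (M.d (jj r)) = - M.d (jj r)
  four : ∃ r, cu r = 4 ∧ cw r = 2
  inj : Function.Injective N
  su : ∀ r, sc M (hh r M.d₀) (M.d (jj r)) = su r
  sw : ∀ r, sc M (hh r M.d₁) (M.d (jj r)) = sw r

section tr

variable {M : BData W} {K₀ : Type} [Group K₀] {R : Type} [Fintype R] [DecidableEq M.J] {jj : R → M.J}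
  {hh : R → (W ≃ₗ[ℚ] W)} {cu cw wn : R → Fin 5} {nx : R → R} {nn : R → ℕ} {N : M.J → ℕ} {su sw : R → Fin 8}
  (S : Sch M R jj hh cu cw wn nx nn N) (T : Sgn M R jj hh cu cw N su sw) (A : BAll M K₀) (B : BTrans M)

include S T A B

theorem exists_right' {x y : W} (hx : x ∈ M.D) (hy : y ∈ M.D) (h : flip (sc M x y) = sc M x y) :
    ∃ n ∈ M.G, n x = x ∧ n y = - y := by
  refine exists_right S A T.two T.four hx hy ?_
  rw [← par_sc]
  rcases flip_eq _ h with h | h <;> rw [h]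
  · exact Or.inl rfl
  · exact Or.inr rfl

theorem exists_left' {x y : W} (hx : x ∈ M.D) (hy : y ∈ M.D) (h : flip (sc M x y) = sc M x y) :
    ∃ n ∈ M.G, n x = - x ∧ n y = y := by
  obtain ⟨n, hn, h1, h2⟩ := exists_right' S T A B hy hx (by rw [← sc_comm A B hx hy, h])
  exact ⟨n, hn, h2, h1⟩

theorem exists_both' {x y : W} (hx : x ∈ M.D) (hy : y ∈ M.D) : ∃ n ∈ M.G, n x = - x ∧ n y = - y := by
  by_cases h : flip (sc M x y) = sc M x y
  · obtain ⟨n, hn, h1, h2⟩ := exists_right' S T A B hx hy h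
    obtain ⟨m, hm, h3, h4⟩ := exists_left' S T A B hx hy h
    exact ⟨n * m, M.G.mul_mem hn hm, by rw [LinearEquiv.mul_apply, h3, map_neg, h1],
      by rw [LinearEquiv.mul_apply, h4, h2]⟩
  · exact exists_both S A T.inj hx hy h

/-- **The signed colours are the orbitals on the signed axes.** -/
theorem tr8 {x y x' y' : W} (hx : x ∈ M.D) (hy : y ∈ M.D) (hx' : x' ∈ M.D) (hy' : y' ∈ M.D)
    (h : sc M x y = sc M x' y') : ∃ g ∈ M.G, g x = x' ∧ g y = y' := by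
  obtain ⟨g, hg, h1, h2⟩ := S.tr A hx hy hx' hy' (by rw [← par_sc, ← par_sc, h])
  have e1 : sc M (g x) (g y) = sc M x' y' := by rw [sc_smul A hg, h]
  rcases h1 with h1 | h1 <;> rcases h2 with h2 | h2
  · exact ⟨g, hg, h1, h2⟩
  · rw [h1, h2, sc_neg_right] at e1
    obtain ⟨n, hn, h3, h4⟩ := exists_right' S T A B hx' hy' e1
    exact ⟨n * g, M.G.mul_mem hn hg, by rw [LinearEquiv.mul_apply, h1, h3],
      by rw [LinearEquiv.mul_apply, h2, map_neg, h4, neg_neg]⟩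
  · rw [h1, h2, sc_neg_left A hx'] at e1
    obtain ⟨n, hn, h3, h4⟩ := exists_left' S T A B hx' hy' e1
    exact ⟨n * g, M.G.mul_mem hn hg, by rw [LinearEquiv.mul_apply, h1, map_neg, h3, neg_neg],
      by rw [LinearEquiv.mul_apply, h2, h4]⟩
  · obtain ⟨n, hn, h3, h4⟩ := exists_both' S T A B hx' hy'
    exact ⟨n * g, M.G.mul_mem hn hg, by rw [LinearEquiv.mul_apply, h1, map_neg, h3, neg_neg],
      by rw [LinearEquiv.mul_apply, h2, map_neg, h4, neg_neg]⟩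

end tr

/-! ### The action on the signed axes -/

/-- The stabiliser of the base axis. -/
def H0 (M : BData W) : Subgroup M.G where
  carrier := {g | (g : W ≃ₗ[ℚ] W) M.d₀ = M.d₀}
  mul_mem' := fun {a b} ha hb => by
    show (a : W ≃ₗ[ℚ] W) ((b : W ≃ₗ[ℚ] W) M.d₀) = M.d₀
    rw [show (b : W ≃ₗ[ℚ] W) M.d₀ = M.d₀ from hb, show (a : W ≃ₗ[ℚ] W) M.d₀ = M.d₀ from ha]
  one_mem' := rfl
  inv_mem' := fun {a} ha => by
    have h : (a : W ≃ₗ[ℚ] W) M.d₀ = M.d₀ := ha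
    show (a : W ≃ₗ[ℚ] W)⁻¹ M.d₀ = M.d₀
    conv_lhs => rw [← h]
    exact inv_apply_self' _ _

/-- The signed axes. -/
abbrev X0 (M : BData W) : Type := M.G ⧸ H0 M

/-- The vector of a signed axis. -/
noncomputable def vv (M : BData W) (x : X0 M) : W := ((Quotient.out x : M.G) : W ≃ₗ[ℚ] W) M.d₀

/-- The colour. -/
noncomputable def cc (M : BData W) (x y : X0 M) : Fin 8 := sc M (vv M x) (vv M y)

section

variable {M : BData W}

theorem vv_mk (g : M.G) : vv M (QuotientGroup.mk g) = (g : W ≃ₗ[ℚ] W) M.d₀ := by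
  obtain ⟨h, hh⟩ := QuotientGroup.mk_out_eq_mul (H0 M) g
  have h1 : vv M (QuotientGroup.mk g) = (g : W ≃ₗ[ℚ] W) (((h : M.G) : W ≃ₗ[ℚ] W) M.d₀) := by
    unfold vv
    rw [hh]
    rfl
  rw [h1]
  exact congrArg _ (show ((h : M.G) : W ≃ₗ[ℚ] W) M.d₀ = M.d₀ from h.2)

theorem exists_mk0 (x : X0 M) : ∃ g : M.G, x = QuotientGroup.mk g := ⟨Quotient.out x, (Quotient.out_eq x).symm⟩

theorem vv_smul (g : M.G) (x : X0 M) : vv M (g • x) = (g : W ≃ₗ[ℚ] W) (vv M x) := by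
  obtain ⟨k, rfl⟩ := exists_mk0 x
  have h1 : g • (QuotientGroup.mk k : X0 M) = QuotientGroup.mk (g * k) := rfl
  rw [h1, vv_mk, vv_mk]
  rfl

theorem vv_inj : Function.Injective (vv M) := by
  intro x y h
  obtain ⟨k, rfl⟩ := exists_mk0 x
  obtain ⟨l, rfl⟩ := exists_mk0 y
  rw [vv_mk, vv_mk] at h
  rw [QuotientGroup.eq]
  show (k : W ≃ₗ[ℚ] W)⁻¹ ((l : W ≃ₗ[ℚ] W) M.d₀) = M.d₀
  rw [← h, inv_apply_self']

variable {K₀ : Type} [Group K₀] (A : BAll M K₀)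
include A

theorem vv_mem (x : X0 M) : vv M x ∈ M.D := (A.D_eq _).2 ⟨_, (Quotient.out x : M.G).2, rfl⟩

theorem exists_vv {y : W} (hy : y ∈ M.D) : ∃ x : X0 M, vv M x = y := by
  obtain ⟨g, hg, rfl⟩ := (A.D_eq y).1 hy
  exact ⟨QuotientGroup.mk ⟨g, hg⟩, vv_mk _⟩

theorem card_sub (P : W → Prop) : Nat.card {x : X0 M // P (vv M x)} = {y | y ∈ M.D ∧ P y}.ncard := by
  rw [← Nat.card_coe_set_eq]
  refine Nat.card_congr (Equiv.ofBijective (fun x => ⟨vv M x.1, vv_mem A _, x.2⟩) ⟨?_, ?_⟩)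
  · intro a b hab
    exact Subtype.ext (vv_inj (congrArg Subtype.val hab))
  · rintro ⟨y, hy, hP⟩
    obtain ⟨x, rfl⟩ := exists_vv A hy
    exact ⟨⟨x, hP⟩, rfl⟩

theorem card_X0 : Nat.card (X0 M) = 27143910000 := by
  have h := card_sub A (fun _ => True)
  have h1 : {y | y ∈ M.D ∧ True} = M.D := by ext y; simp
  rw [h1, A.orb.card_D] at h
  rw [← h]
  exact Nat.card_congr ⟨fun x => ⟨x, trivial⟩, fun x => x.1, fun _ => rfl, fun _ => rfl⟩

end

/-! ### Double counting -/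

section count

variable {M : BData W} {K₀ : Type} [Group K₀] {R : Type} [Fintype R] [DecidableEq M.J] {jj : R → M.J}
  {hh : R → (W ≃ₗ[ℚ] W)} {cu cw wn : R → Fin 5} {nx : R → R} {nn : R → ℕ} {N : M.J → ℕ} {su sw : R → Fin 8}
  (S : Sch M R jj hh cu cw wn nx nn N) (T : Sgn M R jj hh cu cw N su sw) (A : BAll M K₀) (B : BTrans M)
  {P : W → W → W → Prop}

/-- The triple `(b, partner of b, y)` satisfies `P`. -/
def RP (M : BData W) (P : W → W → W → Prop) (b y : W) : Prop := ∃ k ∈ M.C, b = k M.d₀ ∧ P (k M.d₀) (k M.d₁) y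

section

include A

theorem RP_iff {k : W ≃ₗ[ℚ] W} (hk : k ∈ M.C) {y : W} : RP M P (k M.d₀) y ↔ P (k M.d₀) (k M.d₁) y := by
  constructor
  · rintro ⟨l, hl, h1, h2⟩
    rw [← h1, ← k_unique A hk hl h1] at h2
    exact h2
  · exact fun h => ⟨k, hk, rfl, h⟩

theorem RP_d₀ {y : W} : RP M P M.d₀ y ↔ P M.d₀ M.d₁ y := RP_iff A (k := 1) M.C.one_mem

theorem RP_smul (hP : ∀ g ∈ M.C, ∀ x b y, P (g x) (g b) (g y) ↔ P x b y) {g : W ≃ₗ[ℚ] W} (hg : g ∈ M.C) {b y : W} :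
    RP M P (g b) (g y) ↔ RP M P b y := by
  have key : ∀ g ∈ M.C, ∀ b y : W, RP M P b y → RP M P (g b) (g y) := by
    rintro g hg b y ⟨k, hk, rfl, h1⟩
    exact ⟨g * k, M.C.mul_mem hg hk, rfl, (hP g hg _ _ _).2 h1⟩
  constructor
  · intro h
    have := key g⁻¹ (M.C.inv_mem hg) _ _ h
    rwa [inv_apply_self', inv_apply_self'] at this
  · exact key g hg b y

theorem RP_inv (hP : ∀ g ∈ M.C, ∀ x b y, P (g x) (g b) (g y) ↔ P x b y) {g : W ≃ₗ[ℚ] W} (hg : g ∈ M.C) {b x y : W}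
    (hx : x = g y) (h : RP M P b x) : RP M P (g⁻¹ b) y := by
  subst hx
  have := (RP_smul A hP (M.C.inv_mem hg)).2 h
  rwa [inv_apply_self'] at this

theorem RP_fwd (hP : ∀ g ∈ M.C, ∀ x b y, P (g x) (g b) (g y) ↔ P x b y) {g : W ≃ₗ[ℚ] W} (hg : g ∈ M.C) {b x y : W}
    (hx : x = g y) (h : RP M P b y) : RP M P (g b) x := by
  subst hx
  exact (RP_smul A hP hg).2 h

theorem RP_inv' (hP : ∀ g ∈ M.C, ∀ x b y, P (g x) (g b) (g y) ↔ P x b y) {g : W ≃ₗ[ℚ] W} (hg : g ∈ M.C) {b b' y : W}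
    (hb : b = g b') (h : RP M P b y) : RP M P b' (g⁻¹ y) := by
  subst hb
  have := (RP_smul A hP (M.C.inv_mem hg)).2 h
  rwa [inv_apply_self'] at this

theorem RP_fwd' (hP : ∀ g ∈ M.C, ∀ x b y, P (g x) (g b) (g y) ↔ P x b y) {g : W ≃ₗ[ℚ] W} (hg : g ∈ M.C) {b b' y : W}
    (hb : b = g b') (h : RP M P b' y) : RP M P b (g y) := by
  subst hb
  exact (RP_smul A hP hg).2 h

theorem ncard_Pj (hP : ∀ g ∈ M.C, ∀ x b y, P (g x) (g b) (g y) ↔ P x b y) (j : M.J) :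
    {p : W × W | p.1 ∈ M.S ∧ (∃ g ∈ M.C, p.2 = g (M.d j)) ∧ RP M P p.1 p.2}.ncard =
      {x | ∃ g ∈ M.C, x = g (M.d j)}.ncard * {b | b ∈ M.S ∧ RP M P b (M.d j)}.ncard := by
  have hg : ∀ x : {x | ∃ g ∈ M.C, x = g (M.d j)}, ∃ g ∈ M.C, (x : W) = g (M.d j) := fun x => x.2
  choose g hg1 hg2 using hg
  have hS : ∀ g ∈ M.C, ∀ b ∈ M.S, g b ∈ M.S := by
    rintro g hg _ ⟨k, hk, rfl⟩
    exact ⟨g * k, M.C.mul_mem hg hk, rfl⟩
  rw [← Nat.card_coe_set_eq, ← Nat.card_coe_set_eq, ← Nat.card_coe_set_eq, ← Nat.card_prod]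
  refine Nat.card_congr ⟨fun p => (⟨p.1.2, p.2.2.1⟩, ⟨(g ⟨p.1.2, p.2.2.1⟩)⁻¹ p.1.1,
      hS _ (M.C.inv_mem (hg1 _)) _ p.2.1, ?_⟩),
    fun q => ⟨(g q.1 q.2.1, q.1.1), hS _ (hg1 _) _ q.2.2.1, q.1.2, ?_⟩, ?_, ?_⟩
  · exact RP_inv A hP (hg1 _) (hg2 ⟨p.1.2, p.2.2.1⟩) p.2.2.2
  · exact RP_fwd A hP (hg1 _) (hg2 q.1) q.2.2.2
  · rintro ⟨⟨a, b⟩, h⟩
    apply Subtype.ext
    simp only [Prod.mk.injEq, and_true]
    exact apply_inv_self' _ _
  · rintro ⟨x, b⟩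
    simp only [Prod.mk.injEq, true_and]
    exact Subtype.ext (inv_apply_self' _ _)

theorem ncard_P (hP : ∀ g ∈ M.C, ∀ x b y, P (g x) (g b) (g y) ↔ P x b y) :
    {p : W × W | p.1 ∈ M.S ∧ p.2 ∈ M.D ∧ RP M P p.1 p.2}.ncard =
      9200 * {y | y ∈ M.D ∧ RP M P M.d₀ y}.ncard := by
  have hg : ∀ x : M.S, ∃ g ∈ M.C, (x : W) = g M.d₀ := fun x => x.2
  choose g hg1 hg2 using hg
  rw [← A.rep.S_card, ← Nat.card_coe_set_eq, ← Nat.card_coe_set_eq, ← Nat.card_coe_set_eq, ← Nat.card_prod]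
  refine Nat.card_congr ⟨fun p => (⟨p.1.1, p.2.1⟩, ⟨(g ⟨p.1.1, p.2.1⟩)⁻¹ p.1.2,
      A.C_D _ (M.C.inv_mem (hg1 _)) _ p.2.2.1, ?_⟩),
    fun q => ⟨(q.1.1, g q.1 q.2.1), q.1.2, A.C_D _ (hg1 _) _ q.2.2.1, ?_⟩, ?_, ?_⟩
  · exact RP_inv' A hP (hg1 _) (hg2 ⟨p.1.1, p.2.1⟩) p.2.2.2
  · exact RP_fwd' A hP (hg1 _) (hg2 q.1) q.2.2.2
  · rintro ⟨⟨a, b⟩, h⟩
    apply Subtype.ext
    simp only [Prod.mk.injEq, true_and]
    exact apply_inv_self' _ _
  · rintro ⟨x, b⟩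
    simp only [Prod.mk.injEq, true_and]
    exact Subtype.ext (inv_apply_self' _ _)

end

include S A

/-- `P` on the orbit of a representative. -/
theorem O_RP (hP : ∀ g ∈ M.C, ∀ x b y, P (g x) (g b) (g y) ↔ P x b y)
    (hn : ∀ x ∈ M.D, ∀ b ∈ M.D, ∀ y, P (-x) (-b) y ↔ P x b y) {r : R} {b : W} (hb : b ∈ O M jj hh r) :
    RP M P b (M.d (jj r)) ↔ P (hh r M.d₀) (hh r M.d₁) (M.d (jj r)) := by
  obtain ⟨-, l, hl, h1, h2⟩ := hb
  have e1 : P (l (hh r M.d₀)) (l (hh r M.d₁)) (M.d (jj r)) ↔ P (hh r M.d₀) (hh r M.d₁) (M.d (jj r)) := by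
    conv_lhs => rw [← h1]
    exact hP l hl _ _ _
  rcases h2 with rfl | rfl
  · have e2 := RP_iff (P := P) A (M.C.mul_mem hl (S.mem r)) (y := M.d (jj r))
    rw [LinearEquiv.mul_apply, LinearEquiv.mul_apply] at e2
    exact e2.trans e1
  · obtain ⟨n, hn', hn0, hn1⟩ := neg_elt A
    have e2 := RP_iff (P := P) A (M.C.mul_mem (M.C.mul_mem hl (S.mem r)) hn') (y := M.d (jj r))
    have e3 : (l * hh r * n) M.d₀ = -(l (hh r M.d₀)) := by
      rw [LinearEquiv.mul_apply, LinearEquiv.mul_apply, hn0, map_neg, map_neg]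
    have e4 : (l * hh r * n) M.d₁ = -(l (hh r M.d₁)) := by
      rw [LinearEquiv.mul_apply, LinearEquiv.mul_apply, hn1, map_neg, map_neg]
    rw [e3, e4] at e2
    refine e2.trans ((hn _ ?_ _ ?_ _).trans e1)
    · exact A.C_D _ hl _ (S.h_mem A r)
    · exact A.C_D _ hl _ (S.h1_mem A r)

open Classical in
theorem ncard_RP (hP : ∀ g ∈ M.C, ∀ x b y, P (g x) (g b) (g y) ↔ P x b y)
    (hn : ∀ x ∈ M.D, ∀ b ∈ M.D, ∀ y, P (-x) (-b) y ↔ P x b y) (j : M.J) :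
    {b | b ∈ M.S ∧ RP M P b (M.d j)}.ncard =
      ∑ r, if jj r = j ∧ P (hh r M.d₀) (hh r M.d₁) (M.d (jj r)) then 2 * nn r else 0 := by
  have hfin : ∀ r : R, (O M jj hh r).Finite := fun r => (S_finite A).subset fun b hb => hb.1
  have e1 : ∀ r', (O M jj hh r').ncard = (hfin r').toFinset.card := fun r' => Set.ncard_eq_toFinset_card _ (hfin r')
  rw [← Finset.sum_filter]
  simp only [← S.ncard_O A, e1]
  rw [← Finset.card_biUnion, ← Set.ncard_coe_finset]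
  · congr 1
    ext b
    rw [Finset.mem_coe, Finset.mem_biUnion]
    constructor
    · rintro ⟨hb, hR⟩
      obtain ⟨r, hr, l, hl, h1, h2⟩ := S.cover j b hb
      have hO : b ∈ O M jj hh r := ⟨hb, l, hl, by rw [hr]; exact h1, h2⟩
      refine ⟨r, ?_, by rw [Set.Finite.mem_toFinset]; exact hO⟩
      rw [Finset.mem_filter]
      exact ⟨Finset.mem_univ _, hr, (O_RP S A hP hn hO).1 (by rw [hr]; exact hR)⟩
    · rintro ⟨r, hr, hb⟩
      rw [Finset.mem_filter] at hr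
      rw [Set.Finite.mem_toFinset] at hb
      obtain ⟨-, hr1, hr2⟩ := hr
      subst hr1
      exact ⟨hb.1, (O_RP S A hP hn hb).2 hr2⟩
  · intro a ha b hb hab
    rw [Finset.mem_coe, Finset.mem_filter] at ha hb
    rw [Function.onFun, Set.Finite.disjoint_toFinset]
    exact S.O_disjoint A (ha.2.1.trans hb.2.1.symm) hab

open Classical in
/-- **Double counting.** -/
theorem dbl8 [Fintype M.J] (hP : ∀ g ∈ M.C, ∀ x b y, P (g x) (g b) (g y) ↔ P x b y)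
    (hn : ∀ x ∈ M.D, ∀ b ∈ M.D, ∀ y, P (-x) (-b) y ↔ P x b y) :
    9200 * {y | y ∈ M.D ∧ P M.d₀ M.d₁ y}.ncard =
      ∑ r, if P (hh r M.d₀) (hh r M.d₁) (M.d (jj r)) then N (jj r) * (2 * nn r) else 0 := by
  have h0 : {y | y ∈ M.D ∧ P M.d₀ M.d₁ y} = {y | y ∈ M.D ∧ RP M P M.d₀ y} := by
    ext y
    simp only [Set.mem_setOf_eq, RP_d₀ A]
  rw [h0, ← ncard_P A hP]
  set Q : M.J → Set (W × W) := fun j => {p : W × W | p.1 ∈ M.S ∧ (∃ g ∈ M.C, p.2 = g (M.d j)) ∧ RP M P p.1 p.2}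
    with hQ
  have hfin : ∀ j, (Q j).Finite := by
    intro j
    refine Set.Finite.subset ((S_finite A).prod A.D_finite) ?_
    rintro p ⟨h1, ⟨g, hg, h2⟩, -⟩
    exact ⟨h1, j, g, hg, h2⟩
  have h1 : {p : W × W | p.1 ∈ M.S ∧ p.2 ∈ M.D ∧ RP M P p.1 p.2}.ncard = ∑ j, (Q j).ncard := by
    have e1 : ∀ j, (Q j).ncard = (hfin j).toFinset.card := fun j => Set.ncard_eq_toFinset_card _ (hfin j)
    simp only [e1]
    rw [← Finset.card_biUnion, ← Set.ncard_coe_finset]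
    · congr 1
      ext p
      rw [Finset.mem_coe, Finset.mem_biUnion]
      constructor
      · rintro ⟨h1, ⟨j, g, hg, h2⟩, h3⟩
        exact ⟨j, Finset.mem_univ _, by rw [Set.Finite.mem_toFinset]; exact ⟨h1, ⟨g, hg, h2⟩, h3⟩⟩
      · rintro ⟨j, -, hj⟩
        rw [Set.Finite.mem_toFinset] at hj
        obtain ⟨h1, ⟨g, hg, h2⟩, h3⟩ := hj
        exact ⟨h1, ⟨j, g, hg, h2⟩, h3⟩
    · intro i _ j _ hij
      rw [Function.onFun, Set.Finite.disjoint_toFinset, Set.disjoint_left]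
      rintro p ⟨-, ⟨g, hg, h2⟩, -⟩ ⟨-, ⟨g', hg', h2'⟩, -⟩
      apply hij
      refine A.orb.disjoint i j (g'⁻¹ * g) (M.C.mul_mem (M.C.inv_mem hg') hg) ?_
      rw [LinearEquiv.mul_apply, ← h2, h2', inv_apply_self']
  rw [h1]
  have h2 : ∀ j, (Q j).ncard = N j * ∑ r, if jj r = j ∧ P (hh r M.d₀) (hh r M.d₁) (M.d (jj r)) then 2 * nn r else 0 := by
    intro j
    rw [hQ, ncard_Pj A hP j, S.len j, ncard_RP S A hP hn]
  simp only [h2, Finset.mul_sum]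
  rw [Finset.sum_comm]
  refine Finset.sum_congr rfl fun r _ => ?_
  rw [Finset.sum_eq_single (jj r)]
  · by_cases h : P (hh r M.d₀) (hh r M.d₁) (M.d (jj r))
    · rw [if_pos ⟨rfl, h⟩, if_pos h]
    · rw [if_neg (fun h' => h h'.2), if_neg h, mul_zero]
  · intro j _ hj
    rw [if_neg (fun h' => hj h'.1.symm), mul_zero]
  · intro h
    exact absurd (Finset.mem_univ _) h

include T

/-- **The numbers.** -/
theorem numbers8 [Fintype M.J] (u w : Fin 8) :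
    9200 * ((if flip u = u ∧ flip w = w then 1 else 2) * {y | y ∈ M.D ∧ sc M M.d₀ y = u ∧ sc M M.d₁ y = w}.ncard) =
      ∑ r, if (su r = u ∧ sw r = w) ∨ (su r = flip u ∧ sw r = flip w) then N (jj r) * (2 * nn r) else 0 := by
  classical
  set P : W → W → W → Prop := fun x b y => (sc M x y = u ∧ sc M b y = w) ∨ (sc M x y = flip u ∧ sc M b y = flip w)
    with hPd
  have hP : ∀ g ∈ M.C, ∀ x b y, P (g x) (g b) (g y) ↔ P x b y := by
    intro g hg x b y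
    rw [hPd]
    simp only [sc_smul A (A.C_le_G hg)]
  have hff : ∀ a b : Fin 8, flip a = b ↔ a = flip b := fun a b =>
    ⟨fun h => by rw [← h, flip_flip], fun h => by rw [h, flip_flip]⟩
  have hn : ∀ x ∈ M.D, ∀ b ∈ M.D, ∀ y, P (-x) (-b) y ↔ P x b y := by
    intro x hx b hb y
    rw [hPd]
    simp only [sc_neg_left A hx, sc_neg_left A hb, hff, flip_flip]
    exact Or.comm
  have h1 := dbl8 S A hP hn
  have hr : ∀ r, P (hh r M.d₀) (hh r M.d₁) (M.d (jj r)) ↔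
      ((su r = u ∧ sw r = w) ∨ (su r = flip u ∧ sw r = flip w)) := by
    intro r
    rw [← T.su, ← T.sw]
  simp only [← hr]
  refine Eq.trans ?_ (h1.trans (Finset.sum_congr rfl fun r _ => by congr))
  congr 1
  set E := {y | y ∈ M.D ∧ sc M M.d₀ y = u ∧ sc M M.d₁ y = w} with hE
  set E' := {y | y ∈ M.D ∧ sc M M.d₀ y = flip u ∧ sc M M.d₁ y = flip w} with hE'
  have hEf : E.Finite := A.D_finite.subset fun y hy => hy.1
  have hEf' : E'.Finite := A.D_finite.subset fun y hy => hy.1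
  have h3 : {y | y ∈ M.D ∧ P M.d₀ M.d₁ y} = E ∪ E' := by
    ext y
    simp only [hPd, hE, hE', Set.mem_setOf_eq, Set.mem_union]
    tauto
  have h4 : E' = (fun y => -y) '' E := by
    ext y
    constructor
    · rintro ⟨e1, e2, e3⟩
      refine ⟨-y, ⟨A.neg_D _ e1, ?_, ?_⟩, neg_neg y⟩
      · rw [sc_neg_right, e2, flip_flip]
      · rw [sc_neg_right, e3, flip_flip]
    · rintro ⟨z, ⟨e1, e2, e3⟩, rfl⟩
      refine ⟨A.neg_D _ e1, ?_, ?_⟩
      · rw [sc_neg_right, e2]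
      · rw [sc_neg_right, e3]
  have h5 : E'.ncard = E.ncard := by rw [h4, Set.ncard_image_of_injective _ neg_injective]
  rw [h3]
  by_cases h6 : flip u = u ∧ flip w = w
  · rw [if_pos h6, one_mul]
    have h7 : E' = E := by rw [hE, hE', h6.1, h6.2]
    rw [h7, Set.union_self]
  · rw [if_neg h6, Set.ncard_union_eq ?_ hEf hEf', h5]
    · ring
    · rw [Set.disjoint_left]
      rintro y ⟨-, e1, e2⟩ ⟨-, e3, e4⟩
      exact h6 ⟨by rw [← e3, e1], by rw [← e4, e2]⟩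

include B

/-- **The signed scheme.** -/
theorem isCol8 : Col M.G (X0 M) (Fin 8) (cc M) 0 where
  inv g x y := by
    unfold cc
    rw [vv_smul, vv_smul, sc_smul A g.2]
  tr x y x' y' h := by
    obtain ⟨g, hg, h1, h2⟩ := tr8 S T A B (vv_mem A x) (vv_mem A y) (vv_mem A x') (vv_mem A y') h
    refine ⟨⟨g, hg⟩, vv_inj ?_, vv_inj ?_⟩
    · rw [vv_smul]; exact h1
    · rw [vv_smul]; exact h2
  diag x y := by
    constructor
    · intro h
      have h1 : sc M (vv M x) (vv M y) = 0 := h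
      have h2 : col M (vv M x) (vv M y) = 0 := by rw [← par_sc, h1]; rfl
      rcases S.pm_of_zero A (vv_mem A x) (vv_mem A y) h2 with h3 | h3
      · exact vv_inj h3
      · exfalso
        rw [h3, sc_neg_left A (vv_mem A y), sc_0 (A.F_D _ (vv_mem A y))] at h1
        exact absurd h1 (by decide)
    · rintro rfl
      exact sc_0 (A.F_D _ (vv_mem A x))
  symm x y := sc_comm A B (vv_mem A x) (vv_mem A y)

omit B in
/-- The numbers, for the quotient. -/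
theorem exists_z8 : ∃ z₀ : X0 M, cc M (QuotientGroup.mk 1) z₀ = 3 ∧ ∀ u w : Fin 8,
    Nat.card {y : X0 M // cc M (QuotientGroup.mk 1) y = u ∧ cc M z₀ y = w} =
      {y | y ∈ M.D ∧ sc M M.d₀ y = u ∧ sc M M.d₁ y = w}.ncard := by
  obtain ⟨z₀, hz⟩ := exists_vv A A.d₁_mem
  have hx : vv M (QuotientGroup.mk 1) = M.d₀ := vv_mk (M := M) 1
  refine ⟨z₀, ?_, fun u w => ?_⟩
  · show sc M _ _ = 3
    rw [hx, hz]
    exact sc_3 (by rw [A.rep.F_symm, A.F_d₁_d₀])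
  · rw [← card_sub A (fun y => sc M M.d₀ y = u ∧ sc M M.d₁ y = w)]
    unfold cc
    rw [hx, hz]

end count

end Cfsg.Agent.H877.BSgn
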