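import Cfsg.Agent.H877.ClsBase
import Cfsg.Agent.H531.LemX

/-!
# S4148: one element of a nonabelian minimal normal subgroup (helper877)
-/

set_option autoImplicit false

namespace Cfsg.Agent.H877.Cls

open scoped Pointwise commutatorElement
open Cfsg.Agent.H822.Cls Cfsg.Agent.H531 Cfsg.Agent.H531.LemX Cfsg.Agent.H531.Red
open Cfsg.Agent.Lib.MinNormalNonabelian

universe u

attribute [local instance] Cfsg.Agent.H531.Red.act

/-- If `p` does not divide the class size of `x` then some Sylow `p`-subgroup centralises `x`. -/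
theorem sylow_of_not_moved {G : Type*} [Group G] [Finite G] {p : ℕ} (hp : p.Prime) {x : G} (h : ¬ Moved p x) :
    ∃ Q : Sylow p G, (Q : Subgroup G) ≤ Subgroup.centralizer {x} := by
  have := Fact.mk hp
  obtain ⟨P0⟩ : Nonempty (Sylow p (Subgroup.centralizer ({x} : Set G))) := inferInstance
  have h1 : IsPGroup p ((P0 : Subgroup (Subgroup.centralizer ({x} : Set G))).map
    (Subgroup.centralizer ({x} : Set G)).subtype) := P0.2.map _
  obtain ⟨S, hS1⟩ := h1.exists_le_sylow
  have h0 : (Nat.card G).factorization p = (Nat.card (Subgroup.centralizer ({x} : Set G))).factorization p := by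
    rw [← (Subgroup.centralizer ({x} : Set G)).card_mul_index, Nat.factorization_mul Nat.card_pos.ne'
      Subgroup.index_ne_zero_of_finite, Finsupp.add_apply, Nat.factorization_eq_zero_of_not_dvd h, add_zero]
  have h2 : Nat.card S = Nat.card ((P0 : Subgroup (Subgroup.centralizer ({x} : Set G))).map
      (Subgroup.centralizer ({x} : Set G)).subtype) := by
    rw [Subgroup.card_map_of_injective (Subgroup.subtype_injective _), S.card_eq_multiplicity,
      P0.card_eq_multiplicity, h0]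
  have h3 := Subgroup.eq_of_le_of_card_ge hS1 h2.le
  refine ⟨S, ?_⟩
  rw [← h3]
  exact Subgroup.map_subtype_le _

theorem nonab_object' (hB : BaseLemma.{u})
    (hFM : ∀ (S : Type u) [Group S] [Finite S] [IsSimpleGroup S], ¬ IsMulCommutative S → FM S) :
    NonabObject.{u} := by
  intro G _ _ K H N hS hNK hN hmin hna
  classical
  have hStr : Str N := Str.of N hmin (fun h => hna ⟨⟨fun a b => Subtype.ext (h a a.2 b b.2)⟩⟩)
  have hne : Nonempty (minSet N) := hStr.nonempty.to_subtype
  obtain ⟨B, ⟨ω₀, hω₀⟩, hB1, hB2⟩ := hB G (minSet N) K H hS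
  have hcardT : ∀ T : minSet N, (Nat.card H).Coprime (Nat.card T.1) := fun T =>
    (Nat.Coprime.coprime_dvd_left (Subgroup.card_dvd_of_le (T.2.1.trans hNK)) hS.cop).symm
  -- the elements `s`
  have hs : ∀ T : minSet N, ∃ s ∈ T.1, s ≠ 1 ∧ ∀ b ∈ H, b • T = T →
      b * s * b⁻¹ ∈ Subgroup.zpowers s ∧ (Commute b s → ∀ t ∈ T.1, Commute b t) := by
    intro T
    have hsimp : IsSimpleGroup T.1 := hStr.simple T
    obtain ⟨s, hsT, h1⟩ := exists_s T (hFM T.1 (fun h => hStr.nonabelian T (fun x y => h.is_comm.comm x y)))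
      (H ⊓ Subgroup.normalizer (T.1 : Set G)) inf_le_right
      (Nat.Coprime.coprime_dvd_left (Subgroup.card_dvd_of_le inf_le_left) (hcardT T))
    by_cases hs1 : s = 1
    · obtain ⟨y, hy⟩ := exists_ne (1 : T.1)
      refine ⟨y, y.2, fun h => hy (Subtype.ext h), fun b hb hbT => ?_⟩
      have hbn : b ∈ H ⊓ Subgroup.normalizer (T.1 : Set G) := ⟨hb, mem_normalizer_iff_smul.1 hbT⟩
      have h2 := (h1 b hbn).2 (by rw [hs1]; exact Commute.one_right b)
      refine ⟨?_, fun _ => h2⟩
      rw [(h2 y y.2).eq, mul_inv_cancel_right]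
      exact Subgroup.mem_zpowers _
    · exact ⟨s, hsT, hs1, fun b hb hbT => h1 b ⟨hb, mem_normalizer_iff_smul.1 hbT⟩⟩
  choose s hsT hs1 hs2 using hs
  -- elements of another order
  have hx : ∀ T : minSet N, ∃ x : T.1, orderOf x ≠ 1 ∧ orderOf x ≠ orderOf (s T) := by
    intro T
    obtain ⟨x, y, z, hx1, hy1, hz1, hxy, hxz, hyz⟩ := exists_three (hStr.not_solvable T)
    by_cases h : orderOf x = orderOf (s T)
    · exact ⟨y, hy1, fun h2 => hxy (h.trans h2.symm)⟩
    · exact ⟨x, hx1, h⟩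
  choose x hx1 hx2 using hx
  set Γ : Set (minSet N) := ⋃ ω ∈ B, MulAction.orbit H ω with hΓdef
  have hmemΓ : ∀ {z : minSet N}, z ∈ Γ ↔ ∃ ω ∈ B, z ∈ MulAction.orbit H ω := by
    intro z
    rw [hΓdef, Set.mem_iUnion₂]
    exact ⟨fun ⟨a, b, c⟩ => ⟨a, b, c⟩, fun ⟨a, b, c⟩ => ⟨a, b, c⟩⟩
  have hrep : ∀ T : minSet N, ∃ (ω : minSet N) (h : G), T ∈ Γ → (ω ∈ B ∧ T ∈ MulAction.orbit H ω ∧ h • ω = T) := by
    intro T
    by_cases hT : T ∈ Γ
    · obtain ⟨ω, hω, h, hh⟩ := hmemΓ.1 hT
      exact ⟨ω, h, fun _ => ⟨hω, ⟨h, hh⟩, hh⟩⟩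
    · exact ⟨T, 1, fun h => absurd h hT⟩
  choose ρ c hρ using hrep
  let f : minSet N → G := fun T =>
    if T ∈ B then s T else if T ∈ Γ then c T * x (ρ T) * (c T)⁻¹ else 1
  have hf : ∀ T, f T ∈ T.1 := by
    intro T
    show (if T ∈ B then s T else if T ∈ Γ then c T * x (ρ T) * (c T)⁻¹ else (1 : G)) ∈ T.1
    split_ifs with h1 h2
    · exact hsT T
    · have h3 : T.1 = (ρ T).1.map (MulAut.conj (c T)).toMonoidHom := congrArg Subtype.val (hρ T h2).2.2.symm
      rw [h3]
      exact ⟨x (ρ T), (x (ρ T)).2, rfl⟩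
    · exact one_mem _
  have hord : ∀ T, orderOf (f T) = if T ∈ B then orderOf (s T) else if T ∈ Γ then orderOf (x (ρ T)) else 1 := by
    intro T
    show orderOf (if T ∈ B then s T else if T ∈ Γ then c T * x (ρ T) * (c T)⁻¹ else (1 : G)) = _
    split_ifs
    · rfl
    · rw [LemX.orderOf_conj', Subgroup.orderOf_coe]
    · exact orderOf_one
  have hBΓ : ∀ T ∈ B, T ∈ Γ := fun T hT => hmemΓ.2 ⟨T, hT, MulAction.mem_orbit_self T⟩
  have hsupp : ∀ T, orderOf (f T) ≠ 1 ↔ T ∈ Γ := by
    intro T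
    rw [hord]
    split_ifs with h1 h2
    · refine ⟨fun _ => hBΓ T h1, fun _ h => hs1 T (orderOf_eq_one_iff.1 h)⟩
    · exact ⟨fun _ => h2, fun _ => hx1 _⟩
    · exact ⟨fun h => absurd rfl h, fun h => absurd h h2⟩
  obtain ⟨v, hvN, hv⟩ := hStr.build f hf
  have hinv : ∀ g : G, Commute g v → ∀ T, orderOf (f (g • T)) = orderOf (f T) := by
    intro g hg T
    rw [hv g hg T, LemX.orderOf_conj']
  refine ⟨v, hvN, ?_⟩
  intro p hp hpH P hP
  by_contra hmv
  apply hP
  have := Fact.mk hp
  obtain ⟨Q, hQ⟩ := sylow_of_not_moved hp hmv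
  have hQv : ∀ g ∈ Q, Commute g v := fun g hg => (Subgroup.mem_centralizer_singleton_iff.1 (hQ hg))
  have hQΓ : ∀ g ∈ Q, g • Γ = Γ := by
    intro g hg
    have key : ∀ g ∈ Q, ∀ T ∈ Γ, g • T ∈ Γ := by
      intro g hg T hT
      rw [← hsupp, hinv g (hQv g hg), hsupp]
      exact hT
    apply Set.Subset.antisymm
    · rintro _ ⟨T, hT, rfl⟩
      exact key g hg T hT
    · intro T hT
      refine ⟨g⁻¹ • T, key g⁻¹ (inv_mem hg) T hT, smul_inv_smul g T⟩
  by_cases ha : ∃ g ∈ Q, ∃ i : minSet N, g • i ≠ i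
  · exfalso
    obtain ⟨g, hg, ω, hω, h1, h2⟩ := hB2 p hp hpH Q ha hQΓ
    have h3 : g • ω ∉ B := fun h => h2 (hB1 ω hω _ h h1)
    have h4 : g • ω ∈ Γ := hmemΓ.2 ⟨ω, hω, h1⟩
    have h5 := hinv g (hQv g hg) ω
    rw [hord, hord, if_neg h3, if_pos h4, if_pos hω] at h5
    have h6 : ρ (g • ω) = ω := by
      obtain ⟨h7, h8, -⟩ := hρ _ h4
      apply hB1 ω hω _ h7
      rw [← MulAction.orbit_eq_iff.2 h1]
      exact MulAction.orbit_eq_iff.1 (MulAction.orbit_eq_iff.2 h8).symm
    rw [h6] at h5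
    exact hx2 ω h5
  · push Not at ha
    -- all Sylow subgroups act trivially on the components
    let W : Subgroup G := (MulAction.toPermHom G (minSet N)).ker
    have hWmem : ∀ {g : G}, g ∈ W ↔ ∀ T : minSet N, g • T = T := by
      intro g
      rw [MonoidHom.mem_ker]
      exact ⟨fun h T => by
        have := congrArg (fun e : Equiv.Perm (minSet N) => e T) h
        exact this, fun h => by ext1 T; exact h T⟩
    have hQW : (Q : Subgroup G) ≤ W := fun g hg => hWmem.2 (ha g hg)
    have hall : ∀ R : Sylow p G, (R : Subgroup G) ≤ W := by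
      intro R
      obtain ⟨g, hg⟩ := MulAction.exists_smul_eq G Q R
      rw [← hg]
      intro y hy
      rw [Sylow.coe_subgroup_smul, Subgroup.mem_pointwise_smul_iff_inv_smul_mem, MulAut.smul_def,
        MulAut.conj_inv_apply] at hy
      have h1 := (inferInstance : W.Normal).conj_mem _ (hQW hy) g
      have h2 : g * (g⁻¹ * y * g) * g⁻¹ = y := by group
      rwa [h2] at h1
    obtain ⟨P', hP'⟩ := split_sylow hS hp hpH
    -- `P'` centralises `T_ω₀`
    have hcen0 : ∀ b ∈ P', ∀ t ∈ ω₀.1, Commute b t := by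
      intro b hb
      have hbT : b • ω₀ = ω₀ := hWmem.1 (hall P' hb) ω₀
      obtain ⟨h1, h2⟩ := hs2 ω₀ b (hP' hb) hbT
      apply h2
      -- the normaliser of `⟨s⟩`
      set σ := s ω₀ with hσ
      have hfσ : f ω₀ = σ := by
        show (if ω₀ ∈ B then s ω₀ else _) = _
        rw [if_pos hω₀]
      have hQσ : ∀ g ∈ Q, Commute g σ := by
        intro g hg
        have h3 := hv g (hQv g hg) ω₀
        rw [ha g hg ω₀, hfσ] at h3
        show g * σ = σ * g
        rw [← mul_inv_eq_iff_eq_mul]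
        exact h3.symm
      let M : Subgroup G := Subgroup.normalizer ((Subgroup.zpowers σ : Subgroup G) : Set G)
      have hCM : Subgroup.centralizer ({σ} : Set G) ≤ M := by
        intro g hg
        rw [Subgroup.mem_normalizer_iff]
        have hg' : Commute g σ := Subgroup.mem_centralizer_singleton_iff.1 hg
        intro y
        constructor
        · rintro ⟨n, rfl⟩
          have h4 : g * σ ^ n * g⁻¹ = σ ^ n := by
            rw [(hg'.zpow_right n).eq, mul_inv_cancel_right]
          show g * σ ^ n * g⁻¹ ∈ _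
          rw [h4]
          exact ⟨n, rfl⟩
        · rintro ⟨n, hn⟩
          have hn' : σ ^ n = g * y * g⁻¹ := hn
          have h4 : y = σ ^ n := by
            have h5 : g⁻¹ * σ ^ n * g = σ ^ n := by
              rw [mul_assoc, ← (hg'.zpow_right n).eq, inv_mul_cancel_left]
            rw [← h5, hn']; group
          rw [h4]
          exact ⟨n, rfl⟩
      have hbM : b ∈ M := by
        have hfin : Finite (Subgroup.zpowers σ) := inferInstance
        have h3 : Subgroup.map (MulAut.conj b).toMonoidHom (Subgroup.zpowers σ) ≤ Subgroup.zpowers σ := by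
          rintro _ ⟨_, ⟨n, rfl⟩, rfl⟩
          show b * σ ^ n * b⁻¹ ∈ _
          rw [← conj_zpow]
          exact Subgroup.zpow_mem _ h1 n
        have h4 := Subgroup.eq_of_le_of_card_ge h3 (by
          rw [Subgroup.card_map_of_injective (MulAut.conj b).injective])
        exact Subgroup.mem_normalizer_iff_map_conj_eq.2 h4
      have hCn : ((Subgroup.centralizer ({σ} : Set G)).subgroupOf M).Normal := by
        constructor
        intro y hy m
        rw [Subgroup.mem_subgroupOf, Subgroup.mem_centralizer_singleton_iff] at hy ⊢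
        have h3 : m.1⁻¹ * σ * m.1 ∈ Subgroup.zpowers σ := by
          have h4 := (Subgroup.mem_normalizer_iff.1 (M.inv_mem m.2) σ).1 (Subgroup.mem_zpowers σ)
          rwa [inv_inv] at h4
        obtain ⟨n, hn⟩ := h3
        have hn' : σ ^ n = m.1⁻¹ * σ * m.1 := hn
        have h5 : Commute y.1 (m.1⁻¹ * σ * m.1) := by
          rw [← hn']
          exact Commute.zpow_right hy n
        show (m.1 * y.1 * m.1⁻¹) * σ = σ * (m.1 * y.1 * m.1⁻¹)
        calc (m.1 * y.1 * m.1⁻¹) * σ = m.1 * (y.1 * (m.1⁻¹ * σ * m.1)) * m.1⁻¹ := by group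
          _ = m.1 * ((m.1⁻¹ * σ * m.1) * y.1) * m.1⁻¹ := by rw [h5.eq]
          _ = _ := by group
      have h3 := Subgroup.pow_index_mem ((Subgroup.centralizer ({σ} : Set G)).subgroupOf M) ⟨b, hbM⟩
      rw [Subgroup.mem_subgroupOf] at h3
      obtain ⟨n, hn⟩ := P'.2 ⟨b, hb⟩
      have hn' : b ^ p ^ n = 1 := congrArg Subtype.val hn
      have hidx : ¬ p ∣ ((Subgroup.centralizer ({σ} : Set G)).subgroupOf M).index := by
        intro h4
        have hQC : (Q : Subgroup G) ≤ Subgroup.centralizer ({σ} : Set G) := fun g hg =>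
          Subgroup.mem_centralizer_singleton_iff.2 (hQσ g hg)
        have h5 : (Subgroup.centralizer ({σ} : Set G)).relIndex M ∣ (Subgroup.centralizer ({σ} : Set G)).index :=
          Dvd.intro _ (Subgroup.relIndex_mul_index hCM)
        exact Q.not_dvd_index ((h4.trans h5).trans (Subgroup.index_dvd_of_le hQC))
      have h6 : b ∈ Subgroup.centralizer ({σ} : Set G) := by
        refine mem_of_pow_coprime _ (m := p ^ n)
          (n := ((Subgroup.centralizer ({σ} : Set G)).subgroupOf M).index) ?_ (by rw [hn']; exact one_mem _) h3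
        exact Nat.Coprime.pow_left n ((Nat.Prime.coprime_iff_not_dvd hp).2 hidx)
      exact Subgroup.mem_centralizer_singleton_iff.1 h6
    -- hence every Sylow subgroup centralises `T_ω₀`
    have hcen1 : ∀ R : Sylow p G, ∀ b ∈ R, ∀ t ∈ ω₀.1, Commute b t := by
      intro R b hb t ht
      obtain ⟨⟨w, hw⟩, hwR⟩ := MulAction.exists_smul_eq W (P'.subtype (hall P')) (R.subtype (hall R))
      have h1 : (⟨b, hall R hb⟩ : W) ∈ R.subtype (hall R) := hb
      rw [← hwR, ← SetLike.mem_coe, Sylow.coe_smul, Set.mem_smul_set_iff_inv_smul_mem, MulAut.smul_def,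
        MulAut.conj_inv_apply] at h1
      have h2 : w⁻¹ * b * w ∈ P' := h1
      have h3 : w⁻¹ * t * w ∈ ω₀.1 := by
        have h4 := hWmem.1 (W.inv_mem hw) ω₀
        have h5 : (w⁻¹ • ω₀ : minSet N).1 = ω₀.1 := congrArg Subtype.val h4
        rw [smul_coe] at h5
        rw [← h5]
        refine ⟨t, ht, ?_⟩
        show w⁻¹ * t * w⁻¹⁻¹ = _
        rw [inv_inv]
      have h4 := hcen0 _ h2 _ h3
      show b * t = t * b
      calc b * t = w * ((w⁻¹ * b * w) * (w⁻¹ * t * w)) * w⁻¹ := by group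
        _ = w * ((w⁻¹ * t * w) * (w⁻¹ * b * w)) * w⁻¹ := by rw [h4.eq]
        _ = t * b := by group
    -- and all components
    intro b hb
    rw [Subgroup.mem_centralizer_iff]
    have hle : sSup (minSet N) ≤ Subgroup.centralizer {b} := by
      refine sSup_le fun U hU => ?_
      intro y hy
      obtain ⟨g, hg⟩ := hStr.trans ω₀ ⟨U, hU⟩
      rw [Subgroup.mem_centralizer_singleton_iff]
      have hy' : y ∈ (g • ω₀).1 := by rw [hg]; exact hy
      rw [smul_coe] at hy'
      obtain ⟨t, ht, rfl⟩ := hy'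
      have h1 : g⁻¹ * b * g ∈ (g⁻¹ • P : Sylow p G) := by
        rw [← SetLike.mem_coe, Sylow.coe_smul, Set.mem_smul_set_iff_inv_smul_mem, MulAut.smul_def,
          MulAut.conj_inv_apply]
        have h2 : g⁻¹⁻¹ * (g⁻¹ * b * g) * g⁻¹ = b := by group
        rw [h2]
        exact hb
      have h2 := hcen1 _ _ h1 t ht
      show g * t * g⁻¹ * b = b * (g * t * g⁻¹)
      calc g * t * g⁻¹ * b = g * (t * (g⁻¹ * b * g)) * g⁻¹ := by group
        _ = g * ((g⁻¹ * b * g) * t) * g⁻¹ := by rw [h2.eq]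
        _ = _ := by group
    intro y hy
    rw [← hStr.gen] at hy
    exact Subgroup.mem_centralizer_singleton_iff.1 (hle hy)

end Cfsg.Agent.H877.Cls
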