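import Cfsg.Agent.H877.ClsNonab
import Cfsg.Agent.H531.FMAll

/-!
# S4148: `nonab_object` (helper877)
-/

set_option autoImplicit false

namespace Cfsg.Agent.H877.Cls

open Cfsg.Agent.H822.Cls

universe u

theorem nonab_object (hB : BaseLemma.{u}) : NonabObject.{u} :=
  nonab_object' hB (fun S _ _ _ h => Cfsg.Agent.H531.FMAll.fm S h)

end Cfsg.Agent.H877.Cls
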