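import Mathlib

/-!
# Polar spaces with a group: totally singular planes (helper877)

A common frame for symplectic (`e = -1`, `q = 0`) and orthogonal (`e = 1`) groups of odd characteristic, for tasks
372, 373 of S4834 (helper687).

* `HP B q w v` : `w 0, w 1; v 0, v 1` is a hyperbolic quadruple;
* `Pol B q e E` : the frame;
* `IsPl W` : `W` is a totally singular plane;
* `Mat g w M` : `g` acts on the family `w` by the matrix `M`; `Dt g W c` : `g` stabilises `W` with determinant `c`;
* `Pol.wit` : the witnesses for the irreducibility of the first character.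
-/

set_option autoImplicit false

namespace Cfsg.Agent.H877.Pol

open Matrix

universe u v

section comb

variable {F : Type u} {V : Type v} [Field F] [AddCommGroup V] [Module F V]

/-- The linear combinations of `w` given by the columns of `M`. -/
def comb (M : Matrix (Fin 2) (Fin 2) F) (w : Fin 2 → V) : Fin 2 → V := fun j => ∑ i, M i j • w i

theorem comb_apply (M : Matrix (Fin 2) (Fin 2) F) (w : Fin 2 → V) (j : Fin 2) :
    comb M w j = M 0 j • w 0 + M 1 j • w 1 := by
  unfold comb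
  rw [Fin.sum_univ_two]

theorem comb_one (w : Fin 2 → V) : comb (1 : Matrix (Fin 2) (Fin 2) F) w = w := by
  funext j
  rw [comb_apply]
  fin_cases j
  · show (1 : Matrix (Fin 2) (Fin 2) F) 0 0 • w 0 + (1 : Matrix (Fin 2) (Fin 2) F) 1 0 • w 1 = w 0
    simp
  · show (1 : Matrix (Fin 2) (Fin 2) F) 0 1 • w 0 + (1 : Matrix (Fin 2) (Fin 2) F) 1 1 • w 1 = w 1
    simp

theorem comb_comb (M N : Matrix (Fin 2) (Fin 2) F) (w : Fin 2 → V) : comb N (comb M w) = comb (M * N) w := by
  funext j
  simp only [comb_apply, Matrix.mul_apply, Fin.sum_univ_two]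
  module

theorem comb_inj {w : Fin 2 → V} (hw : LinearIndependent F w) {M N : Matrix (Fin 2) (Fin 2) F}
    (h : comb M w = comb N w) : M = N := by
  ext i j
  have h1 := congrFun h j
  unfold comb at h1
  have h2 : ∑ i, (M i j - N i j) • w i = 0 := by
    rw [Finset.sum_congr rfl fun i _ => sub_smul _ _ _, Finset.sum_sub_distrib, h1, sub_self]
  have h3 := Fintype.linearIndependent_iff.1 hw _ h2 i
  exact sub_eq_zero.1 h3

/-- `g` acts on the family `w` by the matrix `M`. -/
def Mat (g : V → V) (w : Fin 2 → V) (M : Matrix (Fin 2) (Fin 2) F) : Prop := ∀ j, g (w j) = comb M w j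

theorem map_comb (g : V ≃ₗ[F] V) (M : Matrix (Fin 2) (Fin 2) F) (w : Fin 2 → V) (j : Fin 2) :
    g (comb M w j) = comb M (fun i => g (w i)) j := by
  rw [comb_apply, comb_apply, map_add, map_smul, map_smul]

theorem Mat.mul {g h : V ≃ₗ[F] V} {w : Fin 2 → V} {M N : Matrix (Fin 2) (Fin 2) F} (hg : Mat g w M)
    (hh : Mat h w N) : Mat (g * h : V ≃ₗ[F] V) w (M * N) := by
  intro j
  rw [LinearEquiv.mul_apply, hh j, map_comb, show (fun i => g (w i)) = comb M w from funext hg, comb_comb]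

theorem Mat.one (w : Fin 2 → V) : Mat (1 : V ≃ₗ[F] V) w (1 : Matrix (Fin 2) (Fin 2) F) := by
  intro j
  rw [comb_one]; rfl

theorem Mat.uniq {g : V → V} {w : Fin 2 → V} (hw : LinearIndependent F w) {M N : Matrix (Fin 2) (Fin 2) F}
    (h : Mat g w M) (h' : Mat g w N) : M = N := comb_inj hw (funext fun j => (h j).symm.trans (h' j))

theorem comb_mem (M : Matrix (Fin 2) (Fin 2) F) (w : Fin 2 → V) (j : Fin 2) :
    comb M w j ∈ Submodule.span F (Set.range w) := by
  unfold comb
  exact Submodule.sum_mem _ fun i _ => Submodule.smul_mem _ _ (Submodule.subset_span ⟨i, rfl⟩)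

theorem exists_comb {w x : Fin 2 → V} (hx : ∀ j, x j ∈ Submodule.span F (Set.range w)) :
    ∃ M : Matrix (Fin 2) (Fin 2) F, x = comb M w := by
  have h : ∀ j, ∃ c : Fin 2 → F, ∑ i, c i • w i = x j := fun j =>
    (Submodule.mem_span_range_iff_exists_fun F).1 (hx j)
  choose c hc using h
  refine ⟨Matrix.of fun i j => c j i, ?_⟩
  funext j
  rw [← hc]
  rfl

theorem mem_span_iff {w : Fin 2 → V} {x : V} :
    x ∈ Submodule.span F (Set.range w) ↔ ∃ a b : F, x = a • w 0 + b • w 1 := by
  rw [Submodule.mem_span_range_iff_exists_fun]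
  constructor
  · rintro ⟨c, hc⟩
    exact ⟨c 0, c 1, by rw [← hc, Fin.sum_univ_two]⟩
  · rintro ⟨a, b, rfl⟩
    exact ⟨![a, b], by rw [Fin.sum_univ_two]; rfl⟩

theorem det_ne_zero_of_li {w : Fin 2 → V} {M : Matrix (Fin 2) (Fin 2) F}
    (h : LinearIndependent F (comb M w)) : M.det ≠ 0 := by
  intro h0
  obtain ⟨v, hv0, hv⟩ := Matrix.exists_mulVec_eq_zero_iff.2 h0
  apply hv0
  funext j
  refine Fintype.linearIndependent_iff.1 h v ?_ j
  have h1 : ∑ j, v j • comb M w j = ∑ i, (M.mulVec v i) • w i := by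
    simp only [comb_apply, Matrix.mulVec, dotProduct, Fin.sum_univ_two]
    module
  rw [h1, hv]
  simp

theorem li_comb {w : Fin 2 → V} (hw : LinearIndependent F w) {M : Matrix (Fin 2) (Fin 2) F}
    (h : M.det ≠ 0) : LinearIndependent F (comb M w) := by
  rw [Fintype.linearIndependent_iff]
  intro v hv
  have h1 : ∑ j, v j • comb M w j = ∑ i, (M.mulVec v i) • w i := by
    simp only [comb_apply, Matrix.mulVec, dotProduct, Fin.sum_univ_two]
    module
  rw [h1] at hv
  have h2 : M.mulVec v = 0 := funext fun i => Fintype.linearIndependent_iff.1 hw _ hv i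
  by_contra hcon
  exact h (Matrix.exists_mulVec_eq_zero_iff.1 ⟨v, fun h0 => hcon fun i => by rw [h0]; rfl, h2⟩)

theorem span_comb {w : Fin 2 → V} {M : Matrix (Fin 2) (Fin 2) F} (h : M.det ≠ 0) :
    Submodule.span F (Set.range (comb M w)) = Submodule.span F (Set.range w) := by
  apply le_antisymm
  · rw [Submodule.span_le]
    rintro _ ⟨j, rfl⟩
    exact comb_mem M w j
  · rw [Submodule.span_le]
    rintro _ ⟨j, rfl⟩
    have h1 : comb M⁻¹ (comb M w) = w := by
      rw [comb_comb, Matrix.mul_nonsing_inv _ (isUnit_iff_ne_zero.2 h), comb_one]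
    have h2 := comb_mem M⁻¹ (comb M w) j
    rwa [h1] at h2

/-- `g` stabilises `W` with determinant `c`. -/
def Dt (g : V ≃ₗ[F] V) (W : Submodule F V) (c : F) : Prop :=
  ∃ (w : Fin 2 → V) (M : Matrix (Fin 2) (Fin 2) F), LinearIndependent F w ∧ Submodule.span F (Set.range w) = W ∧
    Mat g w M ∧ M.det = c

theorem Dt.det {g : V ≃ₗ[F] V} {W : Submodule F V} {c : F} (h : Dt g W c) {w : Fin 2 → V}
    (hw : LinearIndependent F w) (hW : Submodule.span F (Set.range w) = W) {M : Matrix (Fin 2) (Fin 2) F}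
    (hM : Mat g w M) : M.det = c := by
  obtain ⟨w', M', hw', hW', hM', rfl⟩ := h
  obtain ⟨K, hK⟩ := exists_comb (F := F) (w := w') (x := w) (fun j => by
    rw [hW', ← hW]; exact Submodule.subset_span ⟨j, rfl⟩)
  have hK0 : K.det ≠ 0 := det_ne_zero_of_li (w := w') (by rw [← hK]; exact hw)
  have h1 : M' * K = K * M := by
    apply comb_inj hw'
    rw [← comb_comb, ← comb_comb, ← hK]
    funext j
    rw [← hM j, show comb M' w' = fun i => g (w' i) from funext fun i => (hM' i).symm, ← map_comb, ← hK]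
  have h2 := congrArg Matrix.det h1
  rw [Matrix.det_mul, Matrix.det_mul, mul_comm] at h2
  exact (mul_left_cancel₀ hK0 h2).symm

theorem Dt.map {g h : V ≃ₗ[F] V} {W : Submodule F V} {c : F} (hg : Dt g W c) :
    Dt (h * g * h⁻¹) (W.map (h : V →ₗ[F] V)) c := by
  obtain ⟨w, M, hw, hW, hM, rfl⟩ := hg
  refine ⟨fun i => h (w i), M, ?_, ?_, ?_, rfl⟩
  · exact hw.map' (h : V →ₗ[F] V) (LinearEquiv.ker h)
  · rw [← hW, Submodule.map_span, ← Set.range_comp]; rfl
  · intro j
    show h (g (h⁻¹ (h (w j)))) = _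
    have h1 : h⁻¹ (h (w j)) = w j := h.symm_apply_apply _
    rw [h1, hM j, map_comb]

theorem Dt.mem {g : V ≃ₗ[F] V} {W : Submodule F V} {c : F} (h : Dt g W c) {x : V} (hx : x ∈ W) : g x ∈ W := by
  obtain ⟨w, M, hw, rfl, hM, rfl⟩ := h
  obtain ⟨a, b, rfl⟩ := mem_span_iff.1 hx
  rw [map_add, map_smul, map_smul, hM 0, hM 1]
  exact Submodule.add_mem _ (Submodule.smul_mem _ _ (comb_mem _ _ _)) (Submodule.smul_mem _ _ (comb_mem _ _ _))

end comb

section

variable {F : Type u} {V : Type v} [Field F] [AddCommGroup V] [Module F V]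

/-- `w 0, w 1; v 0, v 1` is a hyperbolic quadruple. -/
structure HP (B : LinearMap.BilinForm F V) (q : V → F) (w v : Fin 2 → V) : Prop where
  qw : ∀ i, q (w i) = 0
  qv : ∀ i, q (v i) = 0
  ww : ∀ i j, B (w i) (w j) = 0
  vv : ∀ i j, B (v i) (v j) = 0
  wv : ∀ i j, B (w i) (v j) = if i = j then 1 else 0

/-- A totally singular plane. -/
structure IsPl (B : LinearMap.BilinForm F V) (q : V → F) (W : Submodule F V) : Prop where
  fin : Module.finrank F W = 2
  q0 : ∀ x ∈ W, q x = 0
  B0 : ∀ x ∈ W, ∀ y ∈ W, B x y = 0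

/-- The frame. -/
structure PS (B : LinearMap.BilinForm F V) (q : V → F) (e : F) (E : Subgroup (V ≃ₗ[F] V)) : Prop where
  e2 : e * e = 1
  two : (2 : F) ≠ 0
  symm : ∀ x y, B y x = e * B x y
  nd : ∀ x, (∀ y, B x y = 0) → x = 0
  q_smul : ∀ (c : F) (x : V), q (c • x) = c * c * q x
  q_add : ∀ x y, B x y = 0 → q (x + y) = q x + q y
  q_fix : ∀ w x, q w = 0 → B w x = 1 → q (x - q x • w) = 0
  diag : ∀ x, e * B x x = 2 * q x
  isoB : ∀ g ∈ E, ∀ x y, B (g x) (g y) = B x y
  isoq : ∀ g ∈ E, ∀ x, q (g x) = q x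
  sg : ∀ u z, q u = 0 → B u z = 0 → ∃ g ∈ E, ∀ x, g x = x + B u x • z - (e * B z x) • u - (q z * B u x) • u
  tor : ∀ x y, q x = 0 → q y = 0 → B x y = 1 → ∀ d : F, d ≠ 0 → ∃ g ∈ E, g x = (d * d) • x ∧
    g y = (d * d)⁻¹ • y ∧ ∀ z, B x z = 0 → B y z = 0 → g z = z
  hyp : ∀ w v w' v' : Fin 2 → V, HP B q w v → HP B q w' v' → ∃ g ∈ E, (∀ i, g (w i) = w' i) ∧ ∀ i, g (v i) = v' i
  ex : ∃ w v : Fin 2 → V, HP B q w v
  big : (e = -1 ∧ ∀ x, q x = 0) ∨ (e = 1 ∧ 5 ≤ Module.finrank F V ∧ ∀ x y, q (x + y) = q x + q y + B x y)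
  cen : ∀ g : E, g ∈ Subgroup.center E → ∃ c : F, c * c = 1 ∧ ∀ x, (g : V ≃ₗ[F] V) x = c • x

variable {B : LinearMap.BilinForm F V} {q : V → F} {e : F} {E : Subgroup (V ≃ₗ[F] V)}

theorem HP.li {w v : Fin 2 → V} (h : HP B q w v) : LinearIndependent F w := by
  rw [Fintype.linearIndependent_iff]
  intro c hc j
  have h1 : B (∑ i, c i • w i) (v j) = c j := by
    rw [map_sum, LinearMap.sum_apply, Finset.sum_eq_single j]
    · rw [map_smul, LinearMap.smul_apply, h.wv, if_pos rfl, smul_eq_mul, mul_one]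
    · intro i _ hij
      rw [map_smul, LinearMap.smul_apply, h.wv, if_neg hij, smul_zero]
    · intro hj
      exact absurd (Finset.mem_univ j) hj
  rw [hc, map_zero, LinearMap.zero_apply] at h1
  exact h1.symm

section one

variable (h : PS B q e E)

include h

theorem PS.e0 : e ≠ 0 := by
  intro h0
  have := h.e2
  rw [h0, mul_zero] at this
  exact zero_ne_one this

theorem PS.symm0 {x y : V} (hxy : B x y = 0) : B y x = 0 := by rw [h.symm, hxy, mul_zero]

theorem PS.B_self (x : V) (hx : q x = 0) : B x x = 0 := by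
  have h1 := h.diag x
  rw [hx, mul_zero] at h1
  exact (mul_eq_zero.1 h1).resolve_left h.e0

theorem PS.q_zero : q 0 = 0 := by
  have h1 := h.q_smul 0 0
  rw [zero_smul] at h1
  rw [h1]; ring

theorem PS.isRefl : B.IsRefl := fun _ _ hxy => h.symm0 hxy

theorem PS.nondeg : B.Nondegenerate := ⟨fun x hx => h.nd x hx, fun x hx => h.nd x fun y => h.symm0 (hx y)⟩

theorem PS.isPl_span {w : Fin 2 → V} (hw : LinearIndependent F w) (h1 : ∀ i, q (w i) = 0)
    (h2 : ∀ i j, B (w i) (w j) = 0) : IsPl B q (Submodule.span F (Set.range w)) := by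
  refine ⟨by rw [finrank_span_eq_card hw]; rfl, ?_, ?_⟩
  · intro x hx
    obtain ⟨a, b, rfl⟩ := mem_span_iff.1 hx
    rw [h.q_add, h.q_smul, h.q_smul, h1, h1]
    · ring
    · simp [h2]
  · intro x hx y hy
    obtain ⟨a, b, rfl⟩ := mem_span_iff.1 hx
    obtain ⟨c, d, rfl⟩ := mem_span_iff.1 hy
    simp only [map_add, LinearMap.add_apply, map_smul, LinearMap.smul_apply, h2]
    simp

theorem HP.isPl {w v : Fin 2 → V} (hp : HP B q w v) : IsPl B q (Submodule.span F (Set.range w)) :=
  h.isPl_span hp.li hp.qw hp.ww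

theorem HP.swap {w v : Fin 2 → V} (hp : HP B q w v) : HP B q v (fun i => e • w i) := by
  refine ⟨hp.qv, fun i => by rw [h.q_smul, hp.qw, mul_zero], hp.vv, fun i j => by simp [hp.ww], fun i j => ?_⟩
  rw [map_smul, h.symm, smul_eq_mul, ← mul_assoc, h.e2, one_mul, hp.wv]
  by_cases hij : i = j
  · rw [if_pos hij, if_pos hij.symm]
  · rw [if_neg hij, if_neg fun h => hij h.symm]

theorem HP.comb {w v : Fin 2 → V} (hp : HP B q w v) {M N : Matrix (Fin 2) (Fin 2) F} (hMN : Mᵀ * N = 1) :
    HP B q (comb M w) (comb N v) := by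
  have hM : M.det ≠ 0 := by
    intro h0
    have := congrArg Matrix.det hMN
    rw [Matrix.det_mul, Matrix.det_transpose, h0, zero_mul, Matrix.det_one] at this
    exact zero_ne_one this
  have hW := HP.isPl h hp
  have hV := HP.isPl h (HP.swap h hp)
  refine ⟨fun i => hW.q0 _ (comb_mem _ _ _), fun i => hV.q0 _ (comb_mem _ _ _),
    fun i j => hW.B0 _ (comb_mem _ _ _) _ (comb_mem _ _ _),
    fun i j => hV.B0 _ (comb_mem _ _ _) _ (comb_mem _ _ _), fun i j => ?_⟩
  have h1 := congrFun (congrFun hMN i) j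
  rw [Matrix.mul_apply, Fin.sum_univ_two, Matrix.transpose_apply, Matrix.transpose_apply, Matrix.one_apply] at h1
  rw [← h1, comb_apply, comb_apply]
  simp only [map_add, LinearMap.add_apply, map_smul, LinearMap.smul_apply, hp.wv]
  simp
  ring

variable [FiniteDimensional F V]

/-- Separation of a vector from a subspace. -/
theorem PS.sep {x : V} {T : Submodule F V} (hx : x ∉ T) : ∃ y, (∀ t ∈ T, B t y = 0) ∧ B x y = 1 := by
  have h1 : x ∉ B.orthogonal (B.orthogonal T) := by
    rw [LinearMap.BilinForm.orthogonal_orthogonal h.nondeg h.isRefl]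
    exact hx
  rw [LinearMap.BilinForm.mem_orthogonal_iff] at h1
  push Not at h1
  obtain ⟨y, hy, hyx⟩ := h1
  have hyx' : B x y ≠ 0 := fun h0 => hyx (h.symm0 h0)
  refine ⟨(B x y)⁻¹ • y, fun t ht => ?_, ?_⟩
  · have h2 : B t y = 0 := (LinearMap.BilinForm.mem_orthogonal_iff.1 hy) t ht
    rw [map_smul, h2, smul_zero]
  · rw [map_smul, smul_eq_mul, inv_mul_cancel₀ hyx']

/-- Separation by a singular vector. -/
theorem PS.sepq {x : V} {T : Submodule F V} (hx : x ∉ T) (hq : q x = 0) (hT : ∀ t ∈ T, B t x = 0) :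
    ∃ y, (∀ t ∈ T, B t y = 0) ∧ B x y = 1 ∧ q y = 0 := by
  obtain ⟨y, hy, hxy⟩ := h.sep hx
  refine ⟨y - q y • x, fun t ht => ?_, ?_, h.q_fix x y hq hxy⟩
  · rw [map_sub, map_smul, hy t ht, hT t ht, smul_zero, sub_zero]
  · rw [map_sub, map_smul, hxy, h.B_self x hq, smul_zero, sub_zero]

/-- Completion to a hyperbolic quadruple, given the second pair. -/
theorem PS.complete2 {a b c : V} (ha : q a = 0) (hb : q b = 0) (hc : q c = 0) (hab : B a b = 0) (hbc : B b c = 0)
    (hac : B a c = 1) (hb0 : b ≠ 0) : ∃ d, HP B q ![a, b] ![c, d] := by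
  have haa := h.B_self a ha
  have hcc := h.B_self c hc
  have hbb := h.B_self b hb
  have hca : B c a = e := by rw [h.symm, hac, mul_one]
  have hx : b ∉ Submodule.span F (Set.range ![a, c]) := by
    rw [mem_span_iff]
    rintro ⟨x, y, hxy⟩
    simp only [Matrix.cons_val_zero, Matrix.cons_val_one] at hxy
    have h1 : B a b = y := by rw [hxy, map_add, map_smul, map_smul, haa, hac]; simp
    have h2 : B b c = x := by rw [hxy, map_add, LinearMap.add_apply, map_smul, map_smul, LinearMap.smul_apply,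
      LinearMap.smul_apply, hac, hcc]; simp
    rw [hab] at h1
    rw [hbc] at h2
    apply hb0
    rw [hxy, ← h1, ← h2]; simp
  obtain ⟨d, hd, hbd, hqd⟩ := h.sepq hx hb (by
    intro t ht
    obtain ⟨x, y, rfl⟩ := mem_span_iff.1 ht
    simp only [Matrix.cons_val_zero, Matrix.cons_val_one, map_add, map_smul, LinearMap.add_apply,
      LinearMap.smul_apply, hab, h.symm0 hbc]
    simp)
  have had : B a d = 0 := hd _ (Submodule.subset_span ⟨0, rfl⟩)
  have hcd : B c d = 0 := hd _ (Submodule.subset_span ⟨1, rfl⟩)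
  refine ⟨d, ?_, ?_, ?_, ?_, ?_⟩
  · intro i; fin_cases i <;> simpa
  · intro i; fin_cases i <;> simpa
  · intro i j; fin_cases i <;> fin_cases j <;> simp [haa, hab, hbb, h.symm0 hab]
  · intro i j; fin_cases i <;> fin_cases j <;> simp [hcc, hcd, h.symm0 hcd, h.B_self d hqd]
  · intro i j; fin_cases i <;> fin_cases j <;> simp [hac, had, hbc, hbd]

theorem PS.complete {w : Fin 2 → V} (hw : LinearIndependent F w) (h1 : ∀ i, q (w i) = 0)
    (h2 : ∀ i j, B (w i) (w j) = 0) : ∃ v, HP B q w v := by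
  have hx : w 0 ∉ Submodule.span F {w 1} := by
    intro hx
    obtain ⟨c, hc⟩ := Submodule.mem_span_singleton.1 hx
    have h3 := Fintype.linearIndependent_iff.1 hw ![1, -c] (by
      rw [Fin.sum_univ_two, ← hc]; simp) 0
    simp at h3
  obtain ⟨c, hc, hac, hqc⟩ := h.sepq hx (h1 0) (by
    intro t ht
    obtain ⟨x, rfl⟩ := Submodule.mem_span_singleton.1 ht
    rw [map_smul, LinearMap.smul_apply, h2, smul_zero])
  obtain ⟨d, hd⟩ := h.complete2 (h1 0) (h1 1) hqc (h2 0 1) (hc _ (Submodule.mem_span_singleton_self _)) hac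
    (hw.ne_zero 1)
  refine ⟨![c, d], ?_⟩
  have h3 : ![w 0, w 1] = w := by
    funext i; fin_cases i <;> rfl
  rwa [h3] at hd

end one

theorem IsPl.basis {W : Submodule F V} (hW : IsPl B q W) :
    ∃ w : Fin 2 → V, LinearIndependent F w ∧ Submodule.span F (Set.range w) = W := by
  have hfin : FiniteDimensional F W := FiniteDimensional.of_finrank_pos (by rw [hW.fin]; norm_num)
  let b := Module.finBasisOfFinrankEq F W hW.fin
  refine ⟨fun i => (b i : V), b.linearIndependent.map' W.subtype (Submodule.ker_subtype W), ?_⟩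
  have h1 := congrArg (Submodule.map W.subtype) b.span_eq
  rw [Submodule.map_span, ← Set.range_comp, Submodule.map_top, Submodule.range_subtype] at h1
  exact h1

/-- A basis of a plane starting with a given vector. -/
theorem IsPl.basis_cons {W : Submodule F V} (hW : IsPl B q W) {x : V} (hx : x ∈ W) (hx0 : x ≠ 0) {y : V} (hy : y ∈ W)
    (hyx : y ∉ Submodule.span F {x}) :
    LinearIndependent F ![x, y] ∧ Submodule.span F (Set.range ![x, y]) = W := by
  have hli : LinearIndependent F ![x, y] := by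
    rw [LinearIndependent.pair_iff]
    intro s t hst
    have ht : t = 0 := by
      by_contra ht
      apply hyx
      rw [Submodule.mem_span_singleton]
      refine ⟨-(t⁻¹ * s), ?_⟩
      have h1 : t • y = -(s • x) := by rw [← add_eq_zero_iff_eq_neg']; exact hst
      rw [neg_smul, mul_smul, ← smul_neg, ← h1, smul_smul, inv_mul_cancel₀ ht, one_smul]
    rw [ht, zero_smul, add_zero] at hst
    exact ⟨(smul_eq_zero.1 hst).resolve_right hx0, ht⟩
  refine ⟨hli, ?_⟩
  have hfin : FiniteDimensional F W := FiniteDimensional.of_finrank_pos (by rw [hW.fin]; norm_num)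
  apply Submodule.eq_of_le_of_finrank_eq
  · rw [Submodule.span_le]
    rintro _ ⟨i, rfl⟩
    fin_cases i
    · exact hx
    · exact hy
  · rw [finrank_span_eq_card hli, hW.fin]; rfl

theorem IsPl.exists_not_mem {W : Submodule F V} (hW : IsPl B q W) (x : V) : ∃ y ∈ W, y ∉ Submodule.span F {x} := by
  by_contra hcon
  push Not at hcon
  have h1 : W ≤ Submodule.span F {x} := hcon
  have h2 := Submodule.finrank_mono h1
  have h3 : Module.finrank F (Submodule.span F {x}) ≤ 1 := by
    have := finrank_span_le_card (R := F) ({x} : Set V)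
    simpa using this
  have := hW.fin
  omega

theorem IsPl.eq_of_le {W W' : Submodule F V} (hW : IsPl B q W) (hW' : IsPl B q W') (h : W ≤ W') : W = W' := by
  have hfin : FiniteDimensional F W' := FiniteDimensional.of_finrank_pos (by rw [hW'.fin]; norm_num)
  exact Submodule.eq_of_le_of_finrank_eq h (hW.fin.trans hW'.fin.symm)

theorem IsPl.ne_zero {W : Submodule F V} (hW : IsPl B q W) : ∃ x ∈ W, x ≠ 0 := by
  obtain ⟨y, hy, hy0⟩ := hW.exists_not_mem 0
  exact ⟨y, hy, fun h => hy0 (by rw [h]; exact Submodule.zero_mem _)⟩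

end

end Cfsg.Agent.H877.Pol
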