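import Cfsg.Agent.H877.PolA

/-!
# Polar spaces with a group: pairs of planes (helper877)

* `PS.opp_basis` : opposite planes have dual bases;
* `PS.wit` : elements with different determinants on two different planes;
* `PS.trans` : for different non-opposite planes `W, W'` there is a transvection group on `W`, trivial on `W'`;
* `PS.uniq` : `W` is the only plane fixed by the transformations `sg u z`, `u ∈ W`, `z ∈ Wᗮ`.
-/

set_option autoImplicit false

namespace Cfsg.Agent.H877.Pol

open Matrix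

universe u v

variable {F : Type u} {V : Type v} [Field F] [AddCommGroup V] [Module F V]
  {B : LinearMap.BilinForm F V} {q : V → F} {e : F} {E : Subgroup (V ≃ₗ[F] V)}

/-- `W'` is opposite to `W`. -/
def Opp (B : LinearMap.BilinForm F V) (W W' : Submodule F V) : Prop := ∀ u ∈ W, (∀ x ∈ W', B u x = 0) → u = 0

variable (h : PS B q e E)

include h

theorem PS.opp_basis {W W' : Submodule F V} (hW : IsPl B q W) (hW' : IsPl B q W') (ho : Opp B W W') :
    ∃ w v : Fin 2 → V, HP B q w v ∧ Submodule.span F (Set.range w) = W ∧ Submodule.span F (Set.range v) = W' := by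
  obtain ⟨w, hw, hwW⟩ := hW.basis
  obtain ⟨v, hv, hvW⟩ := hW'.basis
  have mw : ∀ i, w i ∈ W := fun i => by rw [← hwW]; exact Submodule.subset_span ⟨i, rfl⟩
  have mv : ∀ i, v i ∈ W' := fun i => by rw [← hvW]; exact Submodule.subset_span ⟨i, rfl⟩
  obtain ⟨G, hG⟩ : ∃ G : Matrix (Fin 2) (Fin 2) F, ∀ i j, G i j = B (w i) (v j) := ⟨Matrix.of fun i j => B (w i) (v j),
    fun _ _ => rfl⟩
  have hG0 : G.det ≠ 0 := by
    intro h0
    obtain ⟨c, hc0, hc⟩ := Matrix.exists_vecMul_eq_zero_iff.2 h0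
    apply hc0
    have h1 : ∑ i, c i • w i = 0 := by
      apply ho
      · exact Submodule.sum_mem _ fun i _ => Submodule.smul_mem _ _ (mw i)
      · intro x hx
        rw [← hvW] at hx
        obtain ⟨a, b, rfl⟩ := mem_span_iff.1 hx
        have h2 : ∀ j, B (∑ i, c i • w i) (v j) = 0 := by
          intro j
          have h3 := congrFun hc j
          rw [Matrix.vecMul, dotProduct] at h3
          rw [map_sum, LinearMap.sum_apply]
          rw [← show (0 : Fin 2 → F) j = 0 from rfl, ← h3]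
          refine Finset.sum_congr rfl fun i _ => ?_
          rw [map_smul, LinearMap.smul_apply, hG]; rfl
        rw [map_add, map_smul, map_smul, h2, h2]; simp
    funext i
    exact Fintype.linearIndependent_iff.1 hw c h1 i
  have hGi : (G⁻¹).det ≠ 0 := by
    rw [Matrix.det_nonsing_inv, Ring.inverse_eq_inv']
    exact inv_ne_zero hG0
  refine ⟨w, comb G⁻¹ v, ⟨fun i => hW.q0 _ (mw i), fun i => hW'.q0 _ ?_, fun i j => hW.B0 _ (mw i) _ (mw j),
    fun i j => hW'.B0 _ ?_ _ ?_, fun i j => ?_⟩, hwW, by rw [span_comb hGi, hvW]⟩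
  · rw [← hvW]; exact comb_mem _ _ _
  · rw [← hvW]; exact comb_mem _ _ _
  · rw [← hvW]; exact comb_mem _ _ _
  · have h1 : G * G⁻¹ = 1 := Matrix.mul_nonsing_inv _ (isUnit_iff_ne_zero.2 hG0)
    have h2 := congrFun (congrFun h1 i) j
    rw [Matrix.mul_apply, Fin.sum_univ_two, Matrix.one_apply] at h2
    rw [← h2, comb_apply, map_add, map_smul, map_smul, hG, hG, smul_eq_mul, smul_eq_mul]
    ring

omit h in
theorem diag_mul {d : F} (hd : d ≠ 0) : (!![d, 0; 0, 1] : Matrix (Fin 2) (Fin 2) F)ᵀ * !![d⁻¹, 0; 0, 1] = 1 := by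
  ext i j
  fin_cases i <;> fin_cases j <;> simp [Matrix.mul_apply, Fin.sum_univ_two, hd]

theorem PS.hyp_diag {w v : Fin 2 → V} (hp : HP B q w v) {d : F} (hd : d ≠ 0) :
    ∃ t ∈ E, t (w 0) = d • w 0 ∧ t (w 1) = w 1 ∧ t (v 0) = d⁻¹ • v 0 ∧ t (v 1) = v 1 := by
  obtain ⟨t, ht, h1, h2⟩ := h.hyp _ _ _ _ hp (HP.comb h hp (diag_mul hd))
  refine ⟨t, ht, ?_, ?_, ?_, ?_⟩
  · rw [h1, comb_apply]; simp
  · rw [h1, comb_apply]; simp
  · rw [h2, comb_apply]; simp
  · rw [h2, comb_apply]; simp

omit h in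
theorem Dt.mk2 {g : V ≃ₗ[F] V} {x y : V} (hli : LinearIndependent F ![x, y]) {d : F} (hx : g x = d • x)
    (hy : g y = y) : Dt g (Submodule.span F (Set.range ![x, y])) d := by
  refine ⟨![x, y], !![d, 0; 0, 1], hli, rfl, ?_, ?_⟩
  · intro j
    fin_cases j
    · show g x = comb !![d, 0; 0, 1] ![x, y] 0
      rw [comb_apply, hx]; simp
    · show g y = comb !![d, 0; 0, 1] ![x, y] 1
      rw [comb_apply, hy]; simp
  · rw [Matrix.det_fin_two_of]; ring

omit h in
theorem Dt.of_fix {g : V ≃ₗ[F] V} {W : Submodule F V} (hW : IsPl B q W) (hg : ∀ x ∈ W, g x = x) : Dt g W 1 := by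
  obtain ⟨w, hw, hwW⟩ := hW.basis
  refine ⟨w, 1, hw, hwW, fun j => ?_, Matrix.det_one⟩
  rw [comb_one]
  exact hg _ (by rw [← hwW]; exact Submodule.subset_span ⟨j, rfl⟩)

omit h in
theorem fin2_eta (w : Fin 2 → V) : ![w 0, w 1] = w := by
  funext i; fin_cases i <;> rfl

variable [FiniteDimensional F V]

/-- **Witnesses.** -/
theorem PS.wit {W W' : Submodule F V} (hW : IsPl B q W) (hW' : IsPl B q W') (hne : W ≠ W') :
    (∀ d : F, d ≠ 0 → ∃ t ∈ E, Dt t W d ∧ Dt t W' d⁻¹) ∨
      ∀ d : F, d ≠ 0 → ∃ t ∈ E, Dt t W (d * d) ∧ Dt t W' 1 := by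
  by_cases hB1 : ∃ u ∈ W, u ∉ W' ∧ ∀ x ∈ W', B u x = 0
  · -- a vector of `W` perpendicular to `W'`, not in `W'`
    obtain ⟨u, huW, huW', hu⟩ := hB1
    right
    intro d hd
    have hu0 : u ≠ 0 := fun h0 => huW' (by rw [h0]; exact W'.zero_mem)
    obtain ⟨w, hwW, hwu, huw⟩ : ∃ w ∈ W, w ∉ Submodule.span F {u} ∧ u ∉ Submodule.span F {w} ⊔ W' := by
      by_cases hint : ∃ w ∈ W, w ∈ W' ∧ w ≠ 0
      · obtain ⟨w, hwW, hwW', hw0⟩ := hint
        refine ⟨w, hwW, fun hw => ?_, fun hu' => huW' ?_⟩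
        · obtain ⟨c, hc⟩ := Submodule.mem_span_singleton.1 hw
          have hc0 : c ≠ 0 := by
            rintro rfl
            exact hw0 (by rw [← hc, zero_smul])
          apply huW'
          have : u = c⁻¹ • w := by rw [← hc, smul_smul, inv_mul_cancel₀ hc0, one_smul]
          rw [this]
          exact W'.smul_mem _ hwW'
        · have : Submodule.span F {w} ≤ W' := by rwa [Submodule.span_singleton_le_iff_mem]
          rwa [sup_eq_right.2 this] at hu'
      · push Not at hint
        obtain ⟨w, hwW, hwu⟩ := hW.exists_not_mem u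
        refine ⟨w, hwW, hwu, fun hu' => ?_⟩
        obtain ⟨y, hy, x, hx, hxy⟩ := Submodule.mem_sup.1 hu'
        obtain ⟨c, rfl⟩ := Submodule.mem_span_singleton.1 hy
        have hx1 : x = u - c • w := by rw [← hxy]; abel
        have hx0 : x = 0 := hint x (by rw [hx1]; exact W.sub_mem huW (W.smul_mem _ hwW)) hx
        rw [hx0, add_zero] at hxy
        have hc0 : c ≠ 0 := by
          rintro rfl
          exact hu0 (by rw [← hxy, zero_smul])
        apply hwu
        rw [Submodule.mem_span_singleton]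
        exact ⟨c⁻¹, by rw [← hxy, smul_smul, inv_mul_cancel₀ hc0, one_smul]⟩
    have huwB : B u w = 0 := hW.B0 _ huW _ hwW
    obtain ⟨y, hy, huy, hqy⟩ := h.sepq huw (hW.q0 _ huW) (by
      intro t ht
      obtain ⟨a, ha, x, hx, rfl⟩ := Submodule.mem_sup.1 ht
      obtain ⟨c, rfl⟩ := Submodule.mem_span_singleton.1 ha
      rw [map_add, LinearMap.add_apply, map_smul, LinearMap.smul_apply, h.symm0 huwB, h.symm0 (hu x hx)]
      simp)
    have hyw : B y w = 0 := h.symm0 (hy w (Submodule.mem_sup_left (Submodule.mem_span_singleton_self w)))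
    obtain ⟨g, hg, hgu, -, hgz⟩ := h.tor u y (hW.q0 _ huW) hqy huy d hd
    obtain ⟨hli, hsp⟩ := hW.basis_cons huW hu0 hwW hwu
    refine ⟨g, hg, ?_, ?_⟩
    · rw [← hsp]
      exact Dt.mk2 hli hgu (hgz w huwB hyw)
    · exact Dt.of_fix hW' fun x hx => hgz x (hu x hx) (h.symm0 (hy x (Submodule.mem_sup_right hx)))
  · push Not at hB1
    left
    intro d hd
    by_cases hint : ∃ u ∈ W, u ∈ W' ∧ u ≠ 0
    · obtain ⟨u, huW, huW', hu0⟩ := hint
      obtain ⟨w, hwW, hwu⟩ := hW.exists_not_mem u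
      obtain ⟨x, hxW', hxu⟩ := hW'.exists_not_mem u
      obtain ⟨hli', hsp'⟩ := hW'.basis_cons huW' hu0 hxW' hxu
      obtain ⟨hli, hsp⟩ := hW.basis_cons huW hu0 hwW hwu
      have hwx : B w x ≠ 0 := by
        intro h0
        apply hne
        apply hW.eq_of_le hW'
        have hwW' : w ∈ W' := by
          by_contra hcon
          obtain ⟨y, hy, hy'⟩ := hB1 w hwW hcon
          apply hy'
          rw [← hsp'] at hy
          obtain ⟨a, b, rfl⟩ := mem_span_iff.1 hy
          simp only [Matrix.cons_val_zero, Matrix.cons_val_one, map_add, map_smul, h0, hW.B0 _ hwW _ huW]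
          simp
        rw [← hsp, Submodule.span_le]
        rintro _ ⟨i, rfl⟩
        fin_cases i
        · exact huW'
        · exact hwW'
      obtain ⟨x', hx', hx'0, hx'u⟩ : ∃ x' ∈ W', B w x' = 1 ∧ x' ∉ Submodule.span F {u} := by
        refine ⟨(B w x)⁻¹ • x, W'.smul_mem _ hxW', by rw [map_smul, smul_eq_mul, inv_mul_cancel₀ hwx], fun hcon => ?_⟩
        apply hxu
        have := Submodule.smul_mem _ (B w x) hcon
        rwa [smul_smul, mul_inv_cancel₀ hwx, one_smul] at this
      obtain ⟨z, hz⟩ := h.complete2 (hW.q0 _ hwW) (hW.q0 _ huW) (hW'.q0 _ hx') (hW.B0 _ hwW _ huW)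
        (hW'.B0 _ huW' _ hx') hx'0 hu0
      obtain ⟨t, ht, h1, h2, h3, h4⟩ := h.hyp_diag hz hd
      simp only [Matrix.cons_val_zero, Matrix.cons_val_one] at h1 h2 h3 h4
      have hx'00 : x' ≠ 0 := fun h0 => hx'u (by rw [h0]; exact Submodule.zero_mem _)
      have hw00 : w ≠ 0 := fun h0 => hwu (by rw [h0]; exact Submodule.zero_mem _)
      have hux' : u ∉ Submodule.span F {x'} := by
        intro hcon
        obtain ⟨c, hc⟩ := Submodule.mem_span_singleton.1 hcon
        have hc0 : c ≠ 0 := by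
          rintro rfl
          exact hu0 (by rw [← hc, zero_smul])
        apply hx'u
        rw [Submodule.mem_span_singleton]
        exact ⟨c⁻¹, by rw [← hc, smul_smul, inv_mul_cancel₀ hc0, one_smul]⟩
      have huw' : u ∉ Submodule.span F {w} := by
        intro hcon
        obtain ⟨c, hc⟩ := Submodule.mem_span_singleton.1 hcon
        have hc0 : c ≠ 0 := by
          rintro rfl
          exact hu0 (by rw [← hc, zero_smul])
        apply hwu
        rw [Submodule.mem_span_singleton]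
        exact ⟨c⁻¹, by rw [← hc, smul_smul, inv_mul_cancel₀ hc0, one_smul]⟩
      obtain ⟨hl1, hs1⟩ := hW.basis_cons hwW hw00 huW huw'
      obtain ⟨hl2, hs2⟩ := hW'.basis_cons hx' hx'00 huW' hux'
      refine ⟨t, ht, ?_, ?_⟩
      · rw [← hs1]
        exact Dt.mk2 hl1 h1 h2
      · rw [← hs2]
        exact Dt.mk2 hl2 h3 h2
    · push Not at hint
      have ho : Opp B W W' := by
        intro u hu hux
        by_contra hu0
        by_cases huW' : u ∈ W'
        · exact hu0 (hint u hu huW')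
        · obtain ⟨x, hx, hx'⟩ := hB1 u hu huW'
          exact hx' (hux x hx)
      obtain ⟨w, v, hp, hs1, hs2⟩ := h.opp_basis hW hW' ho
      obtain ⟨t, ht, h1, h2, h3, h4⟩ := h.hyp_diag hp hd
      have hl1 : LinearIndependent F ![w 0, w 1] := by rw [fin2_eta]; exact hp.li
      have hl2 : LinearIndependent F ![v 0, v 1] := by rw [fin2_eta]; exact (HP.swap h hp).li
      refine ⟨t, ht, ?_, ?_⟩
      · rw [← hs1, ← fin2_eta w]
        exact Dt.mk2 hl1 h1 h2
      · rw [← hs2, ← fin2_eta v]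
        exact Dt.mk2 hl2 h3 h4

/-- **Transvections.** -/
theorem PS.trans {W W' : Submodule F V} (hW : IsPl B q W) (hW' : IsPl B q W') (hne : W ≠ W') (hno : ¬ Opp B W W') :
    ∃ (w : Fin 2 → V) (X : F → V ≃ₗ[F] V), LinearIndependent F w ∧ Submodule.span F (Set.range w) = W ∧
      (∀ c, X c ∈ E) ∧ (∀ a b, X (a + b) = X a * X b) ∧ (∀ c, Mat (X c) w !![1, c; 0, 1]) ∧
      ∀ c, ∀ x ∈ W', X c x = x := by
  obtain ⟨u, w, huW, hwW, hu0, hwu, hwW', hu⟩ : ∃ u w, u ∈ W ∧ w ∈ W ∧ u ≠ 0 ∧ w ∉ Submodule.span F {u} ∧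
      w ∉ Submodule.span F {u} ⊔ W' ∧ ∀ x ∈ W', B u x = 0 := by
    by_cases hint : ∃ u ∈ W, u ∈ W' ∧ u ≠ 0
    · obtain ⟨u, huW, huW', hu0⟩ := hint
      obtain ⟨w, hwW, hwW'⟩ : ∃ w ∈ W, w ∉ W' := by
        by_contra hcon
        push Not at hcon
        exact hne (hW.eq_of_le hW' hcon)
      have hle : Submodule.span F {u} ≤ W' := by rwa [Submodule.span_singleton_le_iff_mem]
      refine ⟨u, w, huW, hwW, hu0, fun hc => hwW' (hle hc), ?_, fun x hx => hW'.B0 _ huW' _ hx⟩
      rwa [sup_eq_right.2 hle]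
    · push Not at hint
      unfold Opp at hno
      push Not at hno
      obtain ⟨u, huW, hu, hu0⟩ := hno
      obtain ⟨w, hwW, hwu⟩ := hW.exists_not_mem u
      refine ⟨u, w, huW, hwW, hu0, hwu, fun hw' => ?_, hu⟩
      obtain ⟨y, hy, x, hx, hxy⟩ := Submodule.mem_sup.1 hw'
      obtain ⟨c, rfl⟩ := Submodule.mem_span_singleton.1 hy
      have hx1 : x = w - c • u := by rw [← hxy]; abel
      have hx0 : x = 0 := hint x (by rw [hx1]; exact W.sub_mem hwW (W.smul_mem _ huW)) hx
      rw [hx0, add_zero] at hxy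
      exact hwu (Submodule.mem_span_singleton.2 ⟨c, hxy⟩)
  obtain ⟨y, hy, hwy⟩ := h.sep hwW'
  have hqu := hW.q0 _ huW
  have huy : B u y = 0 := hy u (Submodule.mem_sup_left (Submodule.mem_span_singleton_self u))
  have huu := h.B_self u hqu
  have huw := hW.B0 _ huW _ hwW
  have hsg : ∀ c : F, ∃ g ∈ E, ∀ x, g x = x + B u x • (c • y) - (e * B (c • y) x) • u - (q (c • y) * B u x) • u :=
    fun c => h.sg u (c • y) hqu (by rw [map_smul, huy, smul_zero])
  choose X hXE hX using hsg
  have hX' : ∀ c x, X c x = x + (B u x * c) • y - (e * c * B y x + c * c * q y * B u x) • u := by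
    intro c x
    rw [hX, map_smul, LinearMap.smul_apply, h.q_smul, smul_smul, smul_eq_mul]
    module
  obtain ⟨hli, hsp⟩ := hW.basis_cons (x := -u) (W.neg_mem huW) (neg_ne_zero.2 hu0) hwW (by
    rw [Submodule.mem_span_singleton] at hwu ⊢
    rintro ⟨c, hc⟩
    exact hwu ⟨-c, by rw [← hc]; simp⟩)
  refine ⟨![-u, w], X, hli, hsp, hXE, ?_, ?_, ?_⟩
  · intro a b
    ext x
    rw [LinearEquiv.mul_apply, hX', hX', hX']
    have h1 : B u (x + (B u x * b) • y - (e * b * B y x + b * b * q y * B u x) • u) = B u x := by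
      simp [huy, huu]
    have h2 : B y (x + (B u x * b) • y - (e * b * B y x + b * b * q y * B u x) • u) =
        B y x + B u x * b * B y y := by
      simp [h.symm0 huy]
    rw [h1, h2]
    have h3 := h.diag y
    have h4 : e * (a + b) * B y x + (a + b) * (a + b) * q y * B u x =
        (e * b * B y x + b * b * q y * B u x) + (e * a * (B y x + B u x * b * B y y) + a * a * q y * B u x) := by
      linear_combination (-a * b * B u x) * h3
    rw [h4]
    module
  · intro c j
    fin_cases j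
    · show X c (-u) = comb !![1, c; 0, 1] ![-u, w] 0
      rw [comb_apply, hX']
      simp [huu, h.symm0 huy]
    · show X c w = comb !![1, c; 0, 1] ![-u, w] 1
      rw [comb_apply, hX', huw]
      have h5 : B y w = e := by rw [h.symm, hwy, mul_one]
      have h6 : e * c * e = c := by linear_combination c * h.e2
      simp [h5, h6]
      abel
  · intro c x hx
    rw [hX', hu x hx, h.symm0 (hy x (Submodule.mem_sup_right hx))]
    simp

/-- Vectors outside the perpendicular. -/
theorem PS.exists_perp {W : Submodule F V} (hW : IsPl B q W) (he : e = 1) :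
    ∃ z z' : V, (∀ u ∈ W, B u z = 0) ∧ (∀ u ∈ W, B u z' = 0) ∧ B z z' = 1 := by
  rcases h.big with ⟨h1, -⟩ | ⟨-, h5, -⟩
  · exfalso
    apply h.two
    rw [he] at h1
    linear_combination h1
  · have h1 := LinearMap.BilinForm.finrank_orthogonal h.nondeg W
    have h2 : ∃ z ∈ B.orthogonal W, z ∉ W := by
      by_contra hcon
      push Not at hcon
      have h3 := Submodule.finrank_mono (show B.orthogonal W ≤ W from hcon)
      rw [h1, hW.fin] at h3
      omega
    obtain ⟨z, hz, hzW⟩ := h2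
    obtain ⟨z', hz', hzz⟩ := h.sep hzW
    exact ⟨z, z', fun u hu => LinearMap.BilinForm.mem_orthogonal_iff.1 hz u hu, hz', hzz⟩

/-- **Uniqueness of the fixed plane.** -/
theorem PS.uniq {W W' : Submodule F V} (hW : IsPl B q W) (hW' : IsPl B q W')
    (hf : ∀ u ∈ W, ∀ z, (∀ t ∈ W, B t z = 0) → ∀ x ∈ W',
      x + B u x • z - (e * B z x) • u - (q z * B u x) • u ∈ W') : W' = W := by
  -- `W'` is perpendicular to `W`
  have hperp : ∀ u ∈ W, ∀ x ∈ W', B u x = 0 := by
    intro u hu x hx
    by_contra hux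
    obtain ⟨x', hx', hux'⟩ : ∃ x' ∈ W', B u x' = 1 :=
      ⟨(B u x)⁻¹ • x, W'.smul_mem _ hx, by rw [map_smul, smul_eq_mul, inv_mul_cancel₀ hux]⟩
    have hf' : ∀ z, (∀ t ∈ W, B t z = 0) → z - (e * B z x' + q z) • u ∈ W' := by
      intro z hz
      have h1 := W'.sub_mem (hf u hu z hz x' hx') hx'
      rw [hux'] at h1
      convert h1 using 1
      module
    have huW' : u ∉ W' := by
      intro h1
      have := hW'.B0 _ h1 _ hx'
      rw [hux'] at this
      exact one_ne_zero this
    rcases h.big with ⟨he, hq⟩ | ⟨he, -, hpol⟩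
    · have h1 := hf' u (fun t ht => hW.B0 _ ht _ hu)
      rw [hux', hq, he] at h1
      have h2 : u - (-1 * 1 + 0 : F) • u = (2 : F) • u := by module
      rw [h2] at h1
      have h3 := W'.smul_mem (2 : F)⁻¹ h1
      rw [smul_smul, inv_mul_cancel₀ h.two, one_smul] at h3
      exact huW' h3
    · obtain ⟨z, z', hz, hz', hzz⟩ := h.exists_perp hW he
      have h1 := hf' z hz
      have h2 := hf' z' hz'
      have h3 := hf' (z + z') (fun t ht => by rw [map_add, hz t ht, hz' t ht, add_zero])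
      have h4 := W'.sub_mem (W'.sub_mem h3 h1) h2
      rw [hpol, hzz, map_add, LinearMap.add_apply] at h4
      have h5 : z + z' - (e * (B z x' + B z' x') + (q z + q z' + 1)) • u - (z - (e * B z x' + q z) • u) -
          (z' - (e * B z' x' + q z') • u) = -u := by module
      rw [h5] at h4
      exact huW' (by simpa using W'.neg_mem h4)
  by_contra hne
  obtain ⟨x, hx, hxW⟩ : ∃ x ∈ W', x ∉ W := by
    by_contra hcon
    push Not at hcon
    exact hne (hW'.eq_of_le hW hcon)
  obtain ⟨z, hz, hxz⟩ := h.sep hxW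
  apply hne
  symm
  apply hW.eq_of_le hW'
  intro u hu
  have h1 := W'.sub_mem (hf u hu z hz x hx) hx
  have hzx : B z x = e := by rw [h.symm, hxz, mul_one]
  rw [hperp u hu x hx, hzx, h.e2] at h1
  have h2 : x + (0 : F) • z - (1 : F) • u - (q z * 0) • u - x = -u := by module
  rw [h2] at h1
  simpa using W'.neg_mem h1

end Cfsg.Agent.H877.Pol
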