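import Cfsg.Agent.H877.PolB

/-!
# Polar spaces with a group: the number of planes (helper877)

* `Pl B q` : the totally singular planes; `PS.act` : the action of `E`;
* `stE E W` : the stabiliser of `W` in `E`;
* `PS.not_dvd_index` : the index of `stE E W` is prime to the characteristic;
* `exists_lift_hom` : homomorphisms of subgroups of a quotient.
-/

set_option autoImplicit false

namespace Cfsg.Agent.H877.Pol

open Matrix

universe u v

variable {F : Type u} {V : Type v} [Field F] [AddCommGroup V] [Module F V]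
  {B : LinearMap.BilinForm F V} {q : V → F} {e : F} {E : Subgroup (V ≃ₗ[F] V)}

/-- The totally singular planes. -/
def Pl (B : LinearMap.BilinForm F V) (q : V → F) : Type v := {W : Submodule F V // IsPl B q W}

theorem map_mul_sub (g h : V ≃ₗ[F] V) (W : Submodule F V) :
    W.map ((g * h : V ≃ₗ[F] V) : V →ₗ[F] V) = (W.map (h : V →ₗ[F] V)).map (g : V →ₗ[F] V) := by
  rw [← Submodule.map_comp]; rfl

theorem map_one_sub (W : Submodule F V) : W.map ((1 : V ≃ₗ[F] V) : V →ₗ[F] V) = W := by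
  have : ((1 : V ≃ₗ[F] V) : V →ₗ[F] V) = LinearMap.id := rfl
  rw [this, Submodule.map_id]

theorem PS.isPl_map (h : PS B q e E) {W : Submodule F V} (hW : IsPl B q W) {g : V ≃ₗ[F] V} (hg : g ∈ E) :
    IsPl B q (W.map (g : V →ₗ[F] V)) := by
  refine ⟨by rw [← hW.fin]; exact LinearEquiv.finrank_map_eq g W, ?_, ?_⟩
  · rintro _ ⟨x, hx, rfl⟩
    exact (h.isoq g hg x).trans (hW.q0 x hx)
  · rintro _ ⟨x, hx, rfl⟩ _ ⟨y, hy, rfl⟩
    exact (h.isoB g hg x y).trans (hW.B0 x hx y hy)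

/-- The action of `E` on the planes. -/
@[reducible] def PS.act (h : PS B q e E) : MulAction E (Pl B q) where
  smul g W := ⟨W.1.map ((g : V ≃ₗ[F] V) : V →ₗ[F] V), h.isPl_map W.2 g.2⟩
  one_smul W := Subtype.ext (map_one_sub W.1)
  mul_smul g k W := Subtype.ext (map_mul_sub g.1 k.1 W.1)

/-- The stabiliser of `W`. -/
def stE (E : Subgroup (V ≃ₗ[F] V)) (W : Submodule F V) : Subgroup E where
  carrier := {g | W.map ((g : V ≃ₗ[F] V) : V →ₗ[F] V) = W}
  one_mem' := map_one_sub W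
  mul_mem' {g k} hg hk := by
    show W.map ((g.1 * k.1 : V ≃ₗ[F] V) : V →ₗ[F] V) = W
    rw [map_mul_sub, show W.map (k.1 : V →ₗ[F] V) = W from hk]
    exact hg
  inv_mem' {g} hg := by
    show W.map ((g.1⁻¹ : V ≃ₗ[F] V) : V →ₗ[F] V) = W
    conv_lhs => rw [← show W.map (g.1 : V →ₗ[F] V) = W from hg]
    rw [← map_mul_sub, inv_mul_cancel, map_one_sub]

theorem mem_stE {W : Submodule F V} {g : E} : g ∈ stE E W ↔ W.map ((g : V ≃ₗ[F] V) : V →ₗ[F] V) = W := Iff.rfl

theorem mem_stE' [FiniteDimensional F V] {W : Submodule F V} {g : E} :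
    g ∈ stE E W ↔ ∀ x ∈ W, (g : V ≃ₗ[F] V) x ∈ W := by
  rw [mem_stE]
  constructor
  · intro h x hx
    have : (g : V ≃ₗ[F] V) x ∈ W.map ((g : V ≃ₗ[F] V) : V →ₗ[F] V) := ⟨x, hx, rfl⟩
    rwa [h] at this
  · intro h
    apply Submodule.eq_of_le_of_finrank_eq
    · rintro _ ⟨x, hx, rfl⟩
      exact h x hx
    · exact LinearEquiv.finrank_map_eq (g : V ≃ₗ[F] V) W

/-- The centre stabilises everything. -/
theorem PS.center_le (h : PS B q e E) [FiniteDimensional F V] (W : Submodule F V) :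
    Subgroup.center E ≤ stE E W := by
  intro g hg
  obtain ⟨c, -, hc⟩ := h.cen g hg
  rw [mem_stE']
  intro x hx
  rw [hc]
  exact W.smul_mem _ hx

/-- The unipotent group of `W`. -/
def QW (B : LinearMap.BilinForm F V) (E : Subgroup (V ≃ₗ[F] V)) (W : Submodule F V) : Subgroup E where
  carrier := {g | (∀ x ∈ W, (g : V ≃ₗ[F] V) x = x) ∧ ∀ z, (∀ t ∈ W, B t z = 0) → (g : V ≃ₗ[F] V) z - z ∈ W}
  one_mem' := ⟨fun _ _ => rfl, fun z _ => by
    show z - z ∈ W
    rw [sub_self]; exact W.zero_mem⟩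
  mul_mem' {g k} hg hk := by
    refine ⟨fun x hx => ?_, fun z hz => ?_⟩
    · show g.1 (k.1 x) = x
      rw [hk.1 x hx, hg.1 x hx]
    · show g.1 (k.1 z) - z ∈ W
      have h1 : g.1 (k.1 z) - z = (k.1 z - z) + (g.1 z - z) := by
        have h2 := hg.1 _ (hk.2 z hz)
        rw [map_sub] at h2
        rw [← h2]; abel
      rw [h1]
      exact W.add_mem (hk.2 z hz) (hg.2 z hz)
  inv_mem' {g} hg := by
    have h1 : ∀ x ∈ W, g.1⁻¹ x = x := fun x hx => by
      apply g.1.injective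
      rw [show g.1 (g.1⁻¹ x) = x from g.1.apply_symm_apply x, hg.1 x hx]
    refine ⟨h1, fun z hz => ?_⟩
    show g.1⁻¹ z - z ∈ W
    have h2 : g.1⁻¹ z - z = -(g.1 z - z) := by
      rw [← h1 _ (hg.2 z hz), map_sub, show g.1⁻¹ (g.1 z) = z from g.1.symm_apply_apply z]
      abel
    rw [h2]
    exact W.neg_mem (hg.2 z hz)

theorem mem_QW {W : Submodule F V} {g : E} : g ∈ QW B E W ↔
    (∀ x ∈ W, (g : V ≃ₗ[F] V) x = x) ∧ ∀ z, (∀ t ∈ W, B t z = 0) → (g : V ≃ₗ[F] V) z - z ∈ W := Iff.rfl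

theorem pow_formula {g : V ≃ₗ[F] V} (hg : ∀ v, g (g (g v - v) - (g v - v)) = g (g v - v) - (g v - v)) (k : ℕ) (v : V) :
    (g ^ k) v = v + (k : F) • (g v - v) + (k.choose 2 : F) • (g (g v - v) - (g v - v)) := by
  induction k with
  | zero =>
    show v = _
    simp
  | succ k ih =>
    rw [pow_succ', LinearEquiv.mul_apply, ih, map_add, map_add, map_smul, map_smul, hg,
      Nat.choose_succ_succ, Nat.choose_one_right]
    push_cast
    rw [map_sub]
    module

theorem PS.QW_pgroup (h : PS B q e E) {p : ℕ} (hp : p.Prime) (hp2 : p ≠ 2) [CharP F p] {W : Submodule F V}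
    [FiniteDimensional F V] : IsPGroup p (QW B E W) := by
  rintro ⟨g, hg⟩
  refine ⟨1, ?_⟩
  rw [pow_one]
  apply Subtype.ext
  apply Subtype.ext
  apply LinearEquiv.ext
  intro v
  show (g.1 ^ p) v = v
  have h1 : ∀ v, ∀ t ∈ W, B t (g.1 v - v) = 0 := by
    intro v t ht
    rw [map_sub, sub_eq_zero]
    conv_lhs => rw [← hg.1 t ht]
    exact h.isoB g.1 g.2 t v
  have h2 : ∀ v, g.1 (g.1 v - v) - (g.1 v - v) ∈ W := fun v => hg.2 _ (h1 v)
  rw [pow_formula (fun v => hg.1 _ (h2 v))]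
  have h3 : ((p.choose 2 : ℕ) : F) = 0 := by
    rw [CharP.cast_eq_zero_iff F p]
    exact hp.dvd_choose_self (by norm_num) (lt_of_le_of_ne hp.two_le (Ne.symm hp2))
  rw [CharP.cast_eq_zero, h3]
  simp

theorem PS.sg_mem_QW (h : PS B q e E) {W : Submodule F V} (hW : IsPl B q W) {u z : V} (hu : u ∈ W)
    (hz : ∀ t ∈ W, B t z = 0) : ∃ g ∈ QW B E W, ∀ x, (g : V ≃ₗ[F] V) x =
      x + B u x • z - (e * B z x) • u - (q z * B u x) • u := by
  obtain ⟨g, hg, hgx⟩ := h.sg u z (hW.q0 u hu) (hz u hu)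
  refine ⟨⟨g, hg⟩, ⟨fun x hx => ?_, fun y hy => ?_⟩, hgx⟩
  · show g x = x
    rw [hgx, hW.B0 u hu x hx, h.symm0 (hz x hx)]
    simp
  · show g y - y ∈ W
    rw [hgx, hy u hu]
    have : y + (0 : F) • z - (e * B z y) • u - (q z * 0) • u - y = (-(e * B z y)) • u := by module
    rw [this]
    exact W.smul_mem _ hu

theorem PS.trans_pl (h : PS B q e E) [FiniteDimensional F V] {W W' : Submodule F V} (hW : IsPl B q W)
    (hW' : IsPl B q W') : ∃ g ∈ E, W.map (g : V →ₗ[F] V) = W' := by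
  obtain ⟨w, hw, hwW⟩ := hW.basis
  obtain ⟨w', hw', hwW'⟩ := hW'.basis
  have mw : ∀ i, w i ∈ W := fun i => by rw [← hwW]; exact Submodule.subset_span ⟨i, rfl⟩
  have mw' : ∀ i, w' i ∈ W' := fun i => by rw [← hwW']; exact Submodule.subset_span ⟨i, rfl⟩
  obtain ⟨v, hv⟩ := h.complete hw (fun i => hW.q0 _ (mw i)) (fun i j => hW.B0 _ (mw i) _ (mw j))
  obtain ⟨v', hv'⟩ := h.complete hw' (fun i => hW'.q0 _ (mw' i)) (fun i j => hW'.B0 _ (mw' i) _ (mw' j))
  obtain ⟨g, hg, hgw, -⟩ := h.hyp _ _ _ _ hv hv'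
  refine ⟨g, hg, ?_⟩
  rw [← hwW, ← hwW', Submodule.map_span, ← Set.range_comp]
  congr 2
  funext i
  exact hgw i

theorem PS.not_dvd_index (h : PS B q e E) [Finite V] {p : ℕ} [Fact p.Prime] (hp2 : p ≠ 2) [CharP F p]
    {W : Submodule F V} (hW : IsPl B q W) : ¬ p ∣ (stE E W).index := by
  have hfd : FiniteDimensional F V := Module.Finite.of_finite
  have hfE : Finite (V ≃ₗ[F] V) := Finite.of_injective (fun g : V ≃ₗ[F] V => (g : V → V)) DFunLike.coe_injective
  have hfS : Finite (Submodule F V) := Finite.of_injective (fun W : Submodule F V => (W : Set V)) SetLike.coe_injective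
  have hfP : Finite (Pl B q) := Subtype.finite
  let _ := h.act
  have htr : MulAction.IsPretransitive E (Pl B q) := ⟨fun a b => by
    obtain ⟨g, hg, hgW⟩ := h.trans_pl a.2 b.2
    exact ⟨⟨g, hg⟩, Subtype.ext hgW⟩⟩
  obtain ⟨W1, hW1⟩ : ∃ W1 : Pl B q, W1.1 = W := ⟨⟨W, hW⟩, rfl⟩
  have hst : stE E W = MulAction.stabilizer E W1 := by
    subst hW1
    ext g
    rw [MulAction.mem_stabilizer_iff, mem_stE]
    constructor
    · intro hg
      exact Subtype.ext hg
    · intro hg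
      exact congrArg Subtype.val hg
  rw [hst, MulAction.index_stabilizer_of_transitive]
  let _ : MulAction (QW B E W) (Pl B q) := MulAction.compHom _ (QW B E W).subtype
  have h1 := (h.QW_pgroup (Fact.out : p.Prime) hp2 (W := W)).card_modEq_card_fixedPoints (Pl B q)
  have h2 : MulAction.fixedPoints (QW B E W) (Pl B q) = {W1} := by
    ext W'
    rw [Set.mem_singleton_iff]
    constructor
    · intro hfix
      apply Subtype.ext
      rw [hW1]
      apply h.uniq hW W'.2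
      intro u hu z hz x hx
      obtain ⟨g, hg, hgx⟩ := h.sg_mem_QW hW hu hz
      rw [← hgx]
      have h3 : W'.1.map ((g : V ≃ₗ[F] V) : V →ₗ[F] V) = W'.1 := congrArg Subtype.val (hfix ⟨g, hg⟩)
      have h4 : (g : V ≃ₗ[F] V) x ∈ W'.1.map ((g : V ≃ₗ[F] V) : V →ₗ[F] V) := ⟨x, hx, rfl⟩
      rwa [h3] at h4
    · intro hW' g
      rw [hW']
      apply Subtype.ext
      show W1.1.map ((g.1 : V ≃ₗ[F] V) : V →ₗ[F] V) = W1.1
      rw [hW1]
      rw [← mem_stE, mem_stE']
      intro x hx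
      rw [g.2.1 x hx]
      exact hx
  have h5 : Nat.card ({W1} : Set (Pl B q)) = 1 := Nat.card_unique
  rw [h2, h5] at h1
  intro hd
  have h3 := (Nat.modEq_zero_iff_dvd.2 hd).symm.trans h1
  have h4 := (Nat.modEq_zero_iff_dvd.1 h3.symm)
  exact (Fact.out : p.Prime).one_lt.ne' (Nat.dvd_one.1 h4)

/-- Homomorphisms of subgroups of a quotient. -/
theorem exists_lift_hom {A S T : Type*} [Group A] [Group S] [Group T] (π : A →* S) (H : Subgroup A) (f : H →* T)
    (hf : ∀ t : H, π t = 1 → f t = 1) :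
    ∃ G : (H.map π) →* T, ∀ t : H, G ⟨π t, Subgroup.mem_map_of_mem π t.2⟩ = f t := by
  have hs : ∀ s : H.map π, ∃ t : H, π t = s := fun s => by
    obtain ⟨t, ht, hts⟩ := s.2
    exact ⟨⟨t, ht⟩, hts⟩
  choose r hr using hs
  have key : ∀ t t' : H, π t = π t' → f t = f t' := by
    intro t t' h
    have h1 := hf (t⁻¹ * t') (by
      show π ((t : A)⁻¹ * t') = 1
      rw [map_mul, map_inv, h, inv_mul_cancel])
    rw [map_mul, map_inv] at h1
    exact (inv_mul_eq_one.1 h1)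
  refine ⟨⟨⟨fun s => f (r s), ?_⟩, ?_⟩, ?_⟩
  · apply hf
    rw [hr]; rfl
  · intro a b
    show f (r (a * b)) = f (r a) * f (r b)
    rw [← map_mul]
    apply key
    rw [hr]
    show (a * b : S) = π ((r a : A) * r b)
    rw [map_mul, hr, hr]
  · intro t
    exact key _ _ (hr _)

end Cfsg.Agent.H877.Pol
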