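import Cfsg.Agent.H877.PolC
import Cfsg.Agent.H687.Cusp

/-!
# Polar spaces with a group: the cuspidal data (helper877)

* `PS.cuspDat` : the stabiliser of a totally singular plane gives cuspidal data in the sense of `H687.CuspDat`.
-/

set_option autoImplicit false

namespace Cfsg.Agent.H877.Pol

open Matrix MatrixGroups
open Matrix.GeneralLinearGroup (upperRightHom)

universe u v

variable {F : Type u} {V : Type v} [Field F] [AddCommGroup V] [Module F V]
  {B : LinearMap.BilinForm F V} {q : V → F} {e : F} {E : Subgroup (V ≃ₗ[F] V)}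

theorem exists_mt {w : Fin 2 → V} (hw : LinearIndependent F w) :
    ∃ f : stE E (Submodule.span F (Set.range w)) →* GL (Fin 2) F,
      ∀ g : stE E (Submodule.span F (Set.range w)), Mat (g.1.1 : V ≃ₗ[F] V) w (f g).val := by
  have h1 : ∀ g : stE E (Submodule.span F (Set.range w)), ∃ M : Matrix (Fin 2) (Fin 2) F, Mat (g.1.1 : V ≃ₗ[F] V) w M := by
    intro g
    obtain ⟨M, hM⟩ := exists_comb (F := F) (w := w) (x := fun j => g.1.1 (w j)) (fun j => by
      have h2 : g.1.1 (w j) ∈ (Submodule.span F (Set.range w)).map ((g.1.1 : V ≃ₗ[F] V) : V →ₗ[F] V) :=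
        ⟨w j, Submodule.subset_span ⟨j, rfl⟩, rfl⟩
      rwa [mem_stE.1 g.2] at h2)
    exact ⟨M, fun j => congrFun hM j⟩
  choose M hM using h1
  have hmul : ∀ a b, M (a * b) = M a * M b := fun a b => Mat.uniq hw (hM (a * b)) ((hM a).mul (hM b))
  have hone : M 1 = 1 := Mat.uniq hw (hM 1) (Mat.one w)
  refine ⟨⟨⟨fun g => ⟨M g, M g⁻¹, ?_, ?_⟩, ?_⟩, ?_⟩, hM⟩
  · rw [← hmul, mul_inv_cancel, hone]
  · rw [← hmul, inv_mul_cancel, hone]
  · exact Units.ext hone
  · intro a b
    exact Units.ext (hmul a b)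

/-- A matrix relation of an element of the centre. -/
theorem mat_scalar {g : V → V} {w : Fin 2 → V} (hw : LinearIndependent F w) {c : F} (hg : ∀ x, g x = c • x)
    {M : Matrix (Fin 2) (Fin 2) F} (hM : Mat g w M) : M = Matrix.scalar (Fin 2) c := by
  refine Mat.uniq hw hM fun j => ?_
  rw [hg, comb_apply]
  fin_cases j <;> simp

/-- The homomorphism `S → S / Z(S)`. -/
abbrev prj (E : Subgroup (V ≃ₗ[F] V)) : E →* E ⧸ Subgroup.center E := QuotientGroup.mk' (Subgroup.center E)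

theorem PS.mem_map (h : PS B q e E) [FiniteDimensional F V] {W : Submodule F V} {g : E} :
    prj E g ∈ (stE E W).map (prj E) ↔ g ∈ stE E W := by
  rw [← Subgroup.mem_comap, Subgroup.comap_map_eq, QuotientGroup.ker_mk', sup_eq_left.2 (h.center_le W)]

theorem PS.exists_rho (h : PS B q e E) {w : Fin 2 → V} (hw : LinearIndependent F w) :
    ∃ (ρ : (stE E (Submodule.span F (Set.range w))).map (prj E) →* PGL(2, F))
      (D : (stE E (Submodule.span F (Set.range w))).map (prj E) →* Fˣ),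
      ∀ (g : E) (hg : g ∈ stE E (Submodule.span F (Set.range w))) (M : GL (Fin 2) F),
        Mat (g.1 : V ≃ₗ[F] V) w M.val → ρ ⟨prj E g, Subgroup.mem_map_of_mem _ hg⟩ = ProjGenLinGroup.mk M ∧
          D ⟨prj E g, Subgroup.mem_map_of_mem _ hg⟩ = M.det := by
  obtain ⟨f, hf⟩ := exists_mt (E := E) hw
  have hc : ∀ t : stE E (Submodule.span F (Set.range w)), prj E t = 1 → ∃ c : Fˣ, c * c = 1 ∧
      f t = GeneralLinearGroup.scalar (Fin 2) c := by
    intro t ht
    obtain ⟨c, hc, hct⟩ := h.cen t.1 ((QuotientGroup.eq_one_iff _).1 ht)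
    refine ⟨⟨c, c, hc, hc⟩, Units.ext hc, Units.ext ?_⟩
    exact mat_scalar hw hct (hf t)
  obtain ⟨ρ, hρ⟩ := exists_lift_hom (prj E) _ (ProjGenLinGroup.mk.comp f) (fun t ht => by
    obtain ⟨c, -, hc2⟩ := hc t ht
    rw [MonoidHom.comp_apply, hc2]
    exact ProjGenLinGroup.mk_scalar c)
  obtain ⟨D, hD⟩ := exists_lift_hom (prj E) _ (GeneralLinearGroup.det.comp f) (fun t ht => by
    obtain ⟨c, hc1, hc2⟩ := hc t ht
    rw [MonoidHom.comp_apply, hc2]
    apply Units.ext
    rw [GeneralLinearGroup.val_det_apply]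
    show (Matrix.scalar (Fin 2) (c : F)).det = 1
    rw [Matrix.scalar_apply, Matrix.det_diagonal, Fin.prod_univ_two]
    exact congrArg Units.val hc1)
  refine ⟨ρ, D, fun g hg M hM => ?_⟩
  have h1 : f ⟨g, hg⟩ = M := Units.ext (Mat.uniq hw (hf ⟨g, hg⟩) hM)
  constructor
  · rw [← h1]; exact hρ ⟨g, hg⟩
  · rw [← h1]; exact hD ⟨g, hg⟩

/-- `g` is a semisimilitude. -/
structure SemiSim (B : LinearMap.BilinForm F V) (q : V → F) (g : V → V) (θ : F ≃+* F) (μ : F) : Prop where
  ne : μ ≠ 0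
  inj : Function.Injective g
  add : ∀ x y, g (x + y) = g x + g y
  smul : ∀ (c : F) x, g (c • x) = θ c • g x
  form : ∀ x y, B (g x) (g y) = μ * θ (B x y)
  quad : ∀ x, q (g x) = μ * θ (q x)

/-- The automorphism `φ` is induced by `g`. -/
def Ind (E : Subgroup (V ≃ₗ[F] V)) (φ : MulAut (E ⧸ Subgroup.center E)) (g : V → V) : Prop :=
  ∀ t : E, ∃ t' : E, φ (prj E t) = prj E t' ∧ ∀ x, t'.1 (g x) = g (t.1 x)

theorem SemiSim.comb {g : V → V} {θ : F ≃+* F} {μ : F} (hg : SemiSim B q g θ μ) (M : Matrix (Fin 2) (Fin 2) F)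
    (w : Fin 2 → V) (j : Fin 2) : g (comb M w j) = comb (M.map θ) (fun i => g (w i)) j := by
  rw [comb_apply, comb_apply, hg.add, hg.smul, hg.smul]; rfl

theorem SemiSim.li {g : V → V} {θ : F ≃+* F} {μ : F} (hg : SemiSim B q g θ μ) {w : Fin 2 → V}
    (hw : LinearIndependent F w) : LinearIndependent F (fun i => g (w i)) := by
  have h0 : g 0 = 0 := by
    have := hg.add 0 0
    rw [add_zero] at this
    exact left_eq_add.1 this
  rw [Fintype.linearIndependent_iff]
  intro c hc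
  have h1 : g (∑ i, θ.symm (c i) • w i) = ∑ i, c i • g (w i) := by
    rw [Fin.sum_univ_two, Fin.sum_univ_two, hg.add, hg.smul, hg.smul, θ.apply_symm_apply, θ.apply_symm_apply]
  rw [hc, ← h0] at h1
  have h2 := Fintype.linearIndependent_iff.1 hw _ (hg.inj h1)
  intro i
  have h3 := congrArg θ (h2 i)
  rwa [θ.apply_symm_apply, map_zero] at h3

/-- Straightening a semisimilitude. -/
theorem PS.straight (h : PS B q e E) [FiniteDimensional F V] {g : V → V} {θ : F ≃+* F} {μ : F}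
    (hg : SemiSim B q g θ μ) {w v : Fin 2 → V} (hp : HP B q w v) : ∃ s ∈ E, ∀ i, s (g (w i)) = w i := by
  obtain ⟨v', hv'⟩ := h.complete (hg.li hp.li) (fun i => by rw [hg.quad, hp.qw, map_zero, mul_zero])
    (fun i j => by rw [hg.form, hp.ww, map_zero, mul_zero])
  obtain ⟨s, hs, hs1, -⟩ := h.hyp _ _ _ _ hv' hp
  exact ⟨s, hs, hs1⟩

theorem mul_eq_det {M N : Matrix (Fin 2) (Fin 2) F} (hMN : Mᵀ * N = 1) :
    N * Matrix.scalar (Fin 2) M.det = !![0, 1; -1, 0] * M * !![0, -1; 1, 0] := by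
  have h0 : M.det ≠ 0 := by
    intro h0
    have := congrArg Matrix.det hMN
    rw [Matrix.det_mul, Matrix.det_transpose, h0, zero_mul, Matrix.det_one] at this
    exact zero_ne_one this
  have h1 : Mᵀ * (N * Matrix.scalar (Fin 2) M.det) = Mᵀ * (!![0, 1; -1, 0] * M * !![0, -1; 1, 0]) := by
    rw [← mul_assoc, hMN, one_mul, Matrix.eta_fin_two M]
    ext i j
    fin_cases i <;> fin_cases j <;>
      simp [Matrix.mul_apply, Fin.sum_univ_two, Matrix.det_fin_two] <;> ring
  have h2 : IsUnit Mᵀ.det := by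
    rw [Matrix.det_transpose]
    exact isUnit_iff_ne_zero.2 h0
  have h3 := congrArg (fun X => Mᵀ⁻¹ * X) h1
  simp only [Matrix.nonsing_inv_mul_cancel_left _ _ h2] at h3
  exact h3

/-- The element `J`. -/
def Jm : GL (Fin 2) F := ⟨!![0, 1; -1, 0], !![0, -1; 1, 0], by
  ext i j
  fin_cases i <;> fin_cases j <;> simp [Matrix.mul_apply, Fin.sum_univ_two], by
  ext i j
  fin_cases i <;> fin_cases j <;> simp [Matrix.mul_apply, Fin.sum_univ_two]⟩

theorem mk_eq_conj {M N : GL (Fin 2) F} (hMN : M.valᵀ * N.val = 1) :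
    ProjGenLinGroup.mk N = ProjGenLinGroup.mk (Jm : GL (Fin 2) F) * ProjGenLinGroup.mk M * (ProjGenLinGroup.mk Jm)⁻¹ ∧
      N.det = (M.det)⁻¹ := by
  constructor
  · rw [← map_inv, ← map_mul, ← map_mul, ProjGenLinGroup.mk_eq_mk_iff]
    refine ⟨M.det, Units.ext ?_⟩
    exact mul_eq_det hMN
  · rw [eq_inv_iff_mul_eq_one]
    apply Units.ext
    rw [Units.val_mul, GeneralLinearGroup.val_det_apply, GeneralLinearGroup.val_det_apply, mul_comm,
      ← Matrix.det_transpose, ← Matrix.det_mul, hMN, Matrix.det_one]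
    rfl

theorem HP.transpose_mul {w v : Fin 2 → V} (hp : HP B q w v) {g : V ≃ₗ[F] V}
    (hg : ∀ x y, B (g x) (g y) = B x y) {M N : Matrix (Fin 2) (Fin 2) F} (hM : Mat g w M)
    (hN : ∀ j, g (v j) = Pol.comb N v j) : Mᵀ * N = 1 := by
  ext i j
  have h6 := hg (w i) (v j)
  rw [hN j, hM i, hp.wv] at h6
  rw [Matrix.one_apply, ← h6, comb_apply, comb_apply, Matrix.mul_apply, Fin.sum_univ_two]
  simp only [map_add, LinearMap.add_apply, map_smul, LinearMap.smul_apply, hp.wv, Matrix.transpose_apply]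
  simp
  ring

variable [Finite V] {p : ℕ} [Fact p.Prime] [CharP F p]

set_option maxHeartbeats 1000000 in
/-- **The cuspidal data.** -/
theorem PS.cuspDat (h : PS B q e E) (hp2 : p ≠ 2) {w v : Fin 2 → V} (hp : HP B q w v)
    (haut : ∀ φ : MulAut (E ⧸ Subgroup.center E), (∃ k : ℕ, orderOf φ = p ^ k) →
      ∃ (g : V → V) (θ : F ≃+* F) (μ : F), SemiSim B q g θ μ ∧ Ind E φ g ∧ ∃ m : ℕ, θ ^ p ^ m = 1) :
    ∃ (ρ : (stE E (Submodule.span F (Set.range w))).map (prj E) →* PGL(2, F))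
      (D : (stE E (Submodule.span F (Set.range w))).map (prj E) →* Fˣ) (x₀ : E ⧸ Subgroup.center E),
      H687.CuspDat p F ((stE E (Submodule.span F (Set.range w))).map (prj E)) ρ D x₀ := by
  have hfd : FiniteDimensional F V := Module.Finite.of_finite
  obtain ⟨W, hW⟩ : ∃ W, W = Submodule.span F (Set.range w) := ⟨_, rfl⟩
  have hpW : IsPl B q W := by rw [hW]; exact HP.isPl h hp
  have hli := hp.li
  have hliv := (HP.swap h hp).li
  have mw : ∀ i, w i ∈ W := fun i => by rw [hW]; exact Submodule.subset_span ⟨i, rfl⟩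
  obtain ⟨x, hxw⟩ : ∃ x : E, ∀ i, x.1 (w i) = v i := by
    obtain ⟨x, hx, hxw, -⟩ := h.hyp _ _ _ _ hp (HP.swap h hp)
    exact ⟨⟨x, hx⟩, hxw⟩
  obtain ⟨ρ, D, hρD⟩ := h.exists_rho hli
  have hker : (prj E).ker ≤ stE E W := by rw [QuotientGroup.ker_mk']; exact h.center_le W
  -- elements of `P` and matrices
  have hmat : ∀ t : (stE E (Submodule.span F (Set.range w))).map (prj E), ∃ (a : E)
      (ha : a ∈ stE E (Submodule.span F (Set.range w))) (M : GL (Fin 2) F), t = ⟨prj E a, Subgroup.mem_map_of_mem _ ha⟩ ∧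
      Mat (a.1 : V ≃ₗ[F] V) w M.val := by
    rintro ⟨t, a, ha, rfl⟩
    obtain ⟨f, hf⟩ := exists_mt (E := E) hli
    exact ⟨a, ha, f ⟨a, ha⟩, rfl, hf ⟨a, ha⟩⟩
  refine ⟨ρ, D, prj E x, ⟨?_, ?_, ?_, ?_, ?_, ?_, ?_⟩⟩
  · -- index
    rw [← hW, Subgroup.index_map_eq _ (QuotientGroup.mk'_surjective _) hker]
    exact h.not_dvd_index hp2 hpW
  · -- proper
    intro htop
    have h1 : prj E x ∈ (stE E (Submodule.span F (Set.range w))).map (prj E) := by rw [htop]; trivial
    rw [h.mem_map, mem_stE'] at h1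
    have h2 := h1 (w 0) (Submodule.subset_span ⟨0, rfl⟩)
    rw [← hW] at h2
    have h3 := hpW.B0 _ (mw 0) _ h2
    have h4 : B (w 0) (x.1 (w 0)) = 1 := by rw [hxw, hp.wv, if_pos rfl]
    exact one_ne_zero (h4.symm.trans h3)
  · -- compatibility
    intro t
    obtain ⟨a, ha, M, rfl, hM⟩ := hmat t
    obtain ⟨h1, h2⟩ := hρD a ha M hM
    exact ⟨M, h1, h2⟩
  · -- transvections
    intro y hy
    obtain ⟨a, rfl⟩ := QuotientGroup.mk'_surjective _ y
    have hne : W ≠ W.map (a.1 : V →ₗ[F] V) := by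
      intro h1
      apply hy
      rw [h.mem_map, mem_stE, ← hW]
      exact h1.symm
    have hpW' := h.isPl_map hpW a.2
    by_cases ho : Opp B W (W.map (a.1 : V →ₗ[F] V))
    · left
      obtain ⟨w', v', hp', hw', hv'⟩ := h.opp_basis hpW hpW' ho
      obtain ⟨c, hc, hcw, hcv⟩ := h.hyp _ _ _ _ hp hp'
      have h1 : (⟨c, hc⟩ : E) ∈ stE E (Submodule.span F (Set.range w)) := by
        rw [mem_stE, Submodule.map_span, ← Set.range_comp, ← hW, ← hw']
        congr 2
        funext i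
        exact hcw i
      have h2 : (⟨c, hc⟩ * x : E)⁻¹ * a ∈ stE E (Submodule.span F (Set.range w)) := by
        rw [mem_stE]
        show (Submodule.span F (Set.range w)).map (((c * x.1)⁻¹ * a.1 : V ≃ₗ[F] V) : V →ₗ[F] V) = _
        rw [map_mul_sub]
        have h3 : (Submodule.span F (Set.range w)).map (a.1 : V →ₗ[F] V) =
            (Submodule.span F (Set.range w)).map ((c * x.1 : V ≃ₗ[F] V) : V →ₗ[F] V) := by
          conv_lhs => rw [← hW, ← hv']
          rw [Submodule.map_span, ← Set.range_comp]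
          congr 2
          funext i
          show v' i = c (x.1 (w i))
          rw [hxw, hcv]
        rw [h3, ← map_mul_sub, inv_mul_cancel, map_one_sub]
      refine ⟨prj E ⟨c, hc⟩, Subgroup.mem_map_of_mem _ h1, prj E ((⟨c, hc⟩ * x : E)⁻¹ * a),
        Subgroup.mem_map_of_mem _ h2, ?_⟩
      show prj E a = _
      rw [← map_mul, ← map_mul, mul_inv_cancel_left]
    · right
      obtain ⟨w', X, hw', hsp, hXE, hXadd, hXmat, hXfix⟩ := h.trans hpW hpW' hne ho
      obtain ⟨K, hK⟩ := exists_comb (F := F) (w := w) (x := w') (fun j => by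
        rw [← hW, ← hsp]; exact Submodule.subset_span ⟨j, rfl⟩)
      have hK0 : K.det ≠ 0 := det_ne_zero_of_li (w := w) (by rw [← hK]; exact hw')
      obtain ⟨K', hK'⟩ : ∃ K' : GL (Fin 2) F, K'.val = K := ⟨GeneralLinearGroup.mkOfDetNeZero K hK0, rfl⟩
      have hXst : ∀ c, (⟨X c, hXE c⟩ : E) ∈ stE E (Submodule.span F (Set.range w)) := by
        intro c
        rw [mem_stE', ← hW, ← hsp]
        intro y hy
        obtain ⟨s, t, rfl⟩ := mem_span_iff.1 hy
        show X c (s • w' 0 + t • w' 1) ∈ _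
        rw [map_add, map_smul, map_smul, hXmat c 0, hXmat c 1]
        exact Submodule.add_mem _ (Submodule.smul_mem _ _ (comb_mem _ _ _))
          (Submodule.smul_mem _ _ (comb_mem _ _ _))
      have hXm : ∀ c, Mat (X c) w (K' * upperRightHom c * K'⁻¹ : GL (Fin 2) F).val := by
        intro c
        obtain ⟨M, hM⟩ : ∃ M : GL (Fin 2) F, Mat (X c) w M.val := by
          obtain ⟨f, hf⟩ := exists_mt (E := E) hli
          exact ⟨_, hf ⟨⟨X c, hXE c⟩, hXst c⟩⟩
        have h1 : K' * upperRightHom c = M * K' := by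
          apply Units.ext
          apply comb_inj hli
          show comb (K'.val * !![1, c; 0, 1]) w = comb (M.val * K'.val) w
          rw [← comb_comb, ← comb_comb, hK', ← hK]
          funext j
          rw [← hXmat c j, ← show (fun i => X c (w i)) = comb M.val w from funext fun i => hM i, ← map_comb, ← hK]
        rw [h1, mul_inv_cancel_right]
        exact hM
      refine ⟨fun c => ⟨prj E ⟨X c, hXE c⟩, Subgroup.mem_map_of_mem _ (hXst c)⟩, ProjGenLinGroup.mk K', ?_, ?_, ?_⟩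
      · intro s t
        apply Subtype.ext
        show prj E _ = prj E _ * prj E _
        rw [← map_mul]
        congr 1
        exact Subtype.ext (hXadd s t)
      · intro c
        rw [← map_inv, ← map_mul, ← map_mul]
        exact (hρD _ (hXst c) _ (hXm c)).1
      · intro c
        have h1 : ∀ x ∈ Submodule.span F (Set.range w), (a⁻¹ * ⟨X c, hXE c⟩ * a : E).1 x = x := by
          intro x hx
          show a.1⁻¹ (X c (a.1 x)) = x
          rw [hXfix c (a.1 x) ⟨x, by rw [hW]; exact hx, rfl⟩]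
          exact a.1.symm_apply_apply x
        have h2 : (a⁻¹ * ⟨X c, hXE c⟩ * a : E) ∈ stE E (Submodule.span F (Set.range w)) := by
          rw [mem_stE']
          intro x hx
          rw [h1 x hx]
          exact hx
        have h3 : (QuotientGroup.mk' (Subgroup.center E) a)⁻¹ * prj E ⟨X c, hXE c⟩ * QuotientGroup.mk' _ a =
            prj E (a⁻¹ * ⟨X c, hXE c⟩ * a) := by
          rw [map_mul, map_mul, map_inv]
        have h4 := (hρD _ h2 1 (fun j => by
          rw [Units.val_one, comb_one]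
          exact h1 _ (Submodule.subset_span ⟨j, rfl⟩))).1
        refine ⟨by rw [h3]; exact Subgroup.mem_map_of_mem _ h2, ?_⟩
        rw [map_one] at h4
        rw [← h4]
        congr 1
  · -- the opposite plane
    refine ⟨ProjGenLinGroup.mk Jm, ?_⟩
    intro t ht
    obtain ⟨a, ha, M, rfl, hM⟩ := hmat t
    have h1 : (prj E x)⁻¹ * prj E a * prj E x = prj E (x⁻¹ * a * x) := by
      rw [map_mul, map_mul, map_inv]
    have h2 : (x⁻¹ * a * x : E) ∈ stE E (Submodule.span F (Set.range w)) := by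
      rw [← h.mem_map, ← h1]
      exact ht
    obtain ⟨N, hN⟩ : ∃ N : GL (Fin 2) F, Mat ((x⁻¹ * a * x : E).1 : V ≃ₗ[F] V) w N.val := by
      obtain ⟨f, hf⟩ := exists_mt (E := E) hli
      exact ⟨_, hf ⟨_, h2⟩⟩
    have h3 : ∀ j, a.1 (v j) = comb N.val v j := by
      intro j
      have h4 := hN j
      have h5 : (x⁻¹ * a * x : E).1 (w j) = x.1.symm (a.1 (x.1 (w j))) := rfl
      rw [h5, LinearEquiv.symm_apply_eq, hxw, map_comb] at h4
      rw [h4]
      congr 1
      funext i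
      exact hxw i
    have hMN : M.valᵀ * N.val = 1 := hp.transpose_mul (h.isoB a.1 a.2) hM h3
    obtain ⟨h7, h8⟩ := hρD a ha M hM
    obtain ⟨h9, h10⟩ := hρD _ h2 N hN
    obtain ⟨h11, h12⟩ := mk_eq_conj hMN
    have h13 : (⟨(prj E x)⁻¹ * prj E a * prj E x, ht⟩ :
        (stE E (Submodule.span F (Set.range w))).map (prj E)) =
        ⟨prj E (x⁻¹ * a * x), Subgroup.mem_map_of_mem _ h2⟩ := Subtype.ext h1
    refine ⟨?_, ?_⟩
    · rw [h7]
      refine (congrArg ρ h13).trans ?_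
      rw [h9, h11]
    · rw [h8]
      refine (congrArg D h13).trans ?_
      rw [h10, h12]
  · -- surjectivity
    intro g
    have hMN : g.valᵀ * (g⁻¹).valᵀ = 1 := by
      rw [← Matrix.transpose_mul, ← Units.val_mul, inv_mul_cancel, Units.val_one, Matrix.transpose_one]
    obtain ⟨t, ht, htw, htv⟩ := h.hyp _ _ _ _ hp (HP.comb h hp hMN)
    have h1 : (⟨t, ht⟩ : E) ∈ stE E (Submodule.span F (Set.range w)) := by
      rw [mem_stE']
      intro y hy
      obtain ⟨a, b, rfl⟩ := mem_span_iff.1 hy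
      show t (a • w 0 + b • w 1) ∈ _
      rw [map_add, map_smul, map_smul, htw, htw]
      exact Submodule.add_mem _ (Submodule.smul_mem _ _ (comb_mem _ _ _))
        (Submodule.smul_mem _ _ (comb_mem _ _ _))
    have h2 : (x⁻¹ * ⟨t, ht⟩ * x : E) ∈ stE E (Submodule.span F (Set.range w)) := by
      rw [mem_stE']
      have h3 : ∀ j, (x⁻¹ * ⟨t, ht⟩ * x : E).1 (w j) = comb (g⁻¹).valᵀ w j := by
        intro j
        show x.1.symm (t (x.1 (w j))) = _
        rw [LinearEquiv.symm_apply_eq, hxw, htv, map_comb]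
        congr 1
        funext i
        exact (hxw i).symm
      intro y hy
      obtain ⟨a, b, rfl⟩ := mem_span_iff.1 hy
      rw [map_add, map_smul, map_smul, h3, h3]
      exact Submodule.add_mem _ (Submodule.smul_mem _ _ (comb_mem _ _ _))
        (Submodule.smul_mem _ _ (comb_mem _ _ _))
    obtain ⟨h4, h5⟩ := hρD _ h1 g (fun j => htw j)
    refine ⟨⟨prj E ⟨t, ht⟩, Subgroup.mem_map_of_mem _ h1⟩, ?_, h4, h5⟩
    have h6 : (prj E x)⁻¹ * prj E ⟨t, ht⟩ * prj E x = prj E (x⁻¹ * ⟨t, ht⟩ * x) := by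
      rw [map_mul, map_mul, map_inv]
    show (prj E x)⁻¹ * prj E ⟨t, ht⟩ * prj E x ∈ _
    rw [h6]
    exact Subgroup.mem_map_of_mem _ h2
  · -- automorphisms
    intro φ hφ
    obtain ⟨g, θ, μ, hg, hind, hθ⟩ := haut φ hφ
    obtain ⟨s, hs, hsw⟩ := h.straight hg hp
    refine ⟨prj E ⟨s, hs⟩, θ, 1, hθ, ?_⟩
    intro t
    obtain ⟨a, ha, M, rfl, hM⟩ := hmat t
    obtain ⟨a', ha'1, ha'2⟩ := hind a
    have h1 : prj E ⟨s, hs⟩ * φ (prj E a) * (prj E ⟨s, hs⟩)⁻¹ = prj E (⟨s, hs⟩ * a' * ⟨s, hs⟩⁻¹) := by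
      rw [ha'1, map_mul, map_mul, map_inv]
    have h2 : ∀ j, (⟨s, hs⟩ * a' * ⟨s, hs⟩⁻¹ : E).1 (w j) = comb (M.val.map θ) w j := by
      intro j
      show s (a'.1 (s.symm (w j))) = _
      have h3 : s.symm (w j) = g (w j) := by rw [LinearEquiv.symm_apply_eq, hsw]
      rw [h3, ha'2, hM j, hg.comb, map_comb]
      congr 1
      funext i
      exact hsw i
    have h3 : (⟨s, hs⟩ * a' * ⟨s, hs⟩⁻¹ : E) ∈ stE E (Submodule.span F (Set.range w)) := by
      rw [mem_stE']
      intro y hy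
      obtain ⟨c, d, rfl⟩ := mem_span_iff.1 hy
      rw [map_add, map_smul, map_smul, h2, h2]
      exact Submodule.add_mem _ (Submodule.smul_mem _ _ (comb_mem _ _ _))
        (Submodule.smul_mem _ _ (comb_mem _ _ _))
    obtain ⟨h4, h5⟩ := hρD a ha M hM
    obtain ⟨h6, h7⟩ := hρD _ h3 (GeneralLinearGroup.map (θ : F →+* F) M) h2
    have h8 : prj E ⟨s, hs⟩ * φ (prj E a) * (prj E ⟨s, hs⟩)⁻¹ ∈
        (stE E (Submodule.span F (Set.range w))).map (prj E) := by
      rw [h1]; exact Subgroup.mem_map_of_mem _ h3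
    have h9 : (⟨prj E ⟨s, hs⟩ * φ (prj E a) * (prj E ⟨s, hs⟩)⁻¹, h8⟩ :
        (stE E (Submodule.span F (Set.range w))).map (prj E)) =
        ⟨prj E (⟨s, hs⟩ * a' * ⟨s, hs⟩⁻¹), Subgroup.mem_map_of_mem _ h3⟩ := Subtype.ext h1
    refine ⟨h8, ?_, ?_⟩
    · rw [h5]
      refine (congrArg D h9).trans ?_
      rw [h7]
      apply Units.ext
      exact (RingHom.map_det (θ : F →+* F) M.val).symm
    · intro g' hg'
      refine (congrArg ρ h9).trans ?_
      rw [h6, one_mul, inv_one, mul_one, ← ProjGenLinGroup.map_mk, ← ProjGenLinGroup.map_mk, ← hg', h4]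

end Cfsg.Agent.H877.Pol
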