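import Cfsg.Agent.H877.PolD

/-!
# Polar spaces with a group: the first character, orthogonal case (helper877)

* `PS.alpha_orth` : `z a` the long root group of `W`; `Ind ψ(det)` is irreducible and extends to `MulAut S`.
-/

set_option autoImplicit false

namespace Cfsg.Agent.H877.Pol

open Matrix

universe u v

variable {F : Type u} {V : Type v} [Field F] [AddCommGroup V] [Module F V]
  {B : LinearMap.BilinForm F V} {q : V → F} {e : F} {E : Subgroup (V ≃ₗ[F] V)}

theorem PS.exists_Z (h : PS B q e E) (he : e = 1) {w v : Fin 2 → V} (hp : HP B q w v) :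
    ∃ Z : F → E, ∀ a x, (Z a).1 x = x + (a * B (w 0) x) • w 1 - (a * B (w 1) x) • w 0 := by
  have h1 : ∀ a : F, ∃ Z : E, ∀ x, Z.1 x = x + (a * B (w 0) x) • w 1 - (a * B (w 1) x) • w 0 := by
    intro a
    obtain ⟨g, hg, hgx⟩ := h.sg (w 0) (a • w 1) (hp.qw 0) (by rw [map_smul, hp.ww, smul_zero])
    refine ⟨⟨g, hg⟩, fun x => ?_⟩
    show g x = _
    rw [hgx, h.q_smul, hp.qw, he, map_smul, LinearMap.smul_apply, smul_eq_mul]
    module
  choose Z hZ using h1
  exact ⟨Z, hZ⟩

section

variable (h : PS B q e E) (he : e = 1) {w v : Fin 2 → V} (hp : HP B q w v) {Z : F → E}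
  (hZ : ∀ a x, (Z a).1 x = x + (a * B (w 0) x) • w 1 - (a * B (w 1) x) • w 0)

include h hp hZ

omit h in
theorem Z_w (a : F) (i : Fin 2) : (Z a).1 (w i) = w i := by
  rw [hZ, hp.ww, hp.ww]; simp

omit h in
theorem Z_add (a b : F) : Z (a + b) = Z a * Z b := by
  apply Subtype.ext
  apply LinearEquiv.ext
  intro x
  show (Z (a + b)).1 x = (Z a).1 ((Z b).1 x)
  rw [hZ, hZ, hZ b]
  simp only [map_add, map_sub, map_smul, hp.ww, smul_eq_mul, mul_zero, add_zero, sub_zero]
  module

theorem Z_inj : Function.Injective (fun a => prj E (Z a)) := by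
  intro a b hab
  have h1 : (Z a)⁻¹ * Z b ∈ Subgroup.center E := (QuotientGroup.eq (s := Subgroup.center E)).1 hab
  obtain ⟨c, -, hc⟩ := h.cen _ h1
  have h3 : ∀ x, (Z b).1 x = c • (Z a).1 x := by
    intro x
    have h4 := hc x
    have h5 : ((Z a)⁻¹ * Z b : E).1 x = (Z a).1.symm ((Z b).1 x) := rfl
    rw [h5, LinearEquiv.symm_apply_eq, map_smul] at h4
    exact h4
  have h6 := h3 (w 0)
  rw [Z_w hp hZ, Z_w hp hZ] at h6
  have h7 : c = 1 := by
    have h8 := congrArg (fun y => B y (v 0)) h6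
    simp only [map_smul, LinearMap.smul_apply, hp.wv, if_true, smul_eq_mul, mul_one] at h8
    exact h8.symm
  have h9 := h3 (v 0)
  rw [h7, one_smul, hZ, hZ] at h9
  have h10 := congrArg (fun y => B (v 1) y) h9
  have h11 : B (v 1) (w 1) ≠ 0 := by
    intro h0
    have h12 := h.symm0 h0
    rw [hp.wv, if_pos rfl] at h12
    exact one_ne_zero h12
  simp [hp.wv, hp.vv, h11] at h10
  exact h10.symm

include he in
theorem Z_conj {g : E} {M : Matrix (Fin 2) (Fin 2) F} (hM : Mat (g.1 : V ≃ₗ[F] V) w M) (a : F) :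
    g * Z a * g⁻¹ = Z (M.det * a) := by
  apply Subtype.ext
  apply LinearEquiv.ext
  intro x
  obtain ⟨y, rfl⟩ := g.1.surjective x
  have h1 : (g * Z a * g⁻¹ : E).1 (g.1 y) = g.1 ((Z a).1 y) := by
    show g.1 ((Z a).1 (g.1.symm (g.1 y))) = _
    rw [g.1.symm_apply_apply]
  have h2 : B (w 0) y = B (g.1 (w 0)) (g.1 y) := (h.isoB g.1 g.2 _ _).symm
  have h3 : B (w 1) y = B (g.1 (w 1)) (g.1 y) := (h.isoB g.1 g.2 _ _).symm
  rw [h1, hZ, hZ, map_sub, map_add, map_smul, map_smul, h2, h3, hM 0, hM 1, comb_apply, comb_apply,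
    Matrix.det_fin_two]
  simp only [map_add, LinearMap.add_apply, map_smul, LinearMap.smul_apply, smul_eq_mul]
  module

include he in
theorem Z_Sc {t : E} {c : F} (ht : Dt t.1 (Submodule.span F (Set.range w)) c) :
    H687.Sc (fun a => prj E (Z a)) (prj E t) c := by
  obtain ⟨M, hM⟩ : ∃ M : Matrix (Fin 2) (Fin 2) F, Mat (t.1 : V ≃ₗ[F] V) w M := by
    obtain ⟨M, hM⟩ := exists_comb (F := F) (w := w) (x := fun j => t.1 (w j)) (fun j =>
      ht.mem (Submodule.subset_span ⟨j, rfl⟩))
    exact ⟨M, fun j => congrFun hM j⟩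
  have h1 := ht.det hp.li rfl hM
  intro a
  show prj E t * prj E (Z a) * (prj E t)⁻¹ = prj E (Z (c * a))
  rw [← map_mul, ← map_inv, ← map_mul, Z_conj h he hp hZ hM, h1]

omit hZ in
/-- The stabiliser and determinants. -/
theorem exists_Dt {t : E} (ht : t ∈ stE E (Submodule.span F (Set.range w))) :
    ∃ c : Fˣ, Dt t.1 (Submodule.span F (Set.range w)) (c : F) := by
  obtain ⟨f, hf⟩ := exists_mt (E := E) hp.li
  refine ⟨(f ⟨t, ht⟩).det, w, (f ⟨t, ht⟩).val, hp.li, rfl, hf ⟨t, ht⟩, ?_⟩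
  exact (GeneralLinearGroup.val_det_apply _).symm

variable [FiniteDimensional F V]

include he in
/-- The centraliser of the unipotent group of `W`. -/
theorem Z_cent {a : E} (ha : a ∈ stE E (Submodule.span F (Set.range w)))
    (hcomm : ∀ u ∈ Submodule.span F (Set.range w), ∀ z, (∀ t ∈ Submodule.span F (Set.range w), B t z = 0) →
      ∀ x, a.1 (x + B u x • z - (e * B z x) • u - (q z * B u x) • u) =
        a.1 x + B u (a.1 x) • z - (e * B z (a.1 x)) • u - (q z * B u (a.1 x)) • u) :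
    ∃ c : F, (∀ i, a.1 (w i) = c • w i) ∧ (c = 1 → ∃ b, a = Z b) := by
  have hW : IsPl B q (Submodule.span F (Set.range w)) := HP.isPl h hp
  have mw : ∀ i, w i ∈ Submodule.span F (Set.range w) := fun i => Submodule.subset_span ⟨i, rfl⟩
  have haW := mem_stE'.1 ha
  have haW' := mem_stE'.1 ((stE E (Submodule.span F (Set.range w))).inv_mem ha)
  have hBa : ∀ u x, B u (a.1 x) = B ((a⁻¹ : E).1 u) x := by
    intro u x
    have h1 := h.isoB a.1 a.2 ((a⁻¹ : E).1 u) x
    have h2 : a.1 ((a⁻¹ : E).1 u) = u := a.1.apply_symm_apply u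
    rw [← h1, h2]
  obtain ⟨z, z', hz, hz', hzz⟩ := h.exists_perp hW he
  refine ⟨B z (a.1 z'), ?_, ?_⟩
  · intro i
    have h1 := hcomm (w i) (mw i) z hz z'
    rw [hz' _ (mw i), hBa, hz' _ (haW' _ (mw i)), hzz, he] at h1
    simp only [mul_one, zero_smul, mul_zero, add_zero, sub_zero, one_mul, one_smul, map_sub, sub_right_inj] at h1
    exact h1
  · intro hc
    have hw1 : ∀ i, a.1 (w i) = w i := by
      intro i
      have h1 := hcomm (w i) (mw i) z hz z'
      rw [hz' _ (mw i), hBa, hz' _ (haW' _ (mw i)), hzz, he] at h1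
      simp only [mul_one, zero_smul, mul_zero, add_zero, sub_zero, one_mul, one_smul, map_sub, sub_right_inj] at h1
      rw [h1, hc, one_smul]
    have hBw : ∀ i x, B (w i) (a.1 x) = B (w i) x := by
      intro i x
      conv_lhs => rw [← hw1 i]
      exact h.isoB a.1 a.2 _ _
    -- `a` is trivial on the perpendicular space
    have hperp : ∀ y, (∀ t ∈ Submodule.span F (Set.range w), B t y = 0) → a.1 y = y := by
      intro y hy
      have h1 : ∀ i j, i ≠ j → B (w j) (a.1 y - y) = 0 ∧ ∃ c : F, a.1 y - y = c • w i := by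
        intro i j hij
        refine ⟨by rw [map_sub, hBw, sub_self], B y (v i) - B y (a.1 (v i)), ?_⟩
        have h2 := hcomm (w i) (mw i) y hy (v i)
        rw [hBw, hp.wv, if_pos rfl, he] at h2
        simp only [map_add, map_sub, map_smul, hw1 i, one_smul, one_mul, mul_one] at h2
        have h3 : a.1 y - y = (a.1 (v i) + a.1 y - B y (v i) • w i - q y • w i) -
            (a.1 (v i) + y - B y (a.1 (v i)) • w i - q y • w i) + (B y (v i) - B y (a.1 (v i))) • w i := by
          module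
        rw [h3, h2, sub_self, zero_add]
      obtain ⟨c, hc⟩ := (h1 0 1 (by decide)).2
      obtain ⟨d, hd⟩ := (h1 1 0 (by decide)).2
      have h4 : c • w 0 = d • w 1 := hc.symm.trans hd
      have h5 : c = 0 := by
        have h6 := congrArg (fun y => B y (v 0)) h4
        simpa [hp.wv] using h6
      rw [h5, zero_smul] at hc
      exact sub_eq_zero.1 hc
    -- images of `v`
    have hmemW : ∀ x, a.1 x - x ∈ Submodule.span F (Set.range w) := by
      intro x
      by_contra hx
      obtain ⟨y, hy, hxy⟩ := h.sep hx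
      have h1 : B (a.1 x - x) y = 0 := by
        rw [map_sub, LinearMap.sub_apply, sub_eq_zero]
        conv_lhs => rw [← hperp y hy]
        exact h.isoB a.1 a.2 _ _
      rw [h1] at hxy
      exact zero_ne_one hxy
    obtain ⟨α, β, h1⟩ := mem_span_iff.1 (hmemW (v 0))
    obtain ⟨γ, δ, h2⟩ := mem_span_iff.1 (hmemW (v 1))
    have h1' : a.1 (v 0) = v 0 + (α • w 0 + β • w 1) := by rw [← h1]; abel
    have h2' : a.1 (v 1) = v 1 + (γ • w 0 + δ • w 1) := by rw [← h2]; abel
    have hpol : ∀ x y, q (x + y) = q x + q y + B x y := by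
      rcases h.big with ⟨h3, -⟩ | ⟨-, -, h3⟩
      · exfalso
        apply h.two
        rw [he] at h3
        linear_combination h3
      · exact h3
    have hvw : ∀ i j, B (v i) (w j) = if i = j then 1 else 0 := by
      intro i j
      rw [h.symm, hp.wv, he, one_mul]
      by_cases hij : i = j
      · rw [if_pos hij, if_pos hij.symm]
      · rw [if_neg hij, if_neg fun h => hij h.symm]
    have hq0 : ∀ x ∈ Submodule.span F (Set.range w), q x = 0 := hW.q0
    have e1 : α = 0 := by
      have h3 := h.isoq a.1 a.2 (v 0)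
      rw [h1', hpol, hp.qv, hq0 _ (mem_span_iff.2 ⟨α, β, rfl⟩)] at h3
      simpa [hvw] using h3
    have e2 : δ = 0 := by
      have h3 := h.isoq a.1 a.2 (v 1)
      rw [h2', hpol, hp.qv, hq0 _ (mem_span_iff.2 ⟨γ, δ, rfl⟩)] at h3
      simpa [hvw] using h3
    have e3 : γ = -β := by
      have h3 := h.isoB a.1 a.2 (v 0) (v 1)
      rw [h1', h2', e1, e2, hp.vv] at h3
      simp [hvw, hp.wv, hp.ww, hp.vv] at h3
      exact eq_neg_of_add_eq_zero_left h3
    refine ⟨β, Subtype.ext (LinearEquiv.ext fun x => ?_)⟩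
    have h4 : ∀ t ∈ Submodule.span F (Set.range w), B t (x - B (w 0) x • v 0 - B (w 1) x • v 1) = 0 := by
      intro t ht
      obtain ⟨c, d, rfl⟩ := mem_span_iff.1 ht
      simp [hp.wv]
    have h5 := hperp _ h4
    rw [map_sub, map_sub, map_smul, map_smul, h1', h2', e1, e2, e3] at h5
    show a.1 x = (Z β).1 x
    rw [hZ]
    have h6 : a.1 x = (a.1 x - B (w 0) x • (v 0 + ((0 : F) • w 0 + β • w 1)) -
      B (w 1) x • (v 1 + (-β • w 0 + (0 : F) • w 1))) + B (w 0) x • (v 0 + ((0 : F) • w 0 + β • w 1)) +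
      B (w 1) x • (v 1 + (-β • w 0 + (0 : F) • w 1)) := by module
    rw [h6, h5]
    module

end

end Cfsg.Agent.H877.Pol
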