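import Cfsg.Agent.H877.PolE

/-!
# Polar spaces with a group: the first character, orthogonal case, end (helper877)

* `PS.sylow_center` : the centre of a Sylow subgroup is the long root group of `W`;
* `PS.alpha_orth` : the first character.
-/

set_option autoImplicit false

namespace Cfsg.Agent.H877.Pol

open Matrix

universe u v

variable {F : Type u} {V : Type v} [Field F] [AddCommGroup V] [Module F V]
  {B : LinearMap.BilinForm F V} {q : V → F} {e : F} {E : Subgroup (V ≃ₗ[F] V)}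

theorem Sc_pow {S : Type v} [Group S] {z : F → S} {u : S} {c : F} (hu : H687.Sc z u c) (n : ℕ) :
    H687.Sc z (u ^ n) (c ^ n) := by
  induction n with
  | zero =>
    intro a
    rw [pow_zero, pow_zero, one_mul, inv_one, mul_one, one_mul]
  | succ n ih =>
    intro a
    have h1 : u ^ (n + 1) * z a * (u ^ (n + 1))⁻¹ = u * (u ^ n * z a * (u ^ n)⁻¹) * u⁻¹ := by
      rw [pow_succ']; group
    rw [h1, ih, hu, pow_succ', mul_assoc]

theorem eq_one_of_pow_char {p : ℕ} [Fact p.Prime] [CharP F p] {c : F} {k : ℕ} (hc : c ^ p ^ k = 1) : c = 1 := by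
  have h1 : (c - 1) ^ p ^ k = 0 := by
    rw [sub_pow_char_pow, hc, one_pow, sub_self]
  exact sub_eq_zero.1 (eq_zero_of_pow_eq_zero h1)

theorem QW_le_stE [FiniteDimensional F V] (W : Submodule F V) : QW B E W ≤ stE E W := by
  intro g hg
  rw [mem_stE']
  intro x hx
  rw [hg.1 x hx]
  exact hx

variable [Finite V] {p : ℕ} [Fact p.Prime] [CharP F p]

set_option maxHeartbeats 1000000 in
/-- **The centre of a Sylow subgroup.** -/
theorem PS.sylow_center (h : PS B q e E) (he : e = 1) (hp2 : p ≠ 2) {w v : Fin 2 → V} (hp : HP B q w v) {Z : F → E}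
    (hZ : ∀ a x, (Z a).1 x = x + (a * B (w 0) x) • w 1 - (a * B (w 1) x) • w 0) :
    ∃ U : Sylow p (E ⧸ Subgroup.center E), ∀ x, (x ∈ U ∧ ∀ y ∈ U, y * x = x * y) ↔ ∃ a, x = prj E (Z a) := by
  have hfd : FiniteDimensional F V := Module.Finite.of_finite
  have hfE : Finite (V ≃ₗ[F] V) := Finite.of_injective (fun g : V ≃ₗ[F] V => (g : V → V)) DFunLike.coe_injective
  have hfS : Finite (E ⧸ Subgroup.center E) := Quotient.finite _
  obtain ⟨W, hWd⟩ : ∃ W, W = Submodule.span F (Set.range w) := ⟨_, rfl⟩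
  have hW : IsPl B q W := by rw [hWd]; exact HP.isPl h hp
  have mw : ∀ i, w i ∈ W := fun i => by rw [hWd]; exact Submodule.subset_span ⟨i, rfl⟩
  obtain ⟨P, hP⟩ : ∃ P, P = (stE E W).map (prj E) := ⟨_, rfl⟩
  obtain ⟨QS, hQS⟩ : ∃ QS, QS = (QW B E W).map (prj E) := ⟨_, rfl⟩
  have hpp : p.Prime := Fact.out
  have hker : (prj E).ker ≤ stE E W := by rw [QuotientGroup.ker_mk']; exact h.center_le W
  have hPi : ¬ p ∣ P.index := by
    rw [hP, Subgroup.index_map_eq _ (QuotientGroup.mk'_surjective _) hker]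
    exact h.not_dvd_index hp2 hW
  have hQp : IsPGroup p QS := by rw [hQS]; exact (h.QW_pgroup hpp hp2).map _
  have hQP : QS ≤ P := by
    rw [hQS, hP]
    exact Subgroup.map_mono (QW_le_stE W)
  have hQp' : IsPGroup p (QS.subgroupOf P) := hQp.comap_of_injective P.subtype P.subtype_injective
  obtain ⟨R, hR⟩ := hQp'.exists_le_sylow
  obtain ⟨U0, hU0⟩ : ∃ U0, U0 = (R : Subgroup P).map P.subtype := ⟨_, rfl⟩
  have hU1 : IsPGroup p U0 := by rw [hU0]; exact R.2.map _
  have hU2 : ¬ p ∣ U0.index := by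
    rw [hU0, Subgroup.index_map_subtype, hpp.dvd_mul, not_or]
    exact ⟨R.not_dvd_index, hPi⟩
  have hUP : U0 ≤ P := by
    rw [hU0]
    rintro _ ⟨x, -, rfl⟩
    exact x.2
  have hQU : QS ≤ U0 := by
    intro x hx
    rw [hU0]
    exact ⟨⟨x, hQP hx⟩, hR hx, rfl⟩
  refine ⟨hU1.toSylow hU2, fun x => ?_⟩
  simp only [IsPGroup.mem_toSylow]
  have hzinj := Z_inj h hp hZ
  constructor
  · rintro ⟨hx, hxc⟩
    obtain ⟨g, hg, rfl⟩ : x ∈ (stE E W).map (prj E) := by rw [← hP]; exact hUP hx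
    -- `g` commutes with `QW`
    have hcomm : ∀ k ∈ QW B E W, Commute g k := by
      intro k hk
      have h1 := hxc (prj E k) (hQU (by rw [hQS]; exact Subgroup.mem_map_of_mem _ hk))
      rw [← map_mul, ← map_mul] at h1
      have h2 : (k * g)⁻¹ * (g * k) ∈ Subgroup.center E := (QuotientGroup.eq (s := Subgroup.center E)).1 h1
      obtain ⟨c, -, hc⟩ := h.cen _ h2
      have h3 : ∀ x, g.1 (k.1 x) = c • k.1 (g.1 x) := by
        intro x
        have h4 := hc x
        have h5 : ((k * g)⁻¹ * (g * k) : E).1 x = (k * g : E).1.symm (g.1 (k.1 x)) := rfl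
        rw [h5, LinearEquiv.symm_apply_eq, map_smul] at h4
        exact h4
      have h6 := h3 (w 0)
      rw [hk.1 _ (mw 0), hk.1 _ (mem_stE'.1 hg _ (mw 0))] at h6
      have h7 : c = 1 := by
        have h8 : (1 - c) • g.1 (w 0) = 0 := by rw [sub_smul, one_smul, ← h6, sub_self]
        rcases smul_eq_zero.1 h8 with h9 | h9
        · exact (sub_eq_zero.1 h9).symm
        · exfalso
          have h10 : w 0 = 0 := g.1.injective (by rw [h9, map_zero])
          exact hp.li.ne_zero 0 h10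
      apply Subtype.ext
      apply LinearEquiv.ext
      intro x
      show g.1 (k.1 x) = k.1 (g.1 x)
      rw [h3, h7, one_smul]
    obtain ⟨k, hk⟩ : ∃ k : ℕ, (prj E g) ^ p ^ k = 1 := by
      obtain ⟨k, hk⟩ := hU1 ⟨_, hx⟩
      exact ⟨k, congrArg Subtype.val hk⟩
    have hgc : g ^ p ^ k ∈ Subgroup.center E := by
      rw [← map_pow] at hk
      exact (QuotientGroup.eq_one_iff _).1 hk
    -- the scalar
    have hcent : ∀ g' : E, g' ∈ stE E W → (∀ k ∈ QW B E W, Commute g' k) →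
        ∃ c : F, (∀ i, g'.1 (w i) = c • w i) ∧ (c = 1 → ∃ b, g' = Z b) := by
      intro g' hg' hc'
      rw [hWd] at hg'
      refine Z_cent h he hp hZ hg' ?_
      intro u hu z hz x
      rw [← hWd] at hu hz
      obtain ⟨k, hk, hkx⟩ := h.sg_mem_QW hW hu hz
      have h1 := congrArg (fun t : E => t.1 x) (hc' k hk)
      have h2 : (g' * k : E).1 x = g'.1 (k.1 x) := rfl
      have h3 : (k * g' : E).1 x = k.1 (g'.1 x) := rfl
      simp only [h2, h3] at h1
      rw [← hkx, ← hkx]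
      exact h1
    obtain ⟨c, hc, -⟩ := hcent g hg hcomm
    obtain ⟨c', hc', hZ'⟩ := hcent (g * g ^ p ^ k) ((stE E W).mul_mem hg ((stE E W).pow_mem hg _))
      (fun t ht => (hcomm t ht).mul_left ((hcomm t ht).pow_left _))
    have hpow : ∀ n : ℕ, (g ^ n).1 (w 0) = c ^ n • w 0 := by
      intro n
      induction n with
      | zero => rw [pow_zero, pow_zero, one_smul]; rfl
      | succ n ih =>
        have h1 : (g ^ (n + 1)).1 (w 0) = (g ^ n).1 (g.1 (w 0)) := by
          rw [pow_succ]; rfl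
        rw [h1, hc, map_smul, ih, smul_smul, pow_succ']
    obtain ⟨μ, hμ, hgμ⟩ := h.cen _ hgc
    have h0 := hp.li.ne_zero 0
    have hcμ : c ^ p ^ k = μ := by
      have h1 := (hpow (p ^ k)).symm.trans (hgμ (w 0))
      have h2 : (c ^ p ^ k - μ) • w 0 = 0 := by rw [sub_smul, h1, sub_self]
      exact sub_eq_zero.1 ((smul_eq_zero.1 h2).resolve_right h0)
    have hc2 : c * c = 1 := by
      apply eq_one_of_pow_char (p := p) (k := k)
      rw [mul_pow, hcμ, hμ]
    have hodd : Odd (p ^ k) := (hpp.odd_of_ne_two hp2).pow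
    have hc'1 : c' = 1 := by
      have h1 : (g * g ^ p ^ k).1 (w 0) = (c * c ^ p ^ k) • w 0 := by
        show g.1 ((g ^ p ^ k).1 (w 0)) = _
        rw [hpow, map_smul, hc, smul_smul, mul_comm]
      rw [hc'] at h1
      have h2 : (c' - c * c ^ p ^ k) • w 0 = 0 := by rw [sub_smul, h1, sub_self]
      have h3 := sub_eq_zero.1 ((smul_eq_zero.1 h2).resolve_right h0)
      rw [h3]
      obtain ⟨m, hm⟩ := hodd
      rw [hm, pow_succ, pow_mul, pow_two, hc2, one_pow, one_mul, hc2]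
    obtain ⟨b, hb⟩ := hZ' hc'1
    refine ⟨b, ?_⟩
    rw [← hb, map_mul, map_pow, hk, mul_one]
  · rintro ⟨a, rfl⟩
    have hZQ : Z a ∈ QW B E W := by
      refine ⟨fun x hx => ?_, fun y hy => ?_⟩
      · rw [hZ, hW.B0 _ (mw 0) _ hx, hW.B0 _ (mw 1) _ hx]; simp
      · rw [hZ, hy _ (mw 0), hy _ (mw 1)]
        simp
    refine ⟨hQU (by rw [hQS]; exact Subgroup.mem_map_of_mem _ hZQ), fun y hy => ?_⟩
    obtain ⟨g, hg, rfl⟩ : y ∈ (stE E W).map (prj E) := by rw [← hP]; exact hUP hy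
    rw [hWd] at hg
    obtain ⟨c, hc⟩ := exists_Dt h hp hg
    have hSc := Z_Sc h he hp hZ hc
    obtain ⟨k, hk⟩ : ∃ k : ℕ, (prj E g) ^ p ^ k = 1 := by
      obtain ⟨k, hk⟩ := hU1 ⟨_, hy⟩
      exact ⟨k, congrArg Subtype.val hk⟩
    have h1 := Sc_pow hSc (p ^ k) 1
    rw [hk, one_mul, inv_one, mul_one] at h1
    have h2 : (1 : F) = (c : F) ^ p ^ k * 1 := hzinj h1
    rw [mul_one] at h2
    have h3 : (c : F) = 1 := eq_one_of_pow_char (p := p) (k := k) h2.symm
    have h4 := hSc a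
    simp only [h3, one_mul] at h4
    exact mul_inv_eq_iff_eq_mul.1 h4

open scoped Pointwise in
/-- Automorphisms preserve the root group up to conjugacy. -/
theorem PS.hcan (h : PS B q e E) (he : e = 1) (hp2 : p ≠ 2) {w v : Fin 2 → V} (hp : HP B q w v) {Z : F → E}
    (hZ : ∀ a x, (Z a).1 x = x + (a * B (w 0) x) • w 1 - (a * B (w 1) x) • w 0)
    (φ : MulAut (E ⧸ Subgroup.center E)) : ∃ s, ∀ a, ∃ b, s * φ (prj E (Z a)) * s⁻¹ = prj E (Z b) := by
  have hfE : Finite (V ≃ₗ[F] V) := Finite.of_injective (fun g : V ≃ₗ[F] V => (g : V → V)) DFunLike.coe_injective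
  have hfS : Finite (E ⧸ Subgroup.center E) := Quotient.finite _
  obtain ⟨U, hU⟩ := h.sylow_center he hp2 hp hZ
  have h1 : IsPGroup p ((U : Subgroup (E ⧸ Subgroup.center E)).map φ.toMonoidHom) := U.2.map _
  have h2 : ¬ p ∣ ((U : Subgroup (E ⧸ Subgroup.center E)).map φ.toMonoidHom).index := by
    have h3 := Subgroup.index_map_equiv (U : Subgroup (E ⧸ Subgroup.center E)) φ
    have h4 : (U : Subgroup (E ⧸ Subgroup.center E)).map φ.toMonoidHom =
      (U : Subgroup (E ⧸ Subgroup.center E)).map (φ : _ ≃* _) := rfl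
    rw [h4, h3]
    exact U.not_dvd_index
  obtain ⟨s, hs⟩ := MulAction.exists_smul_eq (E ⧸ Subgroup.center E) (h1.toSylow h2) U
  have h5 : ∀ x, x ∈ U ↔ ∃ y ∈ U, x = s * φ y * s⁻¹ := by
    intro x
    have h6 : (U : Subgroup (E ⧸ Subgroup.center E)) =
        MulAut.conj s • (U : Subgroup (E ⧸ Subgroup.center E)).map φ.toMonoidHom := by
      have h7 := congrArg (fun P : Sylow p (E ⧸ Subgroup.center E) => (P : Subgroup (E ⧸ Subgroup.center E))) hs
      simp only [Sylow.coe_subgroup_smul] at h7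
      exact h7.symm
    have h7 : x ∈ U ↔ x ∈ (U : Subgroup (E ⧸ Subgroup.center E)) := Iff.rfl
    rw [h7]
    conv_lhs => rw [h6]
    rw [Subgroup.mem_smul_pointwise_iff_exists]
    constructor
    · rintro ⟨_, ⟨y, hy, rfl⟩, rfl⟩
      exact ⟨y, hy, rfl⟩
    · rintro ⟨y, hy, rfl⟩
      exact ⟨_, ⟨y, hy, rfl⟩, rfl⟩
  refine ⟨s, fun a => ?_⟩
  obtain ⟨h6, h7⟩ := (hU (prj E (Z a))).2 ⟨a, rfl⟩
  apply (hU _).1
  refine ⟨(h5 _).2 ⟨_, h6, rfl⟩, fun y hy => ?_⟩
  obtain ⟨x, hx, rfl⟩ := (h5 y).1 hy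
  have h8 := h7 x hx
  have h9 := congrArg φ h8
  rw [map_mul, map_mul] at h9
  have h10 : s * φ x * s⁻¹ * (s * φ (prj E (Z a)) * s⁻¹) = s * (φ x * φ (prj E (Z a))) * s⁻¹ := by group
  rw [h10, h9]
  group

theorem not_sub_one_dvd {p : ℕ} (hp : 3 < p) : ¬ ((p : ℤ) - 1 ∣ 2) := by
  intro h
  have h1 := Int.le_of_dvd (by norm_num) h
  omega

/-- Conjugates of elements with a determinant. -/
theorem Dt.conj_symm {t a : V ≃ₗ[F] V} {W : Submodule F V} {c : F} (h : Dt t (W.map (a : V →ₗ[F] V)) c) :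
    Dt (a⁻¹ * t * a) W c := by
  have h1 := h.map (h := a⁻¹)
  rw [inv_inv, ← map_mul_sub, inv_mul_cancel, map_one_sub] at h1
  exact h1

theorem Dt.conj_symm' {t a : E} {W : Submodule F V} {c : F} (h : Dt t.1 (W.map (a.1 : V →ₗ[F] V)) c) :
    Dt (a⁻¹ * t * a : E).1 W c := by
  show Dt (a.1⁻¹ * t.1 * a.1) W c
  exact h.conj_symm

/-- The root group is not normal. -/
theorem PS.exists_not_nrm (h : PS B q e E) (he : e = 1) {w v : Fin 2 → V} (hp : HP B q w v) {Z : F → E}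
    (hZ : ∀ a x, (Z a).1 x = x + (a * B (w 0) x) • w 1 - (a * B (w 1) x) • w 0) :
    ∃ s, ¬ H687.Nrm (fun a => prj E (Z a)) s := by
  obtain ⟨x, hx, hxw, -⟩ := h.hyp _ _ _ _ hp (HP.swap h hp)
  refine ⟨prj E ⟨x, hx⟩, fun h2 => ?_⟩
  obtain ⟨b, hb⟩ := h2 1
  simp only [← map_mul, ← map_inv] at hb
  have h3 : (Z b)⁻¹ * (⟨x, hx⟩ * Z 1 * ⟨x, hx⟩⁻¹) ∈ Subgroup.center E :=
    (QuotientGroup.eq (s := Subgroup.center E)).1 hb.symm
  obtain ⟨c, hc0, hc⟩ := h.cen _ h3
  have h5 := hc (w 0)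
  have h6 : ((Z b)⁻¹ * (⟨x, hx⟩ * Z 1 * ⟨x, hx⟩⁻¹) : E).1 (w 0) = (Z b).1.symm (x ((Z 1).1 (x.symm (w 0)))) := rfl
  rw [h6, LinearEquiv.symm_apply_eq, map_smul, Z_w hp hZ, hZ] at h5
  have h14 : ∀ i, B (w i) (x.symm (w 0)) = B (v i) (w 0) := by
    intro i
    have := h.isoB x hx (w i) (x.symm (w 0))
    rw [← this, hxw, x.apply_symm_apply]
  have hvw : ∀ i j, B (v i) (w j) = if i = j then 1 else 0 := by
    intro i j
    rw [h.symm, hp.wv, he, one_mul]
    by_cases hij : i = j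
    · rw [if_pos hij, if_pos hij.symm]
    · rw [if_neg hij, if_neg fun h => hij h.symm]
  rw [h14, h14, hvw, hvw, map_sub, map_add, map_smul, map_smul, hxw, hxw, x.apply_symm_apply] at h5
  have h7 := congrArg (B (w 1)) h5
  simp [hp.ww, hp.wv] at h7

/-- **The first character, orthogonal case.** -/
theorem PS.alpha_orth [Finite F] (h : PS B q e E) (he : e = 1) (hp3 : 3 < p) {w v : Fin 2 → V} (hp : HP B q w v) :
    ∃ β : E ⧸ Subgroup.center E → ℂ, Cfsg.IsIrrCharacter (E ⧸ Subgroup.center E) β ∧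
      (∃ a : ℕ, β 1 = a ∧ a ≠ 1 ∧ ¬ p ∣ a ∧ a ≤ ((stE E (Submodule.span F (Set.range w))).map (prj E)).index) ∧
      ∃ Ψ : MulAut (E ⧸ Subgroup.center E) → ℂ, Cfsg.IsIrrCharacter (MulAut (E ⧸ Subgroup.center E)) Ψ ∧
        ∀ s, Ψ (MulAut.conj s) = β s := by
  classical
  have hfd : FiniteDimensional F V := Module.Finite.of_finite
  have hfE : Finite (V ≃ₗ[F] V) := Finite.of_injective (fun g : V ≃ₗ[F] V => (g : V → V)) DFunLike.coe_injective
  have hfS : Finite (E ⧸ Subgroup.center E) := Quotient.finite _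
  have hft : Fintype (E ⧸ Subgroup.center E) := Fintype.ofFinite _
  obtain ⟨Z, hZ⟩ := h.exists_Z he hp
  have z_add : ∀ a b, prj E (Z (a + b)) = prj E (Z a) * prj E (Z b) := fun a b => by
    rw [Z_add hp hZ, map_mul]
  have z_inj := Z_inj h hp hZ
  have hp2 : p ≠ 2 := by omega
  have hW := HP.isPl h hp
  have hNrm : ∀ g ∈ stE E (Submodule.span F (Set.range w)), H687.Nrm (fun a => prj E (Z a)) (prj E g) := by
    intro g hg
    obtain ⟨c, hc⟩ := exists_Dt h hp hg
    exact (Z_Sc h he hp hZ hc).nrm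
  have hwit : ∀ n ∈ (Set.univ : Set (E ⧸ Subgroup.center E)), H687.Nrm (fun a => prj E (Z a)) n ∨
      ∃ i j : ℤ, H687.Wit (fun a => prj E (Z a)) n i j ∧ ¬ ((p : ℤ) - 1 ∣ i - j) := by
    intro n _
    obtain ⟨a, rfl⟩ := QuotientGroup.mk'_surjective _ n
    by_cases ha : a ∈ stE E (Submodule.span F (Set.range w))
    · left
      exact hNrm a ha
    · right
      have hconj : ∀ t : E, (prj E a)⁻¹ * prj E t * prj E a = prj E (a⁻¹ * t * a) := fun t => by
        rw [map_mul, map_mul, map_inv]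
      rcases h.wit hW (h.isPl_map hW a.2) (fun h1 => ha h1.symm) with h1 | h1
      · refine ⟨1, -1, fun d => ?_, by
          rw [show (1 : ℤ) - -1 = 2 by norm_num]
          exact not_sub_one_dvd hp3⟩
        obtain ⟨t, ht, h2, h3⟩ := h1 d d.ne_zero
        obtain ⟨T, rfl⟩ : ∃ T : E, T.1 = t := ⟨⟨t, ht⟩, rfl⟩
        refine ⟨prj E T, ?_, ?_⟩
        · rw [zpow_one]
          exact Z_Sc h he hp hZ h2
        · show H687.Sc _ ((prj E a)⁻¹ * prj E T * prj E a) _
          rw [hconj, _root_.zpow_neg_one, Units.val_inv_eq_inv_val]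
          exact Z_Sc h he hp hZ (t := a⁻¹ * T * a) h3.conj_symm'
      · refine ⟨2, 0, fun d => ?_, by
          rw [show (2 : ℤ) - 0 = 2 by norm_num]
          exact not_sub_one_dvd hp3⟩
        obtain ⟨t, ht, h2, h3⟩ := h1 d d.ne_zero
        obtain ⟨T, rfl⟩ : ∃ T : E, T.1 = t := ⟨⟨t, ht⟩, rfl⟩
        refine ⟨prj E T, ?_, ?_⟩
        · have h4 : ((d ^ (2 : ℤ) : Fˣ) : F) = d * d := by
            rw [zpow_ofNat, pow_two, Units.val_mul]
          rw [h4]
          exact Z_Sc h he hp hZ h2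
        · show H687.Sc _ ((prj E a)⁻¹ * prj E T * prj E a) _
          rw [hconj, zpow_zero, Units.val_one]
          exact Z_Sc h he hp hZ (t := a⁻¹ * T * a) h3.conj_symm'
  obtain ⟨β, hβ, hβ1, hΨ⟩ := H687.delta_char (p := p) (z := fun a => prj E (Z a)) z_add z_inj hp3
    (h.hcan he hp2 hp hZ) Set.univ (fun y => ⟨1, 1, fun a => ⟨a, by simp⟩, fun a => ⟨a, by simp⟩, trivial⟩) hwit
  have hle : (stE E (Submodule.span F (Set.range w))).map (prj E) ≤ H687.NS (fun a => prj E (Z a)) := by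
    rintro _ ⟨g, hg, rfl⟩
    exact (H687.conj_mem_StA_iff z_inj).2 (hNrm g hg)
  have hdvd := Subgroup.index_dvd_of_le hle
  have hne : (H687.NS (fun a => prj E (Z a))).index ≠ 1 := by
    rw [Ne, Subgroup.index_eq_one]
    intro htop
    obtain ⟨s, hs⟩ := h.exists_not_nrm he hp hZ
    apply hs
    rw [← H687.conj_mem_StA_iff z_inj]
    have : s ∈ H687.NS (fun a => prj E (Z a)) := by rw [htop]; trivial
    exact this
  obtain ⟨n, hn⟩ : ∃ n, n = (H687.NS (fun a => prj E (Z a))).index := ⟨_, rfl⟩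
  rw [← hn] at hne hdvd hβ1
  have hker : (prj E).ker ≤ stE E (Submodule.span F (Set.range w)) := by
    rw [QuotientGroup.ker_mk']; exact h.center_le _
  have hPi : ¬ p ∣ ((stE E (Submodule.span F (Set.range w))).map (prj E)).index := by
    rw [Subgroup.index_map_eq _ (QuotientGroup.mk'_surjective _) hker]
    exact h.not_dvd_index hp2 hW
  have hP0 : ((stE E (Submodule.span F (Set.range w))).map (prj E)).index ≠ 0 :=
    Subgroup.index_ne_zero_of_finite
  exact ⟨β, hβ, ⟨n, hβ1, hne, fun hd => hPi (hd.trans hdvd), Nat.le_of_dvd (Nat.pos_of_ne_zero hP0) hdvd⟩, hΨ⟩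

end Cfsg.Agent.H877.Pol
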