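import Cfsg.Agent.H877.PolG

/-!
# Polar spaces with a group: the first character, symplectic case (helper877)

* `lin_char` : characters induced from a linear character of a subgroup of `MulAut S`;
* `exists_hom_of_graph` ;
* `PS.alpha_symp` : the first character, `e = -1`.
-/

set_option autoImplicit false

namespace Cfsg.Agent.H877.Pol

open Matrix

universe u v

/-- Characters induced from a linear character of a subgroup of `MulAut S`. -/
theorem lin_char {S : Type u} [Group S] [Finite S] (N : Subgroup (MulAut S)) (L : N →* ℂˣ)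
    (hcan : ∀ φ : MulAut S, ∃ s : S, MulAut.conj s * φ ∈ N)
    (hirr : ∀ y : S, MulAut.conj y ∉ N → ∃ (t : S) (h1 : MulAut.conj t ∈ N) (h2 : MulAut.conj (y⁻¹ * t * y) ∈ N),
      L ⟨_, h1⟩ ≠ L ⟨_, h2⟩) :
    ∃ β : S → ℂ, Cfsg.IsIrrCharacter S β ∧ β 1 = ((N.comap MulAut.conj).index : ℂ) ∧
      ∃ Ψ : MulAut S → ℂ, Cfsg.IsIrrCharacter (MulAut S) Ψ ∧ ∀ s, Ψ (MulAut.conj s) = β s := by
  classical
  have hS : Fintype S := Fintype.ofFinite _
  have : Fintype (MulAut S) := Fintype.ofFinite _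
  obtain ⟨r, hr⟩ : ∃ r : (N.comap (MulAut.conj : S →* MulAut S)) →* ℂˣ,
      r = L.comp (MulAut.conj.subgroupComap N) := ⟨_, rfl⟩
  have hr' : ∀ (t : S) (ht : MulAut.conj t ∈ N), r ⟨t, ht⟩ = L ⟨_, ht⟩ := by
    intro t ht
    rw [hr]; rfl
  have hirr : Cfsg.IsIrrCharacter S (Cfsg.indFun (N.comap MulAut.conj) fun t => (r t : ℂ)) := by
    apply CharactersDeep.MackeyLinear.isIrrCharacter_indFun
    intro x hx
    obtain ⟨t, h1, h2, h3⟩ := hirr x hx
    exact ⟨⟨t, h1⟩, h2, by rw [hr' _ h1, hr' _ h2]; exact h3⟩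
  refine ⟨_, hirr, ?_, ?_⟩
  · rw [H687.indFun_one, map_one]
    simp
  · have hΘ : Cfsg.IsCharacter (MulAut S) (Cfsg.indFun N fun t => (L t : ℂ)) :=
      S0148.result _ _ (Characters.Linear.isCharacter_hom _)
    have hcomp : (Cfsg.indFun N fun t => (L t : ℂ)) ∘ (MulAut.conj : S →* MulAut S) =
        Cfsg.indFun (N.comap MulAut.conj) fun t => (r t : ℂ) := by
      funext s
      rw [Function.comp_apply, H687.indFun_comp MulAut.conj N ?_ (fun t => (L t : ℂ)) ?_ s]
      · congr 1
        funext t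
        rw [hr' t.1 t.2]
      · intro φ
        obtain ⟨s, hs⟩ := hcan φ
        exact ⟨s⁻¹, by rw [map_inv, inv_inv]; exact hs⟩
      · intro a b
        show ((L (a⁻¹ * b * a) : ℂˣ) : ℂ) = (L b : ℂ)
        rw [map_mul, map_mul, map_inv, mul_comm, mul_inv_cancel_left]
    obtain ⟨a, b, h1, h2, hab⟩ := H687.inner_mono (MulAut.conj : S →* MulAut S) hΘ hΘ
    have h4 : Cfsg.classInner (Cfsg.indFun (N.comap MulAut.conj) fun t => (r t : ℂ))
        (Cfsg.indFun (N.comap MulAut.conj) fun t => (r t : ℂ)) = 1 := Characters.Core.classInner_irr_self hirr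
    have hb : b = 1 := by
      rw [hcomp, h4] at h2
      exact_mod_cast h2.symm
    have ha : a ≠ 0 := by
      rintro rfl
      have h5 := Characters.Core.classInner_self_eq_zero (by rw [h1]; simp :
        Cfsg.classInner (Cfsg.indFun N fun t => (L t : ℂ)) (Cfsg.indFun N fun t => (L t : ℂ)) = 0)
      have h6 : Cfsg.indFun (N.comap MulAut.conj) (fun t => (r t : ℂ)) = 0 := by
        rw [← hcomp, h5]; rfl
      exact Characters.Core.isIrr_apply_one_ne_zero hirr (congrFun h6 1)
    have ha1 : a = 1 := by omega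
    obtain ⟨Ψ, hΨ, hΨc, -⟩ := H687.exists_ext_of_norm (MulAut.conj : S →* MulAut S) hΘ
      (by rw [h1, h2, ha1, hb]) hirr (by rw [hcomp, h4]; exact one_ne_zero)
    exact ⟨Ψ, hΨ, fun s => congrFun hΨc s⟩

/-- Homomorphisms from multiplicative relations, for finite groups. -/
theorem exists_hom_of_graph {A : Type u} {T : Type v} [Group A] [Group T] [Finite A] [Finite T] (R : A → T → Prop)
    (h1 : R 1 1) (hmul : ∀ a b c d, R a c → R b d → R (a * b) (c * d)) (hu : ∀ c, R 1 c → c = 1) :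
    ∃ (N : Subgroup A) (f : N →* T), (∀ a, a ∈ N ↔ ∃ c, R a c) ∧ ∀ a c (_ : R a c) (ha : a ∈ N), f ⟨a, ha⟩ = c := by
  have hpow : ∀ a c, R a c → ∀ n : ℕ, R (a ^ n) (c ^ n) := by
    intro a c hac n
    induction n with
    | zero => rw [pow_zero, pow_zero]; exact h1
    | succ n ih => rw [pow_succ, pow_succ]; exact hmul _ _ _ _ ih hac
  have hinv : ∀ a c, R a c → R a⁻¹ c⁻¹ := by
    intro a c hac
    obtain ⟨m, hm⟩ : ∃ m, Nat.card A * Nat.card T = m + 1 := ⟨Nat.card A * Nat.card T - 1, by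
      have := Nat.mul_pos (Nat.card_pos (α := A)) (Nat.card_pos (α := T))
      omega⟩
    have h2 := hpow a c hac m
    have h3 : a ^ m = a⁻¹ := by
      rw [eq_inv_iff_mul_eq_one, ← pow_succ, ← hm, pow_mul, pow_card_eq_one', one_pow]
    have h4 : c ^ m = c⁻¹ := by
      rw [eq_inv_iff_mul_eq_one, ← pow_succ, ← hm, mul_comm, pow_mul, pow_card_eq_one', one_pow]
    rwa [h3, h4] at h2
  have huniq : ∀ a c d, R a c → R a d → c = d := by
    intro a c d hc hd
    have h2 := hmul _ _ _ _ (hinv _ _ hc) hd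
    rw [inv_mul_cancel] at h2
    exact inv_mul_eq_one.1 (hu _ h2)
  let N : Subgroup A :=
    { carrier := {a | ∃ c, R a c}
      one_mem' := ⟨1, h1⟩
      mul_mem' := by
        rintro a b ⟨c, hc⟩ ⟨d, hd⟩
        exact ⟨_, hmul _ _ _ _ hc hd⟩
      inv_mem' := by
        rintro a ⟨c, hc⟩
        exact ⟨_, hinv _ _ hc⟩ }
  have hN : ∀ a : N, ∃ c, R a c := fun a => a.2
  choose f hf using hN
  refine ⟨N, ⟨⟨f, huniq _ _ _ (hf 1) h1⟩, fun a b => huniq _ _ _ (hf (a * b)) (hmul _ _ _ _ (hf a) (hf b))⟩,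
    fun a => Iff.rfl, fun a c hac ha => huniq _ _ _ (hf ⟨a, ha⟩) hac⟩

section

variable {F : Type u} {V : Type v} [Field F] [AddCommGroup V] [Module F V]
  {B : LinearMap.BilinForm F V} {q : V → F} {e : F} {E : Subgroup (V ≃ₗ[F] V)}

theorem nm_map (p : ℕ) [Fact p.Prime] [CharP F p] (θ : F ≃+* F) (x : Fˣ) :
    H687.nm p F (Units.map (θ : F →* F) x) = H687.nm p F x := by
  let _ := ZMod.algebra F p
  apply Units.ext
  show Algebra.norm (ZMod p) (θ (x : F)) = Algebra.norm (ZMod p) (x : F)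
  let θ' : F ≃ₐ[ZMod p] F := AlgEquiv.ofRingEquiv (f := θ) (fun a => by
    have h1 : ((θ : F →+* F).comp (algebraMap (ZMod p) F)) = algebraMap (ZMod p) F := Subsingleton.elim _ _
    exact congrArg (fun f : ZMod p →+* F => f a) h1)
  exact Algebra.norm_eq_of_algEquiv θ' (x : F)

theorem Ind.mul {φ ψ : MulAut (E ⧸ Subgroup.center E)} {g k : V → V} (hg : Ind E φ g) (hk : Ind E ψ k) :
    Ind E (φ * ψ) (g ∘ k) := by
  intro t
  obtain ⟨t', h1, h2⟩ := hk t
  obtain ⟨t'', h3, h4⟩ := hg t'
  refine ⟨t'', ?_, fun x => ?_⟩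
  · rw [MulAut.mul_apply, h1, h3]
  · show t''.1 (g (k x)) = g (k (t.1 x))
    rw [h4, h2]

theorem Ind.conj (s : E) : Ind E (MulAut.conj (prj E s)) s.1 := by
  intro t
  refine ⟨s * t * s⁻¹, ?_, fun x => ?_⟩
  · rw [MulAut.conj_apply, map_mul, map_mul, map_inv]
  · show s.1 (t.1 (s.1.symm (s.1 x))) = _
    rw [s.1.symm_apply_apply]

theorem SemiSim.comp {g k : V → V} {θ η : F ≃+* F} {μ ν : F} (hg : SemiSim B q g θ μ) (hk : SemiSim B q k η ν) :
    SemiSim B q (g ∘ k) (η.trans θ) (μ * θ ν) where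
  ne := mul_ne_zero hg.ne (by simpa using hk.ne)
  inj := hg.inj.comp hk.inj
  add x y := by
    show g (k (x + y)) = g (k x) + g (k y)
    rw [hk.add, hg.add]
  smul c x := by
    show g (k (c • x)) = θ (η c) • g (k x)
    rw [hk.smul, hg.smul]
  form x y := by
    show B (g (k x)) (g (k y)) = μ * θ ν * θ (η (B x y))
    rw [hg.form, hk.form, map_mul, mul_assoc]
  quad x := by
    show q (g (k x)) = μ * θ ν * θ (η (q x))
    rw [hg.quad, hk.quad, map_mul, mul_assoc]

theorem PS.semiSim (h : PS B q e E) (s : E) : SemiSim B q s.1 (RingEquiv.refl F) 1 where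
  ne := one_ne_zero
  inj := s.1.injective
  add x y := map_add s.1 x y
  smul c x := map_smul s.1 c x
  form x y := by rw [one_mul]; exact h.isoB s.1 s.2 x y
  quad x := by rw [one_mul]; exact h.isoq s.1 s.2 x

/-- **Semisimilitudes inducing the trivial automorphism are scalars.** -/
theorem PS.scalar (h : PS B q e E) (he : e = -1) {k : V → V} {θ : F ≃+* F} {μ : F} (hk : SemiSim B q k θ μ)
    (hi : Ind E 1 k) {w v : Fin 2 → V} (hp : HP B q w v) : ∃ c : F, ∀ x, k x = c • x := by
  have hq : ∀ x, q x = 0 := by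
    rcases h.big with ⟨-, h1⟩ | ⟨h1, -⟩
    · exact h1
    · exfalso
      apply h.two
      rw [he] at h1
      linear_combination -h1
  have hself : ∀ x, B x x = 0 := fun x => h.B_self x (hq x)
  have h0 : k 0 = 0 := by
    have := hk.add 0 0
    rw [add_zero] at this
    exact left_eq_add.1 this
  -- lines are fixed
  have hline : ∀ u, u ≠ 0 → ∃ c : F, k u = c • u := by
    intro u hu
    obtain ⟨T, hT, hTx⟩ := h.sg u u (hq u) (hself u)
    have hTx' : ∀ x, T x = x + (2 * B u x) • u := by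
      intro x
      rw [hTx, hq, he]
      module
    obtain ⟨T', hT'1, hT'2⟩ := hi ⟨T, hT⟩
    have h3 : (⟨T, hT⟩ : E)⁻¹ * T' ∈ Subgroup.center E := (QuotientGroup.eq (s := Subgroup.center E)).1 hT'1
    obtain ⟨c, -, hc⟩ := h.cen _ h3
    have hcT : ∀ x, k (T x) = c • T (k x) := by
      intro x
      have h5 := hc (k x)
      have h6 : ((⟨T, hT⟩ : E)⁻¹ * T' : E).1 (k x) = T.symm (T'.1 (k x)) := rfl
      rw [h6, LinearEquiv.symm_apply_eq, map_smul, hT'2] at h5
      exact h5
    have hku0 : k u ≠ 0 := fun h7 => hu (hk.inj (by rw [h7, h0]))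
    have hc1 : c = 1 := by
      have h8 := hcT u
      rw [hTx', hTx', hself, mul_zero, zero_smul, add_zero] at h8
      have h9 := congrArg (B (k u)) h8
      rw [map_smul, map_add, hself, map_smul, zero_add, smul_eq_mul, smul_eq_mul, h.symm u (k u), he] at h9
      have h10 : c * (B u (k u) * B u (k u)) = 0 := by
        have h11 : (2 : F) * (c * (B u (k u) * B u (k u))) = 0 := by linear_combination h9
        exact (mul_eq_zero.1 h11).resolve_left h.two
      rcases mul_eq_zero.1 h10 with h11 | h11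
      · rw [h11, zero_smul] at h8
        exact absurd h8 hku0
      · rw [mul_self_eq_zero.1 h11, mul_zero, zero_smul, add_zero] at h8
        have h12 : (1 - c) • k u = 0 := by rw [sub_smul, one_smul, ← h8, sub_self]
        exact (sub_eq_zero.1 ((smul_eq_zero.1 h12).resolve_right hku0)).symm
    obtain ⟨y, hy⟩ : ∃ y, B u y ≠ 0 := by
      by_contra hcon
      push Not at hcon
      exact hu (h.nd u hcon)
    have h13 := hcT y
    rw [hTx', hTx', hc1, one_smul, hk.add, hk.smul] at h13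
    have h14 := add_left_cancel h13
    have h15 : θ (2 * B u y) ≠ 0 := by simpa using And.intro h.two hy
    refine ⟨(θ (2 * B u y))⁻¹ * (2 * B u (k y)), ?_⟩
    rw [mul_smul, ← h14, smul_smul, inv_mul_cancel₀ h15, one_smul]
  -- the scalars agree
  have hind : ∀ u u', LinearIndependent F ![u, u'] → ∀ c d : F, k u = c • u → k u' = d • u' → c = d := by
    intro u u' hli c d hc hd
    have hne : u + u' ≠ 0 := by
      intro h1
      have h2 := LinearIndependent.pair_iff.1 hli 1 1 (by rw [one_smul, one_smul, h1])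
      exact one_ne_zero h2.1
    obtain ⟨t, ht⟩ := hline _ hne
    rw [hk.add, hc, hd] at ht
    have h1 : (c - t) • u + (d - t) • u' = 0 := by
      rw [sub_smul, sub_smul]
      have : c • u - t • u + (d • u' - t • u') = (c • u + d • u') - t • (u + u') := by module
      rw [this, ht, sub_self]
    obtain ⟨h2, h3⟩ := LinearIndependent.pair_iff.1 hli _ _ h1
    rw [sub_eq_zero.1 h2, sub_eq_zero.1 h3]
  have hli := hp.li
  obtain ⟨c, hc⟩ := hline (w 0) (hli.ne_zero 0)
  obtain ⟨d, hd⟩ := hline (w 1) (hli.ne_zero 1)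
  have hcd : c = d := hind (w 0) (w 1) (by rw [fin2_eta]; exact hli) c d hc hd
  refine ⟨c, fun x => ?_⟩
  by_cases hx : x = 0
  · rw [hx, h0, smul_zero]
  obtain ⟨t, ht⟩ := hline x hx
  have htc : t = c := by
    by_cases h1 : LinearIndependent F ![x, w 0]
    · exact hind _ _ h1 _ _ ht hc
    · rw [hcd]
      refine hind x (w 1) ?_ _ _ ht hd
      -- `x` is a multiple of `w 0`
      rw [LinearIndependent.pair_iff] at h1 ⊢
      push Not at h1
      obtain ⟨a, b, hab, hab0⟩ := h1
      have ha : a ≠ 0 := by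
        rintro rfl
        rw [zero_smul, zero_add] at hab
        exact hab0 rfl ((smul_eq_zero.1 hab).resolve_right (hli.ne_zero 0))
      have hx' : x = (-(a⁻¹ * b)) • w 0 := by
        have h2 : a • x = -(b • w 0) := by rw [← add_eq_zero_iff_eq_neg]; exact hab
        rw [neg_smul, mul_smul, ← smul_neg, ← h2, smul_smul, inv_mul_cancel₀ ha, one_smul]
      intro s s' hss
      rw [hx', smul_smul] at hss
      have h3 := Fintype.linearIndependent_iff.1 hli ![s * -(a⁻¹ * b), s'] (by
        rw [Fin.sum_univ_two]; exact hss)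
      have h4 := h3 0
      have h5 := h3 1
      simp only [Matrix.cons_val_zero, Matrix.cons_val_one] at h4 h5
      refine ⟨?_, h5⟩
      rcases mul_eq_zero.1 h4 with h6 | h6
      · exact h6
      · exfalso
        apply hx
        rw [hx', h6, zero_smul]
  rw [ht, htc]

end

end Cfsg.Agent.H877.Pol
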