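import Cfsg.Agent.H877.PolH

/-!
# Polar spaces with a group: the first character, symplectic case, end (helper877)
-/

set_option autoImplicit false

namespace Cfsg.Agent.H877.Pol

open Matrix

universe u v

variable {F : Type u} {V : Type v} [Field F] [AddCommGroup V] [Module F V]
  {B : LinearMap.BilinForm F V} {q : V → F} {e : F} {E : Subgroup (V ≃ₗ[F] V)}

/-- The graph of the linear character `N(det_W g / μ)`. -/
def Rel (p : ℕ) [Fact p.Prime] [CharP F p] (B : LinearMap.BilinForm F V) (q : V → F) (E : Subgroup (V ≃ₗ[F] V))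
    (w : Fin 2 → V) (φ : MulAut (E ⧸ Subgroup.center E)) (c : (ZMod p)ˣ) : Prop :=
  ∃ (g : V → V) (θ : F ≃+* F) (μ : Fˣ) (H : GL (Fin 2) F), SemiSim B q g θ (μ : F) ∧ Ind E φ g ∧
    (∀ j, g (w j) = comb H.val w j) ∧ c = H687.nm p F (H.det * μ⁻¹)

variable {p : ℕ} [Fact p.Prime] [CharP F p]

theorem PS.rel_conj (h : PS B q e E) {w : Fin 2 → V} (hw : LinearIndependent F w) {s : E} {c : Fˣ}
    (hs : Dt s.1 (Submodule.span F (Set.range w)) (c : F)) :
    Rel p B q E w (MulAut.conj (prj E s)) (H687.nm p F c) := by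
  obtain ⟨M, hM⟩ : ∃ M : Matrix (Fin 2) (Fin 2) F, Mat (s.1 : V ≃ₗ[F] V) w M := by
    obtain ⟨M, hM⟩ := exists_comb (F := F) (w := w) (x := fun j => s.1 (w j)) (fun j =>
      hs.mem (Submodule.subset_span ⟨j, rfl⟩))
    exact ⟨M, fun j => congrFun hM j⟩
  have h1 := hs.det hw rfl hM
  have h2 : M.det ≠ 0 := by rw [h1]; exact c.ne_zero
  refine ⟨s.1, RingEquiv.refl F, 1, GeneralLinearGroup.mkOfDetNeZero M h2, ?_, Ind.conj s, hM, ?_⟩
  · rw [Units.val_one]
    exact h.semiSim s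
  · rw [inv_one, mul_one]
    congr 1
    apply Units.ext
    rw [GeneralLinearGroup.val_det_apply]
    exact h1.symm

theorem PS.rel_mul {w : Fin 2 → V} {φ ψ : MulAut (E ⧸ Subgroup.center E)} {c d : (ZMod p)ˣ}
    (h1 : Rel p B q E w φ c) (h2 : Rel p B q E w ψ d) : Rel p B q E w (φ * ψ) (c * d) := by
  obtain ⟨g, θ, μ, H, hg, hi, hH, rfl⟩ := h1
  obtain ⟨g', θ', μ', H', hg', hi', hH', rfl⟩ := h2
  refine ⟨g ∘ g', θ'.trans θ, μ * Units.map (θ : F →* F) μ', H * GeneralLinearGroup.map (θ : F →+* F) H',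
    ?_, hi.mul hi', ?_, ?_⟩
  · exact hg.comp hg'
  · intro j
    show g (g' (w j)) = comb (H.val * H'.val.map θ) w j
    rw [hH', hg.comb, ← comb_comb]
    congr 1
    funext i
    exact hH i
  · rw [← nm_map p θ (H'.det * μ'⁻¹), ← map_mul]
    congr 1
    rw [map_mul, mul_inv, map_mul, map_inv]
    have h3 : (GeneralLinearGroup.map (θ : F →+* F) H').det = Units.map (θ : F →* F) H'.det := by
      apply Units.ext
      exact (RingHom.map_det (θ : F →+* F) H'.val).symm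
    rw [h3]
    exact mul_mul_mul_comm _ _ _ _

theorem PS.rel_one (h : PS B q e E) (he : e = -1) {w v : Fin 2 → V} (hp : HP B q w v) {c : (ZMod p)ˣ}
    (h1 : Rel p B q E w 1 c) : c = 1 := by
  obtain ⟨g, θ, μ, H, hg, hi, hH, rfl⟩ := h1
  obtain ⟨l, hl⟩ := h.scalar he hg hi hp
  have h2 : H.val = Matrix.scalar (Fin 2) l := mat_scalar hp.li hl hH
  have h3 : (μ : F) = l * l := by
    have h4 := hg.form (w 0) (v 0)
    rw [hp.wv, if_pos rfl, map_one, mul_one, hl, hl] at h4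
    rw [← h4, map_smul, map_smul, LinearMap.smul_apply, hp.wv, if_pos rfl]
    simp
  have h5 : H.det = μ := by
    apply Units.ext
    rw [GeneralLinearGroup.val_det_apply, h3]
    show H.val.det = l * l
    rw [h2, Matrix.scalar_apply, Matrix.det_diagonal, Fin.prod_univ_two]
  rw [h5, mul_inv_cancel, map_one]

set_option maxHeartbeats 1000000 in
/-- **The first character, symplectic case.** -/
theorem PS.alpha_symp [Finite V] [Finite F] (h : PS B q e E) (he : e = -1) (hp3 : 3 < p) {w v : Fin 2 → V}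
    (hp : HP B q w v)
    (haut : ∀ φ : MulAut (E ⧸ Subgroup.center E), ∃ (g : V → V) (θ : F ≃+* F) (μ : F), SemiSim B q g θ μ ∧ Ind E φ g) :
    ∃ β : E ⧸ Subgroup.center E → ℂ, Cfsg.IsIrrCharacter (E ⧸ Subgroup.center E) β ∧
      (∃ a : ℕ, β 1 = a ∧ a ≠ 1 ∧ ¬ p ∣ a ∧ a ≤ ((stE E (Submodule.span F (Set.range w))).map (prj E)).index) ∧
      ∃ Ψ : MulAut (E ⧸ Subgroup.center E) → ℂ, Cfsg.IsIrrCharacter (MulAut (E ⧸ Subgroup.center E)) Ψ ∧
        ∀ s, Ψ (MulAut.conj s) = β s := by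
  classical
  have hfd : FiniteDimensional F V := Module.Finite.of_finite
  have hfE : Finite (V ≃ₗ[F] V) := Finite.of_injective (fun g : V ≃ₗ[F] V => (g : V → V)) DFunLike.coe_injective
  have hfS : Finite (E ⧸ Subgroup.center E) := Quotient.finite _
  have hp2 : p ≠ 2 := by omega
  have hW := HP.isPl h hp
  have hone : Rel p B q E w 1 1 := by
    refine ⟨id, RingEquiv.refl F, 1, 1, ?_, ?_, ?_, ?_⟩
    · rw [Units.val_one]
      exact h.semiSim 1
    · exact fun t => ⟨t, rfl, fun _ => rfl⟩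
    · intro j
      rw [Units.val_one, comb_one]; rfl
    · rw [map_one, inv_one, mul_one, map_one]
  obtain ⟨N, f, hN, hf⟩ := exists_hom_of_graph (Rel p B q E w) hone (fun _ _ _ _ h1 h2 => PS.rel_mul h1 h2)
    (fun c hc => h.rel_one he hp hc)
  obtain ⟨ψ, hψ⟩ := H687.exists_psi p
  have hmem : ∀ s ∈ stE E (Submodule.span F (Set.range w)), MulAut.conj (prj E s) ∈ N := by
    intro s hs
    obtain ⟨c, hc⟩ := exists_Dt h hp hs
    exact (hN _).2 ⟨_, h.rel_conj hp.li hc⟩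
  obtain ⟨d, hd⟩ := H687.exists_order (p := p) (F := F) hp3
  have hd2 : H687.nm p F d * H687.nm p F d ≠ 1 := by
    intro h1
    exact not_sub_one_dvd hp3 (hd 2 (by rw [zpow_ofNat, pow_two]; exact h1))
  obtain ⟨β, hβ, hβ1, hΨ⟩ := lin_char N (ψ.comp f) (by
    intro φ
    obtain ⟨g, θ, μ, hg, hi⟩ := haut φ
    obtain ⟨s, hs, hsw⟩ := h.straight hg hp
    refine ⟨prj E ⟨s, hs⟩, (hN _).2 ⟨_, ⟨s ∘ g, θ.trans (RingEquiv.refl F), Units.mk0 (1 * μ) (by
      rw [one_mul]; exact hg.ne), 1, (h.semiSim ⟨s, hs⟩).comp hg, (Ind.conj ⟨s, hs⟩).mul hi, fun j => ?_, rfl⟩⟩⟩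
    show s (g (w j)) = _
    rw [hsw, Units.val_one, comb_one]) (by
    intro y hy
    obtain ⟨a, rfl⟩ := QuotientGroup.mk'_surjective _ y
    have ha : a ∉ stE E (Submodule.span F (Set.range w)) := fun ha => hy (hmem a ha)
    have hconj : ∀ t : E, (prj E a)⁻¹ * prj E t * prj E a = prj E (a⁻¹ * t * a) := fun t => by
      rw [map_mul, map_mul, map_inv]
    have key : ∀ (c c' : Fˣ) (T : E), Dt T.1 (Submodule.span F (Set.range w)) (c : F) →
        Dt T.1 ((Submodule.span F (Set.range w)).map (a.1 : V →ₗ[F] V)) (c' : F) → H687.nm p F c ≠ H687.nm p F c' →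
        ∃ (t : E ⧸ Subgroup.center E) (h1 : MulAut.conj t ∈ N) (h2 : MulAut.conj ((prj E a)⁻¹ * t * prj E a) ∈ N),
          (ψ.comp f) ⟨_, h1⟩ ≠ (ψ.comp f) ⟨_, h2⟩ := by
      intro c c' T h1 h2 hne
      have h3 : Dt (a⁻¹ * T * a : E).1 (Submodule.span F (Set.range w)) (c' : F) := h2.conj_symm'
      have h4 := h.rel_conj (p := p) hp.li h1
      have h5 := h.rel_conj (p := p) hp.li h3
      rw [← hconj] at h5
      refine ⟨prj E T, (hN _).2 ⟨_, h4⟩, (hN _).2 ⟨_, h5⟩, ?_⟩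
      rw [MonoidHom.comp_apply, MonoidHom.comp_apply, hf _ _ h4, hf _ _ h5]
      exact fun h6 => hne (hψ h6)
    rcases h.wit hW (h.isPl_map hW a.2) (fun h1 => ha h1.symm) with h1 | h1
    · obtain ⟨t, ht, h2, h3⟩ := h1 d d.ne_zero
      refine key d d⁻¹ ⟨t, ht⟩ h2 (by rw [Units.val_inv_eq_inv_val]; exact h3) ?_
      intro h4
      apply hd2
      rw [map_inv] at h4
      exact eq_inv_iff_mul_eq_one.1 h4
    · obtain ⟨t, ht, h2, h3⟩ := h1 d d.ne_zero
      refine key (d * d) 1 ⟨t, ht⟩ (by rw [Units.val_mul]; exact h2) (by rw [Units.val_one]; exact h3) ?_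
      rw [map_mul, map_one]
      exact hd2)
  have hle : (stE E (Submodule.span F (Set.range w))).map (prj E) ≤ N.comap MulAut.conj := by
    rintro _ ⟨g, hg, rfl⟩
    exact hmem g hg
  have hdvd := Subgroup.index_dvd_of_le hle
  have hne : (N.comap (MulAut.conj : (E ⧸ Subgroup.center E) →* _)).index ≠ 1 := by
    rw [Ne, Subgroup.index_eq_one]
    intro htop
    obtain ⟨x, hx, hxw, -⟩ := h.hyp _ _ _ _ hp (HP.swap h hp)
    have h1 : MulAut.conj (prj E ⟨x, hx⟩) ∈ N := by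
      have : prj E ⟨x, hx⟩ ∈ N.comap (MulAut.conj : (E ⧸ Subgroup.center E) →* _) := by rw [htop]; trivial
      exact this
    obtain ⟨c, g, θ, μ, H, hg, hi, hH, -⟩ := (hN _).1 h1
    have h2 := (Ind.conj (⟨x, hx⟩⁻¹ : E)).mul hi
    rw [map_inv, map_inv, inv_mul_cancel] at h2
    obtain ⟨l, hl⟩ := h.scalar he ((h.semiSim (⟨x, hx⟩⁻¹ : E)).comp hg) h2 hp
    have h3 : g (w 0) = l • v 0 := by
      have h4 : x.symm (g (w 0)) = l • w 0 := hl (w 0)
      rw [LinearEquiv.symm_apply_eq, map_smul, hxw] at h4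
      exact h4
    have h5 := congrArg (B (w 0)) h3
    rw [hH, hW.B0 _ (Submodule.subset_span ⟨0, rfl⟩) _ (comb_mem _ _ _), map_smul, hp.wv, if_pos rfl,
      smul_eq_mul, mul_one] at h5
    rw [← h5, zero_smul] at h3
    have h6 : g 0 = 0 := by
      have := hg.add 0 0
      rw [add_zero] at this
      exact left_eq_add.1 this
    exact hp.li.ne_zero 0 (hg.inj (by rw [h3, h6]))
  obtain ⟨n, hn⟩ : ∃ n, n = (N.comap (MulAut.conj : (E ⧸ Subgroup.center E) →* _)).index := ⟨_, rfl⟩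
  rw [← hn] at hne hdvd hβ1
  have hker : (prj E).ker ≤ stE E (Submodule.span F (Set.range w)) := by
    rw [QuotientGroup.ker_mk']; exact h.center_le _
  have hPi : ¬ p ∣ ((stE E (Submodule.span F (Set.range w))).map (prj E)).index := by
    rw [Subgroup.index_map_eq _ (QuotientGroup.mk'_surjective _) hker]
    exact h.not_dvd_index hp2 hW
  have hP0 : ((stE E (Submodule.span F (Set.range w))).map (prj E)).index ≠ 0 :=
    Subgroup.index_ne_zero_of_finite
  exact ⟨β, hβ, ⟨n, hβ1, hne, fun hd => hPi (hd.trans hdvd), Nat.le_of_dvd (Nat.pos_of_ne_zero hP0) hdvd⟩, hΨ⟩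

end Cfsg.Agent.H877.Pol
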