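import Cfsg.Agent.H877.PolI
import Cfsg.Agent.BpCl.Rows
import Cfsg.Agent.S0749

/-!
# Polar spaces with a group: symplectic groups (helper877)
-/

set_option autoImplicit false

namespace Cfsg.Agent.H877.Pol

open Matrix

universe u v

section

variable {F : Type u} {V : Type v} [Field F] [AddCommGroup V] [Module F V]

theorem li_sum {A : LinearMap.BilinForm F V} (hA : A.IsAlt) {w v : Fin 2 → V} (hp : HP A (fun _ => 0) w v) :
    LinearIndependent F (Sum.elim w v) := by
  have hvw : ∀ i j, A (v i) (w j) = if i = j then -1 else 0 := by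
    intro i j
    rw [← hA.neg_eq, hp.wv]
    by_cases hij : i = j
    · rw [if_pos hij, if_pos hij.symm]
    · rw [if_neg hij, if_neg fun h => hij h.symm, neg_zero]
  rw [Fintype.linearIndependent_iff]
  intro c hc
  rw [Fintype.sum_sum_type] at hc
  simp only [Sum.elim_inl, Sum.elim_inr, Fin.sum_univ_two] at hc
  have h1 : ∀ y, A (c (Sum.inl 0) • w 0 + c (Sum.inl 1) • w 1 + (c (Sum.inr 0) • v 0 + c (Sum.inr 1) • v 1)) y = 0 := by
    intro y
    rw [hc, map_zero, LinearMap.zero_apply]
  have h2 := h1 (v 0)
  have h3 := h1 (v 1)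
  have h4 := h1 (w 0)
  have h5 := h1 (w 1)
  simp only [map_add, LinearMap.add_apply, map_smul, LinearMap.smul_apply, hp.wv, hp.ww, hp.vv, hvw] at h2 h3 h4 h5
  simp at h2 h3 h4 h5
  rintro (i | i) <;> fin_cases i
  · exact h2
  · exact h3
  · exact h4
  · exact h5

theorem exists_iso_of_map [FiniteDimensional F V] {A : LinearMap.BilinForm F V} (hnd : ∀ u, (∀ v, A u v = 0) → u = 0)
    (f : V →ₗ[F] V) (hf : ∀ x y, A (f x) (f y) = A x y) :
    ∃ g ∈ BpCl.Iso (fun u v => A u v), ∀ x, g x = f x := by
  have hinj : Function.Injective f := by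
    rw [injective_iff_map_eq_zero]
    intro x hx
    apply hnd
    intro y
    rw [← hf, hx, map_zero, LinearMap.zero_apply]
  exact ⟨LinearEquiv.ofInjectiveEndo f hinj, fun x y => hf x y, fun x => rfl⟩

/-- A linear map with all vectors eigenvectors is a scalar. -/
theorem scalar_of_lines (g : V ≃ₗ[F] V) (h : ∀ u, ∃ c : F, g u = c • u) : ∃ c : F, ∀ x, g x = c • x := by
  obtain ⟨c, hc⟩ := (g : V →ₗ[F] V).exists_eq_smul_id_of_forall_notLinearIndependent (fun u hli => by
    obtain ⟨c, hc⟩ := h u
    have h1 := LinearIndependent.pair_iff.1 hli c (-1) (by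
      show c • u + (-1 : F) • g u = 0
      rw [hc]; simp)
    exact one_ne_zero (neg_eq_zero.1 h1.2))
  exact ⟨c, fun x => LinearMap.congr_fun hc x⟩

/-- **The symplectic frame.** -/
theorem ps_symp [FiniteDimensional F V] {A : LinearMap.BilinForm F V} (hA : A.IsAlt)
    (hnd : ∀ u, (∀ v, A u v = 0) → u = 0) (h2 : (2 : F) ≠ 0) (hex : ∃ w v, HP A (fun _ => 0) w v) :
    PS A (fun _ => 0) (-1) (BpCl.Iso (fun u v => A u v)) where
  e2 := by ring
  two := h2
  symm x y := by rw [neg_one_mul]; exact (hA.neg_eq x y).symm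
  nd := hnd
  q_smul c x := by ring
  q_add x y _ := by ring
  q_fix w x _ _ := rfl
  diag x := by rw [hA x]; ring
  isoB g hg x y := hg x y
  isoq g hg x := rfl
  sg u z _ huz := by
    have hzu : A z u = 0 := by rw [← hA.neg_eq, huz, neg_zero]
    obtain ⟨g, hg, hgx⟩ := exists_iso_of_map hnd
      (LinearMap.id + (A u).smulRight z + (A z).smulRight u) (fun x y => by
        have h3 : A x u = - A u x := (hA.neg_eq u x).symm
        have h4 : A x z = - A z x := (hA.neg_eq z x).symm
        simp only [LinearMap.add_apply, LinearMap.id_apply, LinearMap.smulRight_apply, map_add, map_smul,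
          LinearMap.smul_apply, smul_eq_mul, huz, hzu, hA u, hA z, h3, h4]
        ring)
    refine ⟨g, hg, fun x => ?_⟩
    rw [hgx]
    simp only [LinearMap.add_apply, LinearMap.id_apply, LinearMap.smulRight_apply]
    module
  tor a b _ _ hab d hd := by
    have hdd : d * d ≠ 0 := mul_ne_zero hd hd
    have hba : A b a = -1 := by rw [← hA.neg_eq, hab]
    obtain ⟨g, hg, hgx⟩ := exists_iso_of_map hnd
      (LinearMap.id - ((d * d - 1) • (A b).smulRight a) + (((d * d)⁻¹ - 1) • (A a).smulRight b)) (fun x y => by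
        have h3 : A x a = - A a x := (hA.neg_eq a x).symm
        have h4 : A x b = - A b x := (hA.neg_eq b x).symm
        simp only [LinearMap.add_apply, LinearMap.sub_apply, LinearMap.id_apply, LinearMap.smulRight_apply, map_add,
          map_sub, map_smul, LinearMap.smul_apply, smul_eq_mul, hab, hba, hA a, hA b, h3, h4]
        field_simp
        ring)
    refine ⟨g, hg, ?_, ?_, fun z hz hz' => ?_⟩
    · rw [hgx]
      simp only [LinearMap.add_apply, LinearMap.sub_apply, LinearMap.id_apply, LinearMap.smulRight_apply,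
        LinearMap.smul_apply, hba, hA a]
      module
    · rw [hgx]
      simp only [LinearMap.add_apply, LinearMap.sub_apply, LinearMap.id_apply, LinearMap.smulRight_apply,
        LinearMap.smul_apply, hab, hA b]
      module
    · rw [hgx]
      simp only [LinearMap.add_apply, LinearMap.sub_apply, LinearMap.id_apply, LinearMap.smulRight_apply,
        LinearMap.smul_apply, hz, hz']
      module
  hyp w v w' v' hp hp' := by
    have h1 := li_sum hA hp
    have h3 := li_sum hA hp'
    let φ := (Module.Basis.span h1).equiv (Module.Basis.span h3) (Equiv.refl _)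
    have hφ : ∀ i, ((φ (Module.Basis.span h1 i) : Submodule.span F (Set.range (Sum.elim w' v'))) : V) =
        Sum.elim w' v' i := by
      intro i
      rw [Module.Basis.equiv_apply, Module.Basis.span_apply]; rfl
    have hvw : ∀ {w v : Fin 2 → V}, HP A (fun _ => 0) w v → ∀ i j, A (v i) (w j) = if i = j then -1 else 0 := by
      intro w v hp i j
      rw [← hA.neg_eq, hp.wv]
      by_cases hij : i = j
      · rw [if_pos hij, if_pos hij.symm]
      · rw [if_neg hij, if_neg fun h => hij h.symm, neg_zero]
    have hgram : ∀ i j, A (Sum.elim w' v' i) (Sum.elim w' v' j) = A (Sum.elim w v i) (Sum.elim w v j) := by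
      rintro (i | i) (j | j)
      · simp only [Sum.elim_inl]; rw [hp.ww, hp'.ww]
      · simp only [Sum.elim_inl, Sum.elim_inr]; rw [hp.wv, hp'.wv]
      · simp only [Sum.elim_inl, Sum.elim_inr]; rw [hvw hp, hvw hp']
      · simp only [Sum.elim_inr]; rw [hp.vv, hp'.vv]
    have hform : (A.compl₁₂ ((Submodule.subtype _).comp φ.toLinearMap) ((Submodule.subtype _).comp φ.toLinearMap)) =
        A.compl₁₂ (Submodule.subtype (Submodule.span F (Set.range (Sum.elim w v))))
          (Submodule.subtype (Submodule.span F (Set.range (Sum.elim w v)))) := by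
      apply LinearMap.BilinForm.ext_basis (Module.Basis.span h1)
      intro i j
      show A (φ (Module.Basis.span h1 i) : V) (φ (Module.Basis.span h1 j) : V) =
        A (Module.Basis.span h1 i : V) (Module.Basis.span h1 j : V)
      rw [hφ, hφ, hgram, Module.Basis.span_apply, Module.Basis.span_apply]
    obtain ⟨g, hg, hgx⟩ := S0749.result A ⟨fun x hx => hnd x hx, fun x hx => hnd x fun y => by
      rw [← hA.neg_eq, hx y, neg_zero]⟩ hA _ _ φ (fun x x' => LinearMap.congr_fun₂ hform x x')
    have hgi : ∀ i, g (Sum.elim w v i) = Sum.elim w' v' i := by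
      intro i
      have h4 := hgx (Module.Basis.span h1 i)
      rw [hφ, Module.Basis.span_apply] at h4
      exact h4
    exact ⟨g, hg, fun i => hgi (Sum.inl i), fun i => hgi (Sum.inr i)⟩
  ex := hex
  big := Or.inl ⟨rfl, fun _ => rfl⟩
  cen g hg := by
    obtain ⟨c, hc⟩ := scalar_of_lines g.1 (fun u => by
      by_cases hu : u = 0
      · exact ⟨0, by rw [hu, map_zero, smul_zero]⟩
      obtain ⟨y, hy⟩ : ∃ y, A u y ≠ 0 := by
        by_contra hcon
        push Not at hcon
        exact hu (hnd u hcon)
      obtain ⟨T, hT, hTx⟩ := exists_iso_of_map hnd (LinearMap.id + (A u).smulRight u) (fun x y => by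
        have h3 : A x u = - A u x := (hA.neg_eq u x).symm
        simp only [LinearMap.add_apply, LinearMap.id_apply, LinearMap.smulRight_apply, map_add, map_smul,
          LinearMap.smul_apply, smul_eq_mul, hA u, h3]
        ring)
      have h5 := congrArg (fun t : ↥(BpCl.Iso (fun u v => A u v)) => t.1 y) (Subgroup.mem_center_iff.1 hg ⟨T, hT⟩)
      have h6 : T (g.1 y) = g.1 (T y) := h5
      rw [hTx, hTx] at h6
      simp only [LinearMap.add_apply, LinearMap.id_apply, LinearMap.smulRight_apply, map_add, map_smul] at h6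
      have h7 := add_left_cancel h6
      exact ⟨(A u y)⁻¹ * A u (g.1 y), by rw [mul_smul, h7, smul_smul, inv_mul_cancel₀ hy, one_smul]⟩)
    refine ⟨c, ?_, hc⟩
    obtain ⟨w, v, hp⟩ := hex
    have h3 : A (g.1 (w 0)) (g.1 (v 0)) = A (w 0) (v 0) := g.2 (w 0) (v 0)
    rw [hc, hc, map_smul, map_smul, LinearMap.smul_apply, hp.wv, if_pos rfl] at h3
    simpa using h3

end

end Cfsg.Agent.H877.Pol
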