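import Cfsg.Agent.H930.TTrans
import Cfsg.Agent.H918.UProper

/-!
# Siegel elements of `SU_n(q)`

`SG q M u w`: `u, w` are isotropic and orthogonal and `M` contains all the elements
`x ↦ x + l h(x, w) u - l^q h(x, u) w`, `l ∈ F`. Two such families with the same `w` and with
non-orthogonal `u, u'` give all transvections with centre `w` (`TT_of_SG`).
-/

set_option autoImplicit false
set_option linter.unusedSectionVars false

namespace Cfsg.Agent.H877

open Cfsg Cfsg.Geo Cfsg.Agent.H918 Cfsg.Agent.LieClassical.HermBasic Cfsg.Agent.H930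
open scoped Matrix MatrixGroups

variable {F : Type*} [Field F] [Fintype F] {n q : ℕ}

/-- `u, w` are isotropic and orthogonal and `M` contains all `x ↦ x + l h(x, w) u - l^q h(x, u) w`. -/
def SG (q : ℕ) (M : Subgroup (GL (Fin n) F)) (u w : Fin n → F) : Prop :=
  hermForm n F q u u = 0 ∧ hermForm n F q w w = 0 ∧ hermForm n F q u w = 0 ∧ ∀ l : F,
    ∃ g ∈ M, ∀ x, (g : Matrix (Fin n) (Fin n) F) *ᵥ x =
      x + (l * hermForm n F q x w) • u - (l ^ q * hermForm n F q x u) • w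

theorem SG.mono {M N : Subgroup (GL (Fin n) F)} (h : M ≤ N) {u w : Fin n → F} (hv : SG q M u w) :
    SG q N u w :=
  ⟨hv.1, hv.2.1, hv.2.2.1, fun l => by obtain ⟨g, hg, hx⟩ := hv.2.2.2 l; exact ⟨g, h hg, hx⟩⟩

theorem SG.conj {M : Subgroup (GL (Fin n) F)} {u w : Fin n → F} (hv : SG q M u w) {g : GL (Fin n) F}
    (hg : g ∈ M)
    (hgu : ∀ x y, hermForm n F q ((g : Matrix (Fin n) (Fin n) F) *ᵥ x) ((g : Matrix (Fin n) (Fin n) F) *ᵥ y) =
      hermForm n F q x y) :
    SG q M ((g : Matrix (Fin n) (Fin n) F) *ᵥ u) ((g : Matrix (Fin n) (Fin n) F) *ᵥ w) := by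
  refine ⟨by rw [hgu, hv.1], by rw [hgu, hv.2.1], by rw [hgu, hv.2.2.1], fun l => ?_⟩
  obtain ⟨t, ht, htx⟩ := hv.2.2.2 l
  refine ⟨g * t * g⁻¹, M.mul_mem (M.mul_mem hg ht) (M.inv_mem hg), fun x => ?_⟩
  rw [Units.val_mul, Units.val_mul, ← Matrix.mulVec_mulVec, ← Matrix.mulVec_mulVec, htx, Matrix.mulVec_sub,
    Matrix.mulVec_add, mulVec_inv, Matrix.mulVec_smul, Matrix.mulVec_smul]
  have h1 := hgu (((g⁻¹ : GL (Fin n) F) : Matrix (Fin n) (Fin n) F) *ᵥ x) u
  have h2 := hgu (((g⁻¹ : GL (Fin n) F) : Matrix (Fin n) (Fin n) F) *ᵥ x) w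
  rw [mulVec_inv] at h1 h2
  rw [h1, h2]

theorem SG.smul_left {M : Subgroup (GL (Fin n) F)} {u w : Fin n → F} (hv : SG q M u w) (a : F) :
    SG q M (a • u) w := by
  refine ⟨by rw [herm_smul_left, herm_smul_right, hv.1, mul_zero, mul_zero], hv.2.1,
    by rw [herm_smul_left, hv.2.2.1, mul_zero], fun l => ?_⟩
  obtain ⟨t, ht, htx⟩ := hv.2.2.2 (l * a)
  refine ⟨t, ht, fun x => ?_⟩
  rw [htx, herm_smul_right, mul_pow]
  ext i
  simp only [Pi.add_apply, Pi.sub_apply, Pi.smul_apply, smul_eq_mul]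
  ring

theorem SG.smul_right (hF : Fintype.card F = q ^ 2) {M : Subgroup (GL (Fin n) F)} {u w : Fin n → F}
    (hv : SG q M u w) (a : F) : SG q M u (a • w) := by
  refine ⟨hv.1, by rw [herm_smul_left, herm_smul_right, hv.2.1, mul_zero, mul_zero],
    by rw [herm_smul_right, hv.2.2.1, mul_zero], fun l => ?_⟩
  obtain ⟨t, ht, htx⟩ := hv.2.2.2 (l * a ^ q)
  refine ⟨t, ht, fun x => ?_⟩
  rw [htx, herm_smul_right, mul_pow, pow_q_pow_q hF]
  ext i
  simp only [Pi.add_apply, Pi.sub_apply, Pi.smul_apply, smul_eq_mul]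
  ring

/-- Siegel elements are in `SU_n(q)`. -/
theorem SG_top (hF : Fintype.card F = q ^ 2) {u w : Fin n → F} (hu : hermForm n F q u u = 0)
    (hw : hermForm n F q w w = 0) (huw : hermForm n F q u w = 0) : SG q (SUg n F q) u w := by
  refine ⟨hu, hw, huw, fun l => ?_⟩
  obtain ⟨c, hc0, hc⟩ := exists_trace_zero_ne hF
  have hc' : -c + (-c) ^ q = 0 := by rw [neg_pow_q hF]; linear_combination -hc
  have hwu : hermForm n F q w u = 0 := herm_eq_zero_swap hF huw
  set a : F := l / c with ha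
  have hau : hermForm n F q (a • u) (a • u) = 0 := by
    rw [herm_smul_left, herm_smul_right, hu, mul_zero, mul_zero]
  have hauw : hermForm n F q (a • u + w) (a • u + w) = 0 := by
    rw [herm_add_left, herm_add_right hF, herm_add_right hF, hau, herm_smul_left, herm_smul_right, huw, hwu, hw]
    ring
  refine ⟨tv hF (a • u + w) c hauw hc * tv hF (a • u) (-c) hau hc' * tv hF w (-c) hw hc',
    Subgroup.mul_mem _ (Subgroup.mul_mem _ (tv_mem hF _ _) (tv_mem hF _ _)) (tv_mem hF _ _), fun x => ?_⟩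
  rw [Units.val_mul, Units.val_mul, ← Matrix.mulVec_mulVec, ← Matrix.mulVec_mulVec, tv_mulVec, tv_mulVec,
    tv_mulVec]
  simp only [herm_add_left, herm_add_right hF, herm_smul_left, herm_smul_right, hu, hw, huw, hwu]
  have e1 : c * a = l := by rw [ha]; field_simp
  have hcq : c ^ q = -c := by linear_combination hc
  have e2 : c * a ^ q = - l ^ q := by
    have : l ^ q = -c * a ^ q := by rw [← e1, mul_pow, hcq]
    rw [this]; ring
  ext i
  simp only [Pi.add_apply, Pi.sub_apply, Pi.smul_apply, smul_eq_mul]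
  have e3 : l ^ q = -(c * a ^ q) := by rw [e2]; ring
  rw [← e1] at e3 ⊢
  rw [e3]
  ring

/-- Two non-orthogonal Siegel families with the same second vector give all transvections. -/
theorem TT_of_SG (hF : Fintype.card F = q ^ 2) {M : Subgroup (GL (Fin n) F)} {a b w : Fin n → F}
    (ha : SG q M a w) (hb : SG q M b w) (hab : hermForm n F q a b ≠ 0) : TT q M w := by
  refine ⟨ha.2.1, fun c hc => ?_⟩
  obtain ⟨c0, hc00, hc0⟩ := exists_trace_zero_ne hF
  have hw : hermForm n F q w w = 0 := ha.2.1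
  have haw : hermForm n F q a w = 0 := ha.2.2.1
  have hbw : hermForm n F q b w = 0 := hb.2.2.1
  have hwa : hermForm n F q w a = 0 := herm_eq_zero_swap hF haw
  have hwb : hermForm n F q w b = 0 := herm_eq_zero_swap hF hbw
  have hcq : c ^ q = -c := by linear_combination hc
  have hc0q : c0 ^ q = -c0 := by linear_combination hc0
  obtain ⟨t, ht⟩ := exists_trace_eq hF (c := c / c0) (by rw [div_pow, hcq, hc0q, neg_div_neg_eq])
  -- `μ h(a,b) - (μ h(a,b))^q = c`
  set μ : F := t * c0 / hermForm n F q a b with hμ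
  have e1 : μ * hermForm n F q a b = t * c0 := by rw [hμ]; field_simp
  have hba : hermForm n F q b a = hermForm n F q a b ^ q := by rw [herm_swap hF]
  have e2 : μ ^ q * hermForm n F q b a = - (t ^ q * c0) := by
    rw [hba, ← mul_pow, e1, mul_pow, hc0q]; ring
  have e3 : (t + t ^ q) * c0 = c := by rw [ht]; field_simp
  obtain ⟨A, hA, hAx⟩ := ha.2.2.2 μ
  obtain ⟨B, hB, hBx⟩ := hb.2.2.2 1
  refine ⟨A * B * A⁻¹ * B⁻¹, M.mul_mem (M.mul_mem (M.mul_mem hA hB) (M.inv_mem hA)) (M.inv_mem hB), fun x => ?_⟩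
  set y : Fin n → F := ((A⁻¹ : GL (Fin n) F) : Matrix (Fin n) (Fin n) F) *ᵥ
    (((B⁻¹ : GL (Fin n) F) : Matrix (Fin n) (Fin n) F) *ᵥ x) with hy
  have hx : x = (B : Matrix (Fin n) (Fin n) F) *ᵥ ((A : Matrix (Fin n) (Fin n) F) *ᵥ y) := by
    rw [hy, mulVec_inv, mulVec_inv]
  have hL : ((A * B * A⁻¹ * B⁻¹ : GL (Fin n) F) : Matrix (Fin n) (Fin n) F) *ᵥ x =
      (A : Matrix (Fin n) (Fin n) F) *ᵥ ((B : Matrix (Fin n) (Fin n) F) *ᵥ y) := by
    rw [Units.val_mul, Units.val_mul, Units.val_mul, ← Matrix.mulVec_mulVec, ← Matrix.mulVec_mulVec,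
      ← Matrix.mulVec_mulVec]
  rw [hL, hx]
  simp only [hAx, hBx, herm_add_left, herm_sub_left, herm_smul_left, one_pow, one_mul, hw, haw, hbw, hwa,
    hwb, mul_zero, add_zero, sub_zero]
  ext i
  simp only [Pi.add_apply, Pi.sub_apply, Pi.smul_apply, smul_eq_mul]
  linear_combination (-(hermForm n F q y w * w i)) * e2 + (hermForm n F q y w * w i) * e1
    + (hermForm n F q y w * w i) * e3

end Cfsg.Agent.H877
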