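import Cfsg.Agent.H877.UPairFinal

/-!
# Overgroups of the stabiliser of a totally singular pair, `k = 2` (`q ≥ 4`) and `k ≥ 3`

If `M` contains no transvection with centre in `X ∪ Y` then for `p ∈ Y` the vectors `a` with `SG q M a p` are those of
`X ∩ p^⊥`. Transporting this by elements of `M`, every image of a vector of `X ∪ Y` under `M` is in `X ∪ Y`.
-/

set_option autoImplicit false
set_option linter.unusedSectionVars false
set_option linter.unusedSimpArgs false

namespace Cfsg.Agent.H877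

open Cfsg Cfsg.Geo Cfsg.Agent.H918 Cfsg.Agent.LieClassical.HermBasic Cfsg.Agent.H930
open scoped Matrix MatrixGroups

variable {F : Type*} [Field F] [Fintype F] {n q : ℕ}
variable {X Y : Submodule F (Fin n → F)} {M : Subgroup (GL (Fin n) F)}

theorem SG.symm (hF : Fintype.card F = q ^ 2) {u w : Fin n → F} (h : SG q M u w) : SG q M w u := by
  refine ⟨h.2.1, h.1, herm_eq_zero_swap hF h.2.2.1, fun l => ?_⟩
  obtain ⟨t, ht, htx⟩ := h.2.2.2 (-l ^ q)
  refine ⟨t, ht, fun x => ?_⟩
  rw [htx, neg_pow_q hF, pow_q_pow_q hF]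
  ext i
  simp only [Pi.add_apply, Pi.sub_apply, Pi.smul_apply, smul_eq_mul]
  ring

theorem SG.add_left (hF : Fintype.card F = q ^ 2) {a b w : Fin n → F} (ha : SG q M a w) (hb : SG q M b w)
    (hab : hermForm n F q a b = 0) : SG q M (a + b) w := by
  have hba : hermForm n F q b a = 0 := herm_eq_zero_swap hF hab
  have hwb : hermForm n F q w b = 0 := herm_eq_zero_swap hF hb.2.2.1
  have hwa : hermForm n F q w a = 0 := herm_eq_zero_swap hF ha.2.2.1
  refine ⟨?_, ha.2.1, ?_, fun l => ?_⟩
  · rw [herm_add_left, herm_add_right hF, herm_add_right hF, ha.1, hb.1, hab, hba]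
    ring
  · rw [herm_add_left, ha.2.2.1, hb.2.2.1, add_zero]
  · obtain ⟨A, hA, hAx⟩ := ha.2.2.2 l
    obtain ⟨B, hB, hBx⟩ := hb.2.2.2 l
    refine ⟨A * B, M.mul_mem hA hB, fun x => ?_⟩
    rw [Units.val_mul, ← Matrix.mulVec_mulVec, hAx, hBx]
    simp only [herm_add_left, herm_sub_left, herm_smul_left, herm_add_right hF, ha.2.1, hb.2.2.1, ha.2.2.1, hba,
      hwa, hwb, mul_zero, add_zero, sub_zero]
    ext i
    simp only [Pi.add_apply, Pi.sub_apply, Pi.smul_apply, smul_eq_mul]
    ring

theorem SG.sub_left (hF : Fintype.card F = q ^ 2) {a b w : Fin n → F} (ha : SG q M a w) (hb : SG q M b w)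
    (hab : hermForm n F q a b = 0) : SG q M (a - b) w := by
  have h1 := ha.add_left hF (hb.smul_left (-1)) (by rw [herm_smul_right, hab, mul_zero])
  rwa [neg_one_smul, ← sub_eq_add_neg] at h1

theorem SG.of_smul_left {a w : Fin n → F} {c : F} (hc : c ≠ 0) (h : SG q M (c • a) w) :
    SG q M a w := by
  have := h.smul_left c⁻¹
  rwa [smul_smul, inv_mul_cancel₀ hc, one_smul] at this

/-- A degenerate Siegel family is a family of transvections. -/
theorem TT_of_SG_self (hF : Fintype.card F = q ^ 2) {w : Fin n → F} {c : F} (hc : c ≠ 0)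
    (h : SG q M (c • w) w) : TT q M w := by
  have h' := h.of_smul_left hc
  refine ⟨h'.1, fun d hd => ?_⟩
  obtain ⟨c0, hc00, hc0⟩ := exists_trace_zero_ne hF
  have hdq : d ^ q = -d := by linear_combination hd
  have hc0q : c0 ^ q = -c0 := by linear_combination hc0
  obtain ⟨t, ht⟩ := exists_trace_eq hF (c := d / c0) (by rw [div_pow, hdq, hc0q, neg_div_neg_eq])
  obtain ⟨A, hA, hAx⟩ := h'.2.2.2 (t * c0)
  refine ⟨A, hA, fun x => ?_⟩
  have e3 : (t + t ^ q) * c0 = d := by rw [ht]; field_simp
  rw [hAx, mul_pow, hc0q]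
  ext i
  simp only [Pi.add_apply, Pi.sub_apply, Pi.smul_apply, smul_eq_mul]
  linear_combination (hermForm n F q x w * w i) * e3

/-- No transvections with centre in `X ∪ Y`. -/
structure NoTT (q : ℕ) (X Y : Submodule F (Fin n → F)) (M : Subgroup (GL (Fin n) F)) : Prop where
  left : ∀ w ∈ X, w ≠ 0 → ¬ TT q M w
  right : ∀ w ∈ Y, w ≠ 0 → ¬ TT q M w

theorem NoTT.symm (h : NoTT q X Y M) : NoTT q Y X M := ⟨h.right, h.left⟩

/-- For `p ∈ Y` the Siegel partners of `p` are in `X`. -/
theorem mem_of_SG (hF : Fintype.card F = q ^ 2) (hP : IsPair q X Y) (HM : Fixes q X Y M) (hN : NoTT q X Y M)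
    {p a : Fin n → F} (hp : p ∈ Y) (hp0 : p ≠ 0) (h : SG q M a p) : a ∈ X := by
  have h1 : ∀ u ∈ X, hermForm n F q u p = 0 → hermForm n F q a u = 0 := by
    intro u hu hup
    by_contra hne
    exact hN.right p hp hp0 (TT_of_SG hF h (SG_std hF hP HM hu hp hup) hne)
  obtain ⟨ax, hax, ay, hay, rfl⟩ := hP.decomp a
  have h2 : ∃ c : F, ay = c • p := by
    by_contra hcon
    push Not at hcon
    obtain ⟨u, hu, hup, huay⟩ := hP.exists_perp hF hp hay hcon
    have h3 := h1 u hu hup
    rw [herm_add_left, hP.tsX ax hax u hu, zero_add] at h3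
    exact huay (herm_eq_zero_swap hF h3)
  obtain ⟨c, rfl⟩ := h2
  by_cases hc : c = 0
  · rw [hc, zero_smul, add_zero]
    exact hax
  exfalso
  have h3 : hermForm n F q ax p = 0 := by
    have := h.2.2.1
    rwa [herm_add_left, herm_smul_left, hP.tsY p hp p hp, mul_zero, add_zero] at this
  have h4 := SG_std hF hP HM hax hp h3
  have h5 := h.sub_left hF h4 (h1 ax hax h3)
  rw [add_sub_cancel_left] at h5
  exact hN.right p hp hp0 (TT_of_SG_self hF hc h5)

/-- Images of vectors of `Y` or of `X` under `M`. -/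
def Img (X Y : Submodule F (Fin n → F)) (M : Subgroup (GL (Fin n) F)) (p : Fin n → F) : Prop :=
  ∃ m ∈ M, ∃ w : Fin n → F, (w ∈ X ∨ w ∈ Y) ∧ w ≠ 0 ∧ (m : Matrix (Fin n) (Fin n) F) *ᵥ w = p

theorem Img.symm {p : Fin n → F} (h : Img X Y M p) : Img Y X M p := by
  obtain ⟨m, hm, w, hw, hw0, h⟩ := h
  exact ⟨m, hm, w, hw.symm, hw0, h⟩

theorem Img.conj {p : Fin n → F} (h : Img X Y M p) {g : GL (Fin n) F} (hg : g ∈ M) :
    Img X Y M ((g : Matrix (Fin n) (Fin n) F) *ᵥ p) := by
  obtain ⟨m, hm, w, hw, hw0, h⟩ := h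
  exact ⟨g * m, M.mul_mem hg hm, w, hw, hw0, by rw [← h, Units.val_mul, Matrix.mulVec_mulVec]⟩

theorem Img.not_TT (hMS : M ≤ SUg n F q) (hN : NoTT q X Y M) {p : Fin n → F}
    (h : Img X Y M p) : ¬ TT q M p := by
  obtain ⟨m, hm, w, hw, hw0, rfl⟩ := h
  intro hT
  have h1 := hT.conj (M.inv_mem hm) (isometry_of_mem hMS (M.inv_mem hm))
  rw [inv_mulVec] at h1
  rcases hw with hw | hw
  · exact hN.left w hw hw0 h1
  · exact hN.right w hw hw0 h1

/-- Partners of a mixed image are orthogonal to the orthogonal pairs fixing it. -/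
theorem perp_of_SG (hF : Fintype.card F = q ^ 2) (hP : IsPair q X Y) (HM : Fixes q X Y M) (hN : NoTT q X Y M)
    (hMS : M ≤ SUg n F q) {x y a u w : Fin n → F} (hx : x ∈ X) (hy : y ∈ Y) (hx0 : x ≠ 0) (hy0 : y ≠ 0)
    (hI : Img X Y M (x + y)) (ha : SG q M a (x + y)) (hu : u ∈ X) (hw : w ∈ Y) (hu0 : u ≠ 0) (hw0 : w ≠ 0)
    (huw : hermForm n F q u w = 0) (hyu : hermForm n F q y u = 0) (hxw : hermForm n F q x w = 0) :
    hermForm n F q a w = 0 ∧ hermForm n F q a u = 0 := by
  have hTT := hI.not_TT hMS hN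
  have hstd := SG_std hF hP HM hu hw huw
  -- the elements fixing `x + y`
  have hfix : ∀ l : F, SG q M (a + (l * hermForm n F q a w) • u - (l ^ q * hermForm n F q a u) • w) (x + y) := by
    intro l
    obtain ⟨g, hg, hgx⟩ := hstd.2.2.2 l
    have h1 := ha.conj hg (isometry_of_mem hMS hg)
    have h2 : (g : Matrix (Fin n) (Fin n) F) *ᵥ (x + y) = x + y := by
      rw [hgx, herm_add_left, herm_add_left, hxw, hyu, hP.tsX x hx u hu, hP.tsY y hy w hw]
      simp
    rw [h2, hgx] at h1
    exact h1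
  have hz : ∀ l : F, l ^ q * hermForm n F q a w ^ q * hermForm n F q a u =
      l * hermForm n F q a u ^ q * hermForm n F q a w := by
    intro l
    by_contra hne
    refine hTT (TT_of_SG hF ha (hfix l) ?_)
    rw [herm_sub_right hF, herm_add_right hF, ha.1, herm_smul_right, herm_smul_right, mul_pow, mul_pow,
      pow_q_pow_q hF, zero_add]
    exact sub_ne_zero.2 hne
  -- one of the two values is zero
  have h0 : hermForm n F q a w = 0 ∨ hermForm n F q a u = 0 := by
    by_contra hcon
    push Not at hcon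
    obtain ⟨η, hη⟩ := exists_not_fixed hF
    have e1 := hz 1
    have e2 := hz η
    rw [one_pow, one_mul, one_mul] at e1
    apply hη
    have h3 : hermForm n F q a w ^ q * hermForm n F q a u ≠ 0 :=
      mul_ne_zero (fun h => hcon.1 ((pow_q_eq_zero hF).1 h)) hcon.2
    apply mul_right_cancel₀ h3
    linear_combination e2 - η * e1
  have hfix1 := hfix 1
  rcases h0 with h0 | h0
  · refine ⟨h0, ?_⟩
    by_contra hne
    rw [h0, mul_zero, zero_smul, add_zero, one_pow, one_mul] at hfix1
    have h1 := ha.sub_left hF hfix1 (by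
      rw [herm_sub_right hF, ha.1, herm_smul_right, h0]
      ring)
    rw [sub_sub_cancel] at h1
    have h2 := (h1.of_smul_left hne).symm hF
    exact hy0 (hP.eq_zero (by
      have h3 := mem_of_SG hF hP HM hN hw hw0 h2
      simpa using X.sub_mem h3 hx) hy)
  · refine ⟨?_, h0⟩
    by_contra hne
    rw [h0, mul_zero, zero_smul, sub_zero, one_mul] at hfix1
    have h1 := hfix1.sub_left hF ha (by
      rw [herm_add_left, ha.1, herm_smul_left, herm_eq_zero_swap hF h0]
      ring)
    rw [add_sub_cancel_left] at h1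
    have h2 := (h1.of_smul_left hne).symm hF
    exact hx0 (hP.eq_zero hx (by
      have h3 := mem_of_SG hF hP.symm HM.symm hN.symm hu hu0 h2
      simpa using Y.sub_mem h3 hy))

/-- Vectors of `Y` orthogonal to two given vectors, `k ≥ 3`. -/
theorem exists_perp_two (hk : 3 ≤ Module.finrank F Y) (a b : Fin n → F) :
    ∃ z ∈ Y, z ≠ 0 ∧ hermForm n F q z a = 0 ∧ hermForm n F q z b = 0 := by
  let L : Y →ₗ[F] (F × F) :=
    { toFun := fun u => (hermForm n F q u a, hermForm n F q u b)
      map_add' := fun x y => by simp [herm_add_left]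
      map_smul' := fun c x => by simp [herm_smul_left] }
  have hdim : 1 ≤ Module.finrank F (LinearMap.ker L) := by
    have h1 := L.finrank_range_add_finrank_ker
    have h2 : Module.finrank F (LinearMap.range L) ≤ 2 := by
      refine (Submodule.finrank_le _).trans ?_
      simp
    omega
  have hnt : Nontrivial (LinearMap.ker L) := Module.nontrivial_of_finrank_pos (by omega : 0 < Module.finrank F (LinearMap.ker L))
  obtain ⟨x, hx⟩ := exists_ne (0 : LinearMap.ker L)
  have hx1 := x.2
  rw [LinearMap.mem_ker] at hx1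
  refine ⟨(x : Y), (x : Y).2, ?_, congrArg Prod.fst hx1, congrArg Prod.snd hx1⟩
  intro h0
  exact hx (Subtype.ext (Subtype.ext h0))

/-- A two-dimensional space of partners. -/
theorem exists_indep_partners (hF : Fintype.card F = q ^ 2) (hP : IsPair q X Y) (HM : Fixes q X Y M)
    (hk : 3 ≤ Module.finrank F X) {w : Fin n → F} (hw : w ∈ Y) :
    ∃ a b : Fin n → F, LinearIndependent F ![a, b] ∧ SG q M a w ∧ SG q M b w := by
  let L : X →ₗ[F] F :=
    { toFun := fun u => hermForm n F q u w
      map_add' := fun x y => by simp [herm_add_left]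
      map_smul' := fun c x => by simp [herm_smul_left] }
  have hdim : 2 ≤ Module.finrank F (LinearMap.ker L) := by
    have h1 := L.finrank_range_add_finrank_ker
    have h2 : Module.finrank F (LinearMap.range L) ≤ 1 := by
      refine (Submodule.finrank_le _).trans ?_
      simp
    omega
  have hnt : Nontrivial (LinearMap.ker L) := Module.nontrivial_of_finrank_pos (by omega : 0 < Module.finrank F (LinearMap.ker L))
  obtain ⟨x, hx⟩ := exists_ne (0 : LinearMap.ker L)
  obtain ⟨y, hxy⟩ := exists_linearIndependent_pair_of_one_lt_finrank (R := F) (M := LinearMap.ker L) (by omega) hx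
  have h1 := (hxy.map' (LinearMap.ker L).subtype (Submodule.ker_subtype _)).map' X.subtype (Submodule.ker_subtype _)
  have e : X.subtype ∘ (LinearMap.ker L).subtype ∘ ![x, y] = ![((x : X) : Fin n → F), ((y : X) : Fin n → F)] := by
    ext i
    fin_cases i <;> rfl
  rw [e] at h1
  exact ⟨_, _, h1, SG_std hF hP HM (x : X).2 hw (LinearMap.mem_ker.1 x.2 : _),
    SG_std hF hP HM (y : X).2 hw (LinearMap.mem_ker.1 y.2 : _)⟩

/-- **No mixed images, `k ≥ 3`.** -/
theorem no_mixed_three (hF : Fintype.card F = q ^ 2) (hP : IsPair q X Y) (HM : Fixes q X Y M) (hN : NoTT q X Y M)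
    (hMS : M ≤ SUg n F q) (hX : 3 ≤ Module.finrank F X) (hY : 3 ≤ Module.finrank F Y) {x y w : Fin n → F}
    (hx : x ∈ X) (hy : y ∈ Y) (hx0 : x ≠ 0) (hy0 : y ≠ 0) (hw : w ∈ Y) (hw0 : w ≠ 0) {m : GL (Fin n) F}
    (hm : m ∈ M) (hmw : (m : Matrix (Fin n) (Fin n) F) *ᵥ w = x + y) : False := by
  have hI : Img X Y M (x + y) := ⟨m, hm, w, Or.inr hw, hw0, hmw⟩
  -- partners are in `⟨x, y⟩`
  have key : ∀ a, SG q M a (x + y) → ∃ s t : F, a = s • x + t • y := by
    intro a ha
    have h1 : ∀ u ∈ X, hermForm n F q y u = 0 → hermForm n F q a u = 0 := by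
      intro u hu hyu
      by_cases hu0 : u = 0
      · rw [hu0, herm_zero_right hF]
      obtain ⟨z, hz, hz0, hzx, hzu⟩ := exists_perp_two (q := q) hY x u
      exact (perp_of_SG hF hP HM hN hMS hx hy hx0 hy0 hI ha hu hz hu0 hz0 (herm_eq_zero_swap hF hzu) hyu
        (herm_eq_zero_swap hF hzx)).2
    have h2 : ∀ v ∈ Y, hermForm n F q x v = 0 → hermForm n F q a v = 0 := by
      intro v hv hxv
      by_cases hv0 : v = 0
      · rw [hv0, herm_zero_right hF]
      obtain ⟨z, hz, hz0, hzy, hzv⟩ := exists_perp_two (q := q) hX y v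
      exact (perp_of_SG hF hP HM hN hMS hx hy hx0 hy0 hI ha hz hv hz0 hv0 hzv (herm_eq_zero_swap hF hzy)
        hxv).1
    obtain ⟨ax, hax, ay, hay, rfl⟩ := hP.decomp a
    have h3 : ∃ t : F, ay = t • y := by
      by_contra hcon
      push Not at hcon
      obtain ⟨u, hu, huy, huay⟩ := hP.exists_perp hF hy hay hcon
      have h4 := h1 u hu (herm_eq_zero_swap hF huy)
      rw [herm_add_left, hP.tsX ax hax u hu, zero_add] at h4
      exact huay (herm_eq_zero_swap hF h4)
    have h4 : ∃ s : F, ax = s • x := by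
      by_contra hcon
      push Not at hcon
      obtain ⟨v, hv, hvx, hvax⟩ := hP.symm.exists_perp hF hx hax hcon
      have h4 := h2 v hv (herm_eq_zero_swap hF hvx)
      rw [herm_add_left, hP.tsY ay hay v hv, add_zero] at h4
      exact hvax (herm_eq_zero_swap hF h4)
    obtain ⟨t, rfl⟩ := h3
    obtain ⟨s, rfl⟩ := h4
    exact ⟨s, t, rfl⟩
  obtain ⟨a, b, hab, ha, hb⟩ := exists_indep_partners hF hP HM hX hw
  have ha' := ha.conj hm (isometry_of_mem hMS hm)
  have hb' := hb.conj hm (isometry_of_mem hMS hm)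
  rw [hmw] at ha' hb'
  have hTT := hI.not_TT hMS hN
  obtain ⟨s, t, hst⟩ := key _ ha'
  obtain ⟨s', t', hst'⟩ := key _ hb'
  have h0 : hermForm n F q ((m : Matrix (Fin n) (Fin n) F) *ᵥ a) ((m : Matrix (Fin n) (Fin n) F) *ᵥ b) = 0 := by
    by_contra hne
    exact hTT (TT_of_SG hF ha' hb' hne)
  rw [LinearIndependent.pair_iff] at hab
  -- a combination equal to a multiple of `x + y`
  have hcomb : ∀ c d : F, SG q M (c • ((m : Matrix (Fin n) (Fin n) F) *ᵥ a) +
      d • ((m : Matrix (Fin n) (Fin n) F) *ᵥ b)) (x + y) := by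
    intro c d
    exact (ha'.smul_left c).add_left hF (hb'.smul_left d) (by rw [herm_smul_left, herm_smul_right, h0]; ring)
  by_cases hd : s - t = 0
  · have hs : s ≠ 0 := by
      rintro rfl
      have ht : t = 0 := by linear_combination -hd
      rw [ht, zero_smul, zero_smul, add_zero] at hst
      have h1 : a = 0 := by
        have := inv_mulVec m a
        rw [hst, Matrix.mulVec_zero] at this
        exact this.symm
      have := hab 1 0 (by rw [h1]; simp)
      exact one_ne_zero this.1
    have ht : t = s := by linear_combination -hd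
    rw [hst, ht, ← smul_add] at ha'
    exact hTT (TT_of_SG_self hF hs ha')
  · have h1 := hcomb (s' - t') (-(s - t))
    rw [hst, hst'] at h1
    have e : (s' - t') • (s • x + t • y) + (-(s - t)) • (s' • x + t' • y) = (s' * t - s * t') • (x + y) := by
      ext i
      simp only [Pi.add_apply, Pi.smul_apply, smul_eq_mul]
      ring
    rw [e] at h1
    by_cases hdet : s' * t - s * t' = 0
    · -- then `a, b` are dependent
      have h2 : (s' - t') • a + (-(s - t)) • b = 0 := by
        have h3 : (m : Matrix (Fin n) (Fin n) F) *ᵥ ((s' - t') • a + (-(s - t)) • b) = 0 := by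
          rw [Matrix.mulVec_add, Matrix.mulVec_smul, Matrix.mulVec_smul, hst, hst', e, hdet, zero_smul]
        have := inv_mulVec m ((s' - t') • a + (-(s - t)) • b)
        rw [h3, Matrix.mulVec_zero] at this
        exact this.symm
      exact hd (neg_eq_zero.1 (hab _ _ h2).2)
    · exact hTT (TT_of_SG_self hF hdet h1)

end Cfsg.Agent.H877
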