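import Cfsg.Agent.H877.UPairThree

/-!
# The stabiliser of a totally singular pair is maximal in `SU_2k(q)`, all `k ≥ 2` (`q ≥ 4` if `k = 2`)
-/

set_option autoImplicit false
set_option linter.unusedSectionVars false
set_option linter.unusedSimpArgs false

namespace Cfsg.Agent.H877

open Cfsg Cfsg.Geo Cfsg.Agent.H918 Cfsg.Agent.LieClassical.HermBasic Cfsg.Agent.H930
open scoped Matrix MatrixGroups

variable {F : Type*} [Field F] [Fintype F] {n q : ℕ}
variable {X Y : Submodule F (Fin n → F)} {M : Subgroup (GL (Fin n) F)}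

/-- Diagonal elements on a hyperbolic pair. -/
theorem exists_torus (hF : Fintype.card F = q ^ 2) {d : F} (hd0 : d ≠ 0) (hd : d ^ q = d)
    {e f : Fin n → F} (he : hermForm n F q e e = 0) (hf : hermForm n F q f f = 0)
    (hef : hermForm n F q e f = 1) (hfe : hermForm n F q f e = 1) :
    ∃ s ∈ SUg n F q, (s : Matrix (Fin n) (Fin n) F) *ᵥ e = d • e ∧
      (s : Matrix (Fin n) (Fin n) F) *ᵥ f = d⁻¹ • f ∧
      ∀ x, hermForm n F q x e = 0 → hermForm n F q x f = 0 → (s : Matrix (Fin n) (Fin n) F) *ᵥ x = x := by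
  obtain ⟨c, hc0, hc⟩ := exists_trace_zero_ne hF
  obtain ⟨s, hs, hs1, hs2, hs3⟩ := exists_swap_one hF hc0 hc he hf hef hfe
  have hc' : -(d * c) + (-(d * c)) ^ q = 0 := by
    rw [neg_pow_q hF, mul_pow, hd]
    linear_combination -d * hc
  obtain ⟨t, ht, ht1, ht2, ht3⟩ := exists_swap_one hF (neg_ne_zero.2 (mul_ne_zero hd0 hc0)) hc' he hf hef hfe
  refine ⟨t * s, Subgroup.mul_mem _ ht hs, ?_, ?_, ?_⟩
  · rw [Units.val_mul, ← Matrix.mulVec_mulVec, hs1, Matrix.mulVec_smul, ht2, smul_smul]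
    congr 1
    field_simp
  · rw [Units.val_mul, ← Matrix.mulVec_mulVec, hs2, Matrix.mulVec_smul, ht1, smul_smul]
    congr 1
    field_simp
  · intro x h1 h2
    rw [Units.val_mul, ← Matrix.mulVec_mulVec, hs3 x h1 h2, ht3 x h1 h2]

theorem exists_fixed_elt (hF : Fintype.card F = q ^ 2) (hq : 4 ≤ q) :
    ∃ d : F, d ^ q = d ∧ d ≠ 0 ∧ d ≠ 1 ∧ d⁻¹ - d ≠ 0 := by
  classical
  have h1 := card_fixed hF
  rw [Nat.card_eq_fintype_card, Fintype.card_subtype] at h1
  obtain ⟨d, hd, hd'⟩ := Finset.exists_mem_notMem_of_card_lt_card (s := ({0, 1, -1} : Finset F))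
    (t := Finset.univ.filter fun x : F => x ^ q = x) (by
      rw [h1]
      have : ({0, 1, -1} : Finset F).card ≤ 3 := Finset.card_le_three
      omega)
  rw [Finset.mem_filter] at hd
  simp only [Finset.mem_insert, Finset.mem_singleton, not_or] at hd'
  refine ⟨d, hd.2, hd'.1, hd'.2.1, ?_⟩
  intro h
  have h2 : (d - 1) * (d + 1) = 0 := by
    have := hd'.1
    field_simp at h
    linear_combination -h
  rcases mul_eq_zero.1 h2 with h3 | h3
  · exact hd'.2.1 (by linear_combination h3)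
  · exact hd'.2.2 (by linear_combination h3)

theorem exists_coords {V : Type*} [AddCommGroup V] [Module F V] [FiniteDimensional F V] {X : Submodule F V}
    (hX : Module.finrank F X = 2) {x a : V} (hx : x ∈ X) (ha : a ∈ X) (hxa : LinearIndependent F ![x, a])
    {v : V} (hv : v ∈ X) : ∃ s t : F, v = s • x + t • a := by
  have h1 : Submodule.span F {x, a} ≤ X := by
    rw [Submodule.span_le]
    rintro z (rfl | rfl)
    · exact hx
    · exact ha
  have h2 : Module.finrank F (Submodule.span F {x, a}) = 2 := by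
    have := finrank_span_eq_card hxa
    rw [Matrix.range_cons_cons_empty] at this
    simpa using this
  have h3 := Submodule.eq_of_le_of_finrank_eq h1 (by rw [h2, hX])
  rw [← h3] at hv
  obtain ⟨s, t, h⟩ := Submodule.mem_span_pair.1 hv
  exact ⟨s, t, h.symm⟩

/-- Every non-zero vector of `X ∪ Y` has a partner. -/
theorem exists_partner (hF : Fintype.card F = q ^ 2) (hP : IsPair q X Y) (HM : Fixes q X Y M)
    (hX : 2 ≤ Module.finrank F X) (hY : 2 ≤ Module.finrank F Y) {w : Fin n → F} (hw : w ∈ X ∨ w ∈ Y) :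
    ∃ a, a ≠ 0 ∧ SG q M a w := by
  rcases hw with hw | hw
  · obtain ⟨a, ha, ha0, haw⟩ := exists_perp_ne_zero (q := q) hY w
    exact ⟨a, ha0, (SG_std hF hP HM hw ha (herm_eq_zero_swap hF haw)).symm hF⟩
  · obtain ⟨a, ha, ha0, haw⟩ := exists_perp_ne_zero (q := q) hX w
    exact ⟨a, ha0, SG_std hF hP HM ha hw haw⟩

theorem Img.exists_partner (hF : Fintype.card F = q ^ 2) (hP : IsPair q X Y) (HM : Fixes q X Y M)
    (hMS : M ≤ SUg n F q)
    (hX : 2 ≤ Module.finrank F X) (hY : 2 ≤ Module.finrank F Y) {p : Fin n → F} (h : Img X Y M p) :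
    ∃ a, a ≠ 0 ∧ SG q M a p := by
  obtain ⟨m, hm, w, hw, hw0, rfl⟩ := h
  obtain ⟨a, ha0, ha⟩ := H877.exists_partner hF hP HM hX hY hw
  refine ⟨_, ?_, ha.conj hm (isometry_of_mem hMS hm)⟩
  intro h0
  apply ha0
  have := inv_mulVec m a
  rw [h0, Matrix.mulVec_zero] at this
  exact this.symm

/-- No mixed images with non-orthogonal components, `k = 2`, `q ≥ 4`. -/
theorem no_mixed_two_a (hF : Fintype.card F = q ^ 2) (hP : IsPair q X Y) (HM : Fixes q X Y M) (hN : NoTT q X Y M)
    (hMS : M ≤ SUg n F q) (hX : Module.finrank F X = 2) (hY : Module.finrank F Y = 2) (hq : 4 ≤ q)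
    {x y : Fin n → F} (hx : x ∈ X) (hy : y ∈ Y) (hxy : hermForm n F q x y ≠ 0)
    (hI : Img X Y M (x + y)) : False := by
  have hx0 : x ≠ 0 := by
    rintro rfl
    exact hxy (herm_zero_left y)
  have hy0 : y ≠ 0 := by
    rintro rfl
    exact hxy (herm_zero_right hF x)
  have hyx : hermForm n F q y x ≠ 0 := fun h => hxy (herm_eq_zero_swap hF h)
  have hTT := hI.not_TT hMS hN
  obtain ⟨s, hs0, hs⟩ := hI.exists_partner hF hP HM hMS (by omega) (by omega)
  -- the hyperbolic pair `a, b`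
  obtain ⟨a, ha, ha0, hay⟩ := exists_perp_ne_zero (q := q) (Y := X) (by omega) y
  obtain ⟨z, hz, haz⟩ := hP.exists_ne hF ha ha0
  obtain ⟨b, hb, hbx, hab⟩ : ∃ b ∈ Y, hermForm n F q b x = 0 ∧ hermForm n F q a b = 1 := by
    set b0 : Fin n → F := z - (hermForm n F q z x / hermForm n F q y x) • y with hb0
    have h1 : hermForm n F q b0 x = 0 := by
      rw [hb0, herm_sub_left, herm_smul_left]
      field_simp
      ring
    have h2 : hermForm n F q a b0 = hermForm n F q a z := by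
      rw [hb0, herm_sub_right hF, herm_smul_right, hay, mul_zero, sub_zero]
    refine ⟨((hermForm n F q a z)⁻¹) ^ q • b0, Y.smul_mem _ (Y.sub_mem hz (Y.smul_mem _ hy)), ?_, ?_⟩
    · rw [herm_smul_left, h1, mul_zero]
    · rw [herm_smul_right, pow_q_pow_q hF, h2, inv_mul_cancel₀ haz]
  have hba : hermForm n F q b a = 1 := by rw [herm_swap hF a b, hab, one_pow]
  have hxb : hermForm n F q x b = 0 := herm_eq_zero_swap hF hbx
  have hya : hermForm n F q y a = 0 := herm_eq_zero_swap hF hay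
  have hxx := hP.tsX x hx x hx
  have hxa := hP.tsX x hx a ha
  have hax := hP.tsX a ha x hx
  have haa := hP.tsX a ha a ha
  have hyy := hP.tsY y hy y hy
  have hyb := hP.tsY y hy b hb
  have hby := hP.tsY b hb y hy
  have hbb := hP.tsY b hb b hb
  have hindX : LinearIndependent F ![x, a] := by
    rw [LinearIndependent.pair_iff]
    intro c d h
    have h1 := congrArg (fun v => hermForm n F q v y) h
    simp only [herm_add_left, herm_smul_left, hay, mul_zero, add_zero, herm_zero_left] at h1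
    have hc : c = 0 := (mul_eq_zero.1 h1).resolve_right hxy
    refine ⟨hc, ?_⟩
    rw [hc, zero_smul, zero_add] at h
    exact (smul_eq_zero.1 h).resolve_right ha0
  have hindY : LinearIndependent F ![y, b] := by
    rw [LinearIndependent.pair_iff]
    intro c d h
    have h1 := congrArg (fun v => hermForm n F q v x) h
    simp only [herm_add_left, herm_smul_left, hbx, mul_zero, add_zero, herm_zero_left] at h1
    have hc : c = 0 := (mul_eq_zero.1 h1).resolve_right hyx
    refine ⟨hc, ?_⟩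
    rw [hc, zero_smul, zero_add] at h
    have h2 := congrArg (fun v => hermForm n F q v a) h
    simp only [herm_smul_left, hba, mul_one, herm_zero_left] at h2
    exact h2
  -- the coordinates of the partner
  obtain ⟨sx, hsx, sy, hsy, hsxy⟩ := hP.decomp s
  obtain ⟨γ, α, hγ⟩ := exists_coords hX hx ha hindX hsx
  obtain ⟨κ, β, hκ⟩ := exists_coords hY hy hb hindY hsy
  have hp0 : hermForm n F q x y + hermForm n F q y x = 0 := by
    have := hs.2.1
    rw [herm_add_left, herm_add_right hF, herm_add_right hF, hxx, hyy] at this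
    linear_combination this
  have hκγ : κ = γ := by
    have h1 := hs.2.2.1
    rw [hsxy, hγ, hκ] at h1
    simp only [herm_add_left, herm_add_right hF, herm_smul_left, hxx, hyy, hax, hay, hby, hbx, mul_zero, add_zero,
      zero_add] at h1
    have h2 : (γ - κ) * hermForm n F q x y = 0 := by linear_combination h1 - κ * hp0
    have := (mul_eq_zero.1 h2).resolve_right hxy
    linear_combination -this
  have hseq : s = γ • (x + y) + α • a + β • b := by
    rw [hsxy, hγ, hκ, hκγ]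
    ext i
    simp only [Pi.add_apply, Pi.smul_apply, smul_eq_mul]
    ring
  have hpp := hs.2.1
  have hpa : hermForm n F q (x + y) a = 0 := by rw [herm_add_left, hxa, hya, add_zero]
  have hpb : hermForm n F q (x + y) b = 0 := by rw [herm_add_left, hxb, hyb, add_zero]
  have hap : hermForm n F q a (x + y) = 0 := herm_eq_zero_swap hF hpa
  have hbp : hermForm n F q b (x + y) = 0 := herm_eq_zero_swap hF hpb
  -- the torus
  have htor : ∀ d : F, d ≠ 0 → d ^ q = d → SG q M (γ • (x + y) + (d * α) • a + (d⁻¹ * β) • b) (x + y) := by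
    intro d hd0 hd
    obtain ⟨t, ht, ht1, ht2, ht3⟩ := exists_torus hF hd0 hd haa hbb hab hba
    have htx : (t : Matrix (Fin n) (Fin n) F) *ᵥ x = x := ht3 x hxa hxb
    have hty : (t : Matrix (Fin n) (Fin n) F) *ᵥ y = y := ht3 y hya hyb
    have htM : t ∈ M := by
      refine HM t ht (fun v hv => ?_) (fun v hv => ?_)
      · obtain ⟨c, e, rfl⟩ := exists_coords hX hx ha hindX hv
        rw [Matrix.mulVec_add, Matrix.mulVec_smul, Matrix.mulVec_smul, htx, ht1]
        exact X.add_mem (X.smul_mem _ hx) (X.smul_mem _ (X.smul_mem _ ha))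
      · obtain ⟨c, e, rfl⟩ := exists_coords hY hy hb hindY hv
        rw [Matrix.mulVec_add, Matrix.mulVec_smul, Matrix.mulVec_smul, hty, ht2]
        exact Y.add_mem (Y.smul_mem _ hy) (Y.smul_mem _ (Y.smul_mem _ hb))
    have h1 := hs.conj htM (isometry_of_mem hMS htM)
    rw [Matrix.mulVec_add, htx, hty, hseq, Matrix.mulVec_add, Matrix.mulVec_add, Matrix.mulVec_smul,
      Matrix.mulVec_smul, Matrix.mulVec_smul, Matrix.mulVec_add, htx, hty, ht1, ht2, smul_smul, smul_smul,
      mul_comm α, mul_comm β] at h1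
    exact h1
  have hrel : ∀ d : F, d ≠ 0 → d ^ q = d → hermForm n F q s (γ • (x + y) + (d * α) • a + (d⁻¹ * β) • b) = 0 := by
    intro d hd0 hd
    by_contra hne
    exact hTT (TT_of_SG hF hs (htor d hd0 hd) hne)
  have hrel' : ∀ d : F, d ≠ 0 → d ^ q = d → α * (d⁻¹ * β ^ q) + β * (d * α ^ q) = 0 := by
    intro d hd0 hd
    have h1 := hrel d hd0 hd
    have hdi : d⁻¹ ^ q = d⁻¹ := by rw [inv_pow, hd]
    rw [hseq] at h1
    simp only [herm_add_left, herm_add_right hF, herm_smul_left, herm_smul_right, mul_pow, hd, hdi, hxx, hyy, hxa,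
      hax, haa, hyb, hby, hbb, hab, hba, hxb, hbx, hya, hay, mul_zero, add_zero, zero_add] at h1
    linear_combination h1 - γ * γ ^ q * hp0
  obtain ⟨d, hd, hd0, hd1, hd2⟩ := exists_fixed_elt hF hq
  have e1 := hrel' 1 one_ne_zero (one_pow q)
  have e2 := hrel' d hd0 hd
  have e3 : α * β ^ q * (d⁻¹ - d) = 0 := by
    rw [inv_one] at e1
    linear_combination e2 - d * e1
  have e4 : α = 0 ∨ β = 0 := by
    rcases mul_eq_zero.1 e3 with h | h
    · rcases mul_eq_zero.1 h with h | h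
      · exact Or.inl h
      · exact Or.inr ((pow_q_eq_zero hF).1 h)
    · exact absurd h hd2
  have hdif := hs.sub_left hF (htor d hd0 hd) (hrel d hd0 hd)
  rcases e4 with h0 | h0
  · -- `α = 0`
    by_cases hβ : β = 0
    · rw [hseq, h0, hβ, zero_smul, zero_smul, add_zero, add_zero] at hs
      have hγ0 : γ ≠ 0 := by
        rintro rfl
        apply hs0
        rw [hseq, h0, hβ]
        simp
      exact hTT (TT_of_SG_self hF hγ0 hs)
    · have e : s - (γ • (x + y) + (d * α) • a + (d⁻¹ * β) • b) = ((1 - d⁻¹) * β) • b := by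
        rw [hseq, h0]
        ext i
        simp only [Pi.add_apply, Pi.sub_apply, Pi.smul_apply, smul_eq_mul]
        ring
      rw [e] at hdif
      have hne : (1 - d⁻¹) * β ≠ 0 := by
        refine mul_ne_zero ?_ hβ
        intro h
        apply hd1
        field_simp at h
        linear_combination h
      have h1 := (hdif.of_smul_left hne).symm hF
      have hb0 : b ≠ 0 := by
        rintro rfl
        rw [herm_zero_right hF] at hab
        exact zero_ne_one hab
      have h2 := mem_of_SG hF hP HM hN hb hb0 h1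
      exact hy0 (hP.eq_zero (by simpa using X.sub_mem h2 hx) hy)
  · -- `β = 0`
    by_cases hα : α = 0
    · rw [hseq, h0, hα, zero_smul, zero_smul, add_zero, add_zero] at hs
      have hγ0 : γ ≠ 0 := by
        rintro rfl
        apply hs0
        rw [hseq, h0, hα]
        simp
      exact hTT (TT_of_SG_self hF hγ0 hs)
    · have e : s - (γ • (x + y) + (d * α) • a + (d⁻¹ * β) • b) = ((1 - d) * α) • a := by
        rw [hseq, h0]
        ext i
        simp only [Pi.add_apply, Pi.sub_apply, Pi.smul_apply, smul_eq_mul]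
        ring
      rw [e] at hdif
      have hne : (1 - d) * α ≠ 0 := by
        refine mul_ne_zero ?_ hα
        intro h
        apply hd1
        linear_combination -h
      have h1 := (hdif.of_smul_left hne).symm hF
      have h2 := mem_of_SG hF hP.symm HM.symm hN.symm ha ha0 h1
      exact hx0 (hP.eq_zero hx (by simpa using Y.sub_mem h2 hy))

/-- No mixed images with orthogonal components, `k = 2`, `q ≥ 4`. -/
theorem no_mixed_two_b (hF : Fintype.card F = q ^ 2) (hP : IsPair q X Y) (HM : Fixes q X Y M) (hN : NoTT q X Y M)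
    (hMS : M ≤ SUg n F q) (hX : Module.finrank F X = 2) (hY : Module.finrank F Y = 2) (hq : 4 ≤ q)
    {x y : Fin n → F} (hx : x ∈ X) (hy : y ∈ Y) (hx0 : x ≠ 0) (hy0 : y ≠ 0) (hxy : hermForm n F q x y = 0)
    (hI : Img X Y M (x + y)) : False := by
  have hyx : hermForm n F q y x = 0 := herm_eq_zero_swap hF hxy
  obtain ⟨s, hs0, hs⟩ := hI.exists_partner hF hP HM hMS (by omega) (by omega)
  obtain ⟨hsy, hsx⟩ := perp_of_SG hF hP HM hN hMS hx hy hx0 hy0 hI hs hx hy hx0 hy0 hxy hyx hxy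
  obtain ⟨sx, hsxm, sy, hsym, hsxy⟩ := hP.decomp s
  have h1 : hermForm n F q sx y = 0 := by
    rwa [hsxy, herm_add_left, hP.tsY sy hsym y hy, add_zero] at hsy
  have h2 : hermForm n F q sy x = 0 := by
    rwa [hsxy, herm_add_left, hP.tsX sx hsxm x hx, zero_add] at hsx
  -- `sx` is a multiple of `x`
  have h3 : ∀ {X Y : Submodule F (Fin n → F)} (_ : IsPair q X Y) (_ : Module.finrank F X = 2) {x y sx : Fin n → F}
      (_ : x ∈ X) (_ : y ∈ Y) (_ : x ≠ 0) (_ : y ≠ 0) (_ : hermForm n F q x y = 0) (_ : sx ∈ X)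
      (_ : hermForm n F q sx y = 0), ∃ α : F, sx = α • x := by
    intro X Y hP hX x y sx hx hy hx0 hy0 hxy hsx h1
    by_contra hcon
    push Not at hcon
    have hind : LinearIndependent F ![x, sx] := by
      rw [LinearIndependent.pair_iff]
      intro c d h
      by_cases hd : d = 0
      · refine ⟨?_, hd⟩
        rw [hd, zero_smul, add_zero] at h
        exact (smul_eq_zero.1 h).resolve_right hx0
      · exfalso
        apply hcon (-(d⁻¹ * c))
        have h5 : d • sx = -(c • x) := by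
          rw [eq_neg_iff_add_eq_zero, add_comm]
          exact h
        have h6 := congrArg (fun v => d⁻¹ • v) h5
        simp only [smul_smul, inv_mul_cancel₀ hd, one_smul, smul_neg] at h6
        rw [h6, neg_smul]
    obtain ⟨z, hz, hzy⟩ := hP.symm.exists_ne' hF hy hy0
    obtain ⟨c, d, rfl⟩ := exists_coords hX hx hsx hind hz
    apply hzy
    rw [herm_add_left, herm_smul_left, herm_smul_left, hxy, h1]
    ring
  obtain ⟨α, hα⟩ := h3 hP hX hx hy hx0 hy0 hxy hsxm h1
  obtain ⟨β, hβ⟩ := h3 hP.symm hY hy hx hy0 hx0 hyx hsym h2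
  have hse : s = α • x + β • y := by rw [hsxy, hα, hβ]
  have hα0 : α ≠ 0 := by
    rintro rfl
    rw [zero_smul, zero_add] at hse
    have hβ0 : β ≠ 0 := by
      rintro rfl
      exact hs0 (by rw [hse, zero_smul])
    rw [hse] at hs
    have h4 := mem_of_SG hF hP HM hN hy hy0 ((hs.of_smul_left hβ0).symm hF)
    exact hy0 (hP.eq_zero (by simpa using X.sub_mem h4 hx) hy)
  obtain ⟨z, hz, hzx⟩ := hP.exists_ne' hF hx hx0
  obtain ⟨η, hη⟩ := exists_not_fixed hF
  obtain ⟨g, hg, hgx⟩ := hs.2.2.2 (η / α)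
  have hz0 : z ≠ 0 := by
    rintro rfl
    exact hzx (herm_zero_left x)
  have hgz : (g : Matrix (Fin n) (Fin n) F) *ᵥ z = (hermForm n F q z x * (η - η ^ q)) • x +
      (z + (hermForm n F q z x * (η / α * β - η ^ q)) • y) := by
    rw [hgx, hse, herm_add_right hF, herm_add_right hF, herm_smul_right, herm_smul_right, hP.tsY z hz y hy]
    have e1 : (η / α) * α = η := by field_simp
    have e2 : (η / α) ^ q * α ^ q = η ^ q := by rw [← mul_pow, e1]
    ext i
    simp only [Pi.add_apply, Pi.sub_apply, Pi.smul_apply, smul_eq_mul]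
    linear_combination (hermForm n F q z x * x i) * e1 - (hermForm n F q z x * (x i + y i)) * e2
  have hI2 : Img X Y M ((g : Matrix (Fin n) (Fin n) F) *ᵥ z) := ⟨g, hg, z, Or.inr hz, hz0, rfl⟩
  rw [hgz] at hI2
  refine no_mixed_two_a hF hP HM hN hMS hX hY hq (X.smul_mem _ hx) (Y.add_mem hz (Y.smul_mem _ hy)) ?_ hI2
  rw [herm_smul_left, herm_add_right hF, herm_smul_right, hxy, mul_zero, add_zero]
  refine mul_ne_zero (mul_ne_zero hzx (sub_ne_zero.2 (Ne.symm hη))) ?_
  intro h0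
  exact hzx (herm_eq_zero_swap hF h0)

/-- An element mapping `X ∪ Y` into itself preserves or interchanges `X` and `Y`. -/
theorem false_of_union (hP : IsPair q X Y) (hX : 1 ≤ Module.finrank F X)
    (hY : 1 ≤ Module.finrank F Y) {g : GL (Fin n) F}
    (hg1 : ¬ ((∀ x ∈ X, (g : Matrix (Fin n) (Fin n) F) *ᵥ x ∈ X) ∧ ∀ y ∈ Y, (g : Matrix (Fin n) (Fin n) F) *ᵥ y ∈ Y))
    (hg2 : ¬ ((∀ x ∈ X, (g : Matrix (Fin n) (Fin n) F) *ᵥ x ∈ Y) ∧ ∀ y ∈ Y, (g : Matrix (Fin n) (Fin n) F) *ᵥ y ∈ X))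
    (c1 : ∀ u ∈ X, (g : Matrix (Fin n) (Fin n) F) *ᵥ u ∈ X ∨ (g : Matrix (Fin n) (Fin n) F) *ᵥ u ∈ Y)
    (c2 : ∀ w ∈ Y, (g : Matrix (Fin n) (Fin n) F) *ᵥ w ∈ X ∨ (g : Matrix (Fin n) (Fin n) F) *ᵥ w ∈ Y) : False := by
  have d1 := forall_or (Matrix.mulVecLin (g : Matrix (Fin n) (Fin n) F)) c1
  have d2 := forall_or (Matrix.mulVecLin (g : Matrix (Fin n) (Fin n) F)) c2
  have hall : ∀ Z : Submodule F (Fin n → F), (∀ x ∈ X, (g : Matrix (Fin n) (Fin n) F) *ᵥ x ∈ Z) →
      (∀ y ∈ Y, (g : Matrix (Fin n) (Fin n) F) *ᵥ y ∈ Z) → ∀ v, v ∈ Z := by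
    intro Z h1 h2 v
    obtain ⟨x, hx, y, hy, hxy⟩ := hP.decomp (((g⁻¹ : GL (Fin n) F) : Matrix (Fin n) (Fin n) F) *ᵥ v)
    have := mulVec_inv g v
    rw [← this, hxy, Matrix.mulVec_add]
    exact Z.add_mem (h1 x hx) (h2 y hy)
  have hX0 : ∃ x ∈ X, x ≠ 0 := Submodule.exists_mem_ne_zero_of_ne_bot (by
    rintro rfl
    rw [finrank_bot] at hX
    omega)
  have hY0 : ∃ x ∈ Y, x ≠ 0 := Submodule.exists_mem_ne_zero_of_ne_bot (by
    rintro rfl
    rw [finrank_bot] at hY
    omega)
  rcases d1 with d1 | d1 <;> rcases d2 with d2 | d2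
  · obtain ⟨y, hy, hy0⟩ := hY0
    exact hy0 (hP.eq_zero (hall X d1 d2 y) hy)
  · exact hg1 ⟨d1, d2⟩
  · exact hg2 ⟨d1, d2⟩
  · obtain ⟨x, hx, hx0⟩ := hX0
    exact hx0 (hP.eq_zero hx (hall Y d1 d2 x))

/-- No mixed images. -/
theorem no_mixed (hF : Fintype.card F = q ^ 2) (hP : IsPair q X Y) (HM : Fixes q X Y M) (hN : NoTT q X Y M)
    (hMS : M ≤ SUg n F q) {k : ℕ} (hX : Module.finrank F X = k) (hY : Module.finrank F Y = k) (hk : 2 ≤ k)
    (hq : k = 2 → 4 ≤ q) {w : Fin n → F} (hw : w ∈ Y) {m : GL (Fin n) F} (hm : m ∈ M) :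
    (m : Matrix (Fin n) (Fin n) F) *ᵥ w ∈ X ∨ (m : Matrix (Fin n) (Fin n) F) *ᵥ w ∈ Y := by
  by_cases hw0 : w = 0
  · left
    rw [hw0, Matrix.mulVec_zero]
    exact X.zero_mem
  obtain ⟨x, hx, y, hy, hxy⟩ := hP.decomp ((m : Matrix (Fin n) (Fin n) F) *ᵥ w)
  rw [hxy]
  by_contra hcon
  push Not at hcon
  have hx0 : x ≠ 0 := by
    rintro rfl
    apply hcon.2
    rwa [zero_add]
  have hy0 : y ≠ 0 := by
    rintro rfl
    apply hcon.1
    rwa [add_zero]
  by_cases h3 : 3 ≤ k
  · exact no_mixed_three hF hP HM hN hMS (by omega) (by omega) hx hy hx0 hy0 hw hw0 hm hxy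
  have hk2 : k = 2 := by omega
  have hI : Img X Y M (x + y) := ⟨m, hm, w, Or.inr hw, hw0, hxy⟩
  by_cases h0 : hermForm n F q x y = 0
  · exact no_mixed_two_b hF hP HM hN hMS (by omega) (by omega) (hq hk2) hx hy hx0 hy0 h0 hI
  · exact no_mixed_two_a hF hP HM hN hMS (by omega) (by omega) (hq hk2) hx hy h0 hI

theorem SUg_le_of_pair (hF : Fintype.card F = q ^ 2) (h32 : ¬ (n = 3 ∧ q = 2)) (hP : IsPair q X Y)
    {k : ℕ} (hX : Module.finrank F X = k) (hY : Module.finrank F Y = k) (hk : 2 ≤ k)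
    (hq : k = 2 → 4 ≤ q) (HM : Fixes q X Y M)
    (HS : Swaps q X Y M) (hMS : M ≤ SUg n F q) {g : GL (Fin n) F} (hg : g ∈ M)
    (hg1 : ¬ ((∀ x ∈ X, (g : Matrix (Fin n) (Fin n) F) *ᵥ x ∈ X) ∧ ∀ y ∈ Y, (g : Matrix (Fin n) (Fin n) F) *ᵥ y ∈ Y))
    (hg2 : ¬ ((∀ x ∈ X, (g : Matrix (Fin n) (Fin n) F) *ᵥ x ∈ Y) ∧ ∀ y ∈ Y, (g : Matrix (Fin n) (Fin n) F) *ᵥ y ∈ X)) :
    SUg n F q ≤ M := by
  by_cases hN : NoTT q X Y M
  · exact (false_of_union hP (by omega) (by omega) hg1 hg2
      (fun u hu => (no_mixed hF hP.symm HM.symm hN.symm hMS hY hX hk hq hu hg).symm)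
      (fun w hw => no_mixed hF hP HM hN hMS hX hY hk hq hw hg)).elim
  · by_cases h1 : ∀ w ∈ Y, w ≠ 0 → ¬ TT q M w
    · by_cases h2 : ∀ w ∈ X, w ≠ 0 → ¬ TT q M w
      · exact absurd ⟨h2, h1⟩ hN
      · push Not at h2
        obtain ⟨w, hw, hw0, hT⟩ := h2
        exact SUg_le_of_center hF h32 hP.symm (by rw [hX, hY]) HM.symm HS.symm hMS hw hw0 hT
    · push Not at h1
      obtain ⟨w, hw, hw0, hT⟩ := h1
      exact SUg_le_of_center hF h32 hP (by rw [hX, hY]) HM HS hMS hw hw0 hT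

/-- **The stabiliser in `SU_n(q)` of a pair of complementary totally singular subspaces of dimension `k ≥ 2` is
maximal**, except possibly for `k = 2`, `q ≤ 3`. -/
theorem pair_maximal (hF : Fintype.card F = q ^ 2) {k : ℕ} (hk : 2 ≤ k) (hq : k = 2 → 4 ≤ q)
    {D : Fin 2 → Submodule F (Fin n → F)} (hD : IsMDecomposition k D)
    (hts : ∀ i, IsTotallySingularFor (hermForm n F q) (D i)) :
    IsMaximalIn (SUg n F q) (decompositionStabilizer D ⊓ SUg n F q) := by
  have h4 : 4 ≤ n := by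
    have hP := isPair_of_decomp hD hts
    have h1 := Submodule.finrank_add_eq_of_isCompl hP.compl
    rw [hD.finrank_eq, hD.finrank_eq, Module.finrank_fin_fun] at h1
    omega
  have h32 : ¬ (n = 3 ∧ q = 2) := by omega
  refine pair_maximal_of hF (by omega) h32 hD hts ?_
  intro X Y M hP hX hY HM HS hMS g hg hg1 hg2
  exact SUg_le_of_pair hF h32 hP hX hY hk hq HM HS hMS hg hg1 hg2

end Cfsg.Agent.H877
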